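import Cfsg.Agent.Lib.Classical.AutPSL.Kinds
import Cfsg.Prelude.Def_KGroupFacts

/-!
Automorphisms of `PSL_n(q)`, part 5: the order of the automorphism group and the structure of the
outer automorphism group.
-/

set_option autoImplicit false

namespace Cfsg.Agent.Lib.Classical.AutPSL

open Matrix

variable {n : ℕ} {F : Type*} [Field F]

local notation "SLn" => Matrix.SpecialLinearGroup (Fin n) F
local notation "PSLn" => Matrix.ProjectiveSpecialLinearGroup (Fin n) F
local notation "Mat" => Matrix (Fin n) (Fin n) F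

theorem conjSL_center {g : GL (Fin n) F} (hg : g ∈ Subgroup.center (GL (Fin n) F)) (s : SLn) :
    conjSL g s = s := by
  refine sl_ext ?_
  have h := congrArg (fun u : GL (Fin n) F => (u : Mat))
    (Subgroup.mem_center_iff.mp hg (Matrix.SpecialLinearGroup.toGL s))
  simp only [Units.val_mul, Matrix.SpecialLinearGroup.coe_GL_coe_matrix] at h
  rw [conjSL_coe, ← h, mul_assoc, ← Units.val_mul, mul_inv_cancel, Units.val_one, mul_one]

theorem dia_center {g : GL (Fin n) F} (hg : g ∈ Subgroup.center (GL (Fin n) F)) : dia g = 1 := by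
  refine eq_one_of_fix_et fun i j hij c => ?_
  rw [dia_proj, conjSL_center hg]

theorem conjSL_et_apply (g : GL (Fin n) F) {i j : Fin n} (hij : i ≠ j) (c : F) (r s : Fin n) :
    (conjSL g (et i j hij c) : Mat) r s =
      (1 : Mat) r s + c * (g : Mat) r i * ((g⁻¹ : GL (Fin n) F) : Mat) j s := by
  rw [et, conjSL_tvs, tvs_coe, Matrix.add_apply, Matrix.smul_apply, vecMulVec_apply,
    Matrix.mulVec_single_one, Matrix.single_one_vecMul]
  simp [Matrix.row, Matrix.col, mul_assoc]

theorem invTrSL_et {i j : Fin n} (hij : i ≠ j) (c : F) :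
    invTrSL (et i j hij c) = et j i hij.symm (-c) := by
  rw [et, invTrSL_tvs, et]

theorem slCongr_et (σ : F ≃+* F) {i j : Fin n} (hij : i ≠ j) (c : F) :
    slCongr σ (et i j hij c) = et i j hij (σ c) := by
  refine sl_ext ?_
  rw [et_coe, slCongr_coe, et_coe]
  ext r s
  simp [Matrix.one_apply, Matrix.single_apply, apply_ite σ]

/-- The hom on `Multiplicative (ZMod 2)` given by inverse transpose. -/
noncomputable def graphHom : Multiplicative (ZMod 2) →* MulAut PSLn where
  toFun e := if e = 1 then 1 else invTr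
  map_one' := if_pos rfl
  map_mul' a b := by
    have h2 : ∀ x : Multiplicative (ZMod 2), x = 1 ∨ x = Multiplicative.ofAdd 1 := by decide
    have hne : (Multiplicative.ofAdd (1 : ZMod 2)) ≠ 1 := by decide
    have hsq : (Multiplicative.ofAdd (1 : ZMod 2)) * Multiplicative.ofAdd 1 = 1 := by decide
    rcases h2 a with rfl | rfl <;> rcases h2 b with rfl | rfl <;>
      simp [hne, hsq, invTr_mul_self]

theorem invTr_fld (σ : F ≃+* F) : invTr * fld σ = fld σ * (invTr : MulAut PSLn) := by
  ext x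
  obtain ⟨s, rfl⟩ := proj_surjective x
  rw [MulAut.mul_apply, MulAut.mul_apply, fld_proj, invTr_proj, invTr_proj, fld_proj,
    ← map_inv (slCongr σ)]
  exact congrArg proj (sl_ext (Matrix.ext fun i j => rfl))

/-- Field and graph automorphisms. -/
noncomputable def outerPart : (F ≃+* F) × Multiplicative (ZMod 2) →* MulAut PSLn :=
  MonoidHom.noncommCoprod fld graphHom fun σ e => by
    show fld σ * graphHom e = graphHom e * fld σ
    show fld σ * (if e = 1 then 1 else invTr) = (if e = 1 then 1 else invTr) * fld σ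
    split_ifs
    · rw [mul_one, one_mul]
    · rw [invTr_fld]

theorem fld_conj_dia (σ : F ≃+* F) (g : GL (Fin n) F) :
    fld σ * dia g * (fld σ)⁻¹ ∈ (dia (n := n) (F := F)).range := by
  let g' : GL (Fin n) F := Units.map (RingHom.toMonoidHom σ.toRingHom.mapMatrix) g
  refine ⟨g', ?_⟩
  rw [eq_mul_inv_iff_mul_eq]
  ext x
  obtain ⟨s, rfl⟩ := proj_surjective x
  rw [MulAut.mul_apply, MulAut.mul_apply, fld_proj, dia_proj, dia_proj, fld_proj]
  refine congrArg proj (sl_ext ?_)
  rw [conjSL_coe, slCongr_coe, slCongr_coe, conjSL_coe, Matrix.map_mul, Matrix.map_mul]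
  rfl

theorem invTr_conj_dia (g : GL (Fin n) F) :
    invTr * dia g * (invTr : MulAut PSLn)⁻¹ ∈ (dia (n := n) (F := F)).range := by
  let g' : GL (Fin n) F :=
    ⟨((g⁻¹ : GL (Fin n) F) : Mat).transpose, (g : Mat).transpose,
      by rw [← Matrix.transpose_mul, ← Units.val_mul, mul_inv_cancel, Units.val_one, Matrix.transpose_one],
      by rw [← Matrix.transpose_mul, ← Units.val_mul, inv_mul_cancel, Units.val_one, Matrix.transpose_one]⟩
  refine ⟨g', ?_⟩
  rw [eq_mul_inv_iff_mul_eq]
  ext x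
  obtain ⟨s, rfl⟩ := proj_surjective x
  rw [MulAut.mul_apply, MulAut.mul_apply, invTr_proj, dia_proj, dia_proj, invTr_proj,
    ← map_inv (conjSL g)]
  refine congrArg proj (sl_ext ?_)
  rw [conjSL_coe, Matrix.SpecialLinearGroup.coe_transpose, Matrix.SpecialLinearGroup.coe_transpose,
    conjSL_coe, Matrix.transpose_mul, Matrix.transpose_mul, mul_assoc]
  rfl

theorem outerPart_normalizes (d : (F ≃+* F) × Multiplicative (ZMod 2)) :
    ∀ m ∈ (dia (n := n) (F := F)).range,
      outerPart d * m * (outerPart d)⁻¹ ∈ (dia (n := n) (F := F)).range := by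
  rintro _ ⟨g, rfl⟩
  have hsplit : outerPart (n := n) d = fld d.1 * graphHom d.2 := rfl
  rw [hsplit]
  have h1 : graphHom d.2 * dia g * (graphHom (n := n) (F := F) d.2)⁻¹ ∈ (dia (n := n) (F := F)).range := by
    show (if d.2 = 1 then 1 else invTr) * dia g * (if d.2 = 1 then 1 else invTr)⁻¹ ∈ _
    split_ifs
    · simp
    · exact invTr_conj_dia g
  obtain ⟨g₁, hg₁⟩ := h1
  rw [show fld d.1 * graphHom d.2 * dia g * (fld d.1 * graphHom d.2)⁻¹ =
    fld d.1 * (graphHom d.2 * dia g * (graphHom d.2)⁻¹) * (fld d.1)⁻¹ by group, ← hg₁]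
  exact fld_conj_dia d.1 g₁

/-- The kernel of the parametrisation. -/
theorem eq_one_of_param (hn : 2 ≤ n) {g : GL (Fin n) F} {σ : F ≃+* F} {e : Multiplicative (ZMod 2)}
    (he : e = 1 ∨ 3 ≤ n) (p : ℕ) [Fact p.Prime] [CharP F p]
    (h : dia g * outerPart (n := n) (σ, e) = 1) :
    σ = 1 ∧ e = 1 ∧ g ∈ Subgroup.center (GL (Fin n) F) := by
  have he1 : e = 1 := by
    by_contra hne
    have h3 : 3 ≤ n := he.resolve_left hne
    have hfix : ∀ i j (hij : i ≠ j), conjSL g (et j i hij.symm (-1)) = et i j hij 1 := by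
      intro i j hij
      have happ : (dia g * outerPart (σ, e) : MulAut PSLn) (proj (et i j hij 1)) =
          proj (et i j hij 1) := by rw [h]; rfl
      rw [show outerPart (n := n) (σ, e) = fld σ * invTr from by
        show fld σ * (if e = 1 then 1 else invTr) = _; rw [if_neg hne],
        MulAut.mul_apply, MulAut.mul_apply] at happ
      rw [show invTr (proj (et i j hij (1 : F))) = proj (et j i hij.symm (-1)) from
        congrArg proj (invTrSL_et hij 1), fld_proj, slCongr_et, map_neg, map_one, dia_proj] at happ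
      refine eq_of_proj_eq p ?_ (tvs_pow_char p _ _) happ
      rw [← map_pow, et, tvs_pow_char p, map_one]
    obtain ⟨j, k, hij, hik, hjk⟩ := exists_ne_ne h3 (⟨0, by omega⟩ : Fin n)
    set i : Fin n := ⟨0, by omega⟩
    have e1 := congrArg (fun M : SLn => (M : Mat) i j) (hfix i j hij)
    have e2 := congrArg (fun M : SLn => (M : Mat) i k) (hfix i j hij)
    have e3 := congrArg (fun M : SLn => (M : Mat) i k) (hfix i k hik)
    simp [conjSL_et_apply, et_coe, hij, hik, Matrix.single_apply, hjk] at e1 e2 e3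
    rcases e2 with h' | h' <;> simp [h'] at e1 e3
  subst he1
  rw [show outerPart (n := n) (σ, (1 : Multiplicative (ZMod 2))) = fld σ from by
    show fld σ * (if (1 : Multiplicative (ZMod 2)) = 1 then 1 else invTr) = _
    rw [if_pos rfl, mul_one]] at h
  have hfix : ∀ i j (hij : i ≠ j) (c : F), conjSL g (et i j hij (σ c)) = et i j hij c := by
    intro i j hij c
    have happ : (dia g * fld σ : MulAut PSLn) (proj (et i j hij c)) = proj (et i j hij c) := by
      rw [h]; rfl
    rw [MulAut.mul_apply, fld_proj, slCongr_et, dia_proj] at happ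
    refine eq_of_proj_eq p ?_ (tvs_pow_char p _ _) happ
    rw [← map_pow, et, tvs_pow_char p, map_one]
  set G := (g : Mat) with hG
  set H := ((g⁻¹ : GL (Fin n) F) : Mat) with hH
  have hentry : ∀ i j (hij : i ≠ j) c r s, σ c * G r i * H j s = Matrix.single i j c r s := by
    intro i j hij c r s
    have h' := congrArg (fun M : SLn => (M : Mat) r s) (hfix i j hij c)
    simp only [conjSL_et_apply, et_coe, Matrix.add_apply, add_right_inj] at h'
    exact h'
  have : Nontrivial (Fin n) := Fin.nontrivial_iff_two_le.mpr hn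
  have hdiag : ∀ i j, i ≠ j → G i i * H j j = 1 := fun i j hij => by
    simpa using hentry i j hij 1 i j
  have hoff : ∀ r i, r ≠ i → G r i = 0 := by
    intro r i hri
    obtain ⟨j, hj⟩ := exists_ne i
    have h0 := hentry i j hj.symm 1 r j
    simp [Matrix.single_apply, hri.symm] at h0
    exact h0.resolve_right fun e => by simpa [e] using hdiag i j hj.symm
  have hGH : G * H = 1 := by rw [hG, hH, ← Units.val_mul, mul_inv_cancel, Units.val_one]
  have hjj : ∀ j, G j j * H j j = 1 := by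
    intro j
    have := congrFun (congrFun hGH j) j
    rwa [Matrix.mul_apply, Matrix.one_apply_eq, Finset.sum_eq_single j
      (fun k _ hk => by rw [hoff j k hk.symm, zero_mul]) (fun h' => absurd (Finset.mem_univ j) h')] at this
  have heq : ∀ i j, G i i = G j j := by
    intro i j
    by_cases hij : i = j
    · rw [hij]
    · exact mul_right_cancel₀ (right_ne_zero_of_mul_eq_one (hjj j)) ((hdiag i j hij).trans (hjj j).symm)
  refine ⟨RingEquiv.ext fun c => ?_, rfl, ?_⟩
  · obtain ⟨i, j, hij⟩ := exists_pair_ne (Fin n)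
    have := hentry i j hij c i j
    rwa [mul_assoc, hdiag i j hij, mul_one, Matrix.single_apply_same] at this
  · rw [Subgroup.mem_center_iff]
    intro x
    refine Units.ext ?_
    rw [Units.val_mul, Units.val_mul, ← hG]
    have hs : G = Matrix.scalar (Fin n) (G ⟨0, by omega⟩ ⟨0, by omega⟩) := by
      ext r s
      by_cases hrs : r = s
      · subst hrs; simp [heq r ⟨0, by omega⟩]
      · simp [hoff r s hrs, hrs]
    rw [hs]
    exact ((Matrix.scalar_commute _ (fun r => Commute.all _ r) _).eq).symm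

/-! ### The outer part -/

variable [Fintype F]

/-- Ring automorphisms are the automorphisms over the prime field. -/
def galEquiv (p : ℕ) [CharP F p] [Algebra (ZMod p) F] : (F ≃ₐ[ZMod p] F) ≃* (F ≃+* F) where
  toFun σ := σ.toRingEquiv
  invFun σ := AlgEquiv.ofRingEquiv (f := σ) fun x =>
    RingHom.congr_fun (RingHom.ext_zmod (σ.toRingHom.comp (algebraMap (ZMod p) F)) (algebraMap (ZMod p) F)) x
  left_inv σ := AlgEquiv.ext fun x => rfl
  right_inv σ := RingEquiv.ext fun x => rfl
  map_mul' σ τ := RingEquiv.ext fun x => rfl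

theorem gal_cyclic_card {p f : ℕ} [Fact p.Prime] [CharP F p] (hF : Fintype.card F = p ^ f) :
    IsCyclic (F ≃+* F) ∧ Nat.card (F ≃+* F) = f := by
  letI := ZMod.algebra F p
  refine ⟨isCyclic_of_surjective (galEquiv p (F := F)).toMonoidHom (galEquiv p (F := F)).surjective, ?_⟩
  rw [← Nat.card_congr (galEquiv p (F := F)).toEquiv, IsGalois.card_aut_eq_finrank]
  have h := Module.natCard_eq_pow_finrank (K := ZMod p) (V := F)
  rw [Nat.card_eq_fintype_card, Nat.card_zmod, hF] at h
  exact (Nat.pow_right_injective (Fact.out : p.Prime).two_le h).symm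

theorem nonempty_gal_equiv {p f : ℕ} [Fact p.Prime] [CharP F p] (hF : Fintype.card F = p ^ f) :
    Nonempty ((F ≃+* F) ≃* Multiplicative (ZMod f)) := by
  obtain ⟨hc, hcard⟩ := gal_cyclic_card (F := F) hF
  exact ⟨mulEquivOfCyclicCardEq (by rw [hcard, Nat.card_congr Multiplicative.toAdd, Nat.card_zmod])⟩

theorem ker_dia (hn : 2 ≤ n) (p : ℕ) [Fact p.Prime] [CharP F p] :
    (dia (n := n) (F := F)).ker = Subgroup.center (GL (Fin n) F) := by
  refine le_antisymm (fun g hg => ?_) fun g hg => dia_center hg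
  refine (eq_one_of_param hn (σ := 1) (e := 1) (Or.inl rfl) p ?_).2.2
  rw [MonoidHom.mem_ker.mp hg, one_mul]
  exact map_one _

theorem card_range_dia (hn : 2 ≤ n) (p : ℕ) [Fact p.Prime] [CharP F p] :
    Nat.card (dia (n := n) (F := F)).range = Nat.card (Matrix.ProjGenLinGroup (Fin n) F) := by
  rw [← Nat.card_congr (QuotientGroup.quotientKerEquivRange (dia (n := n) (F := F))).toEquiv,
    ker_dia hn p]
  rfl

theorem conj_eq_dia (s : SLn) :
    MulAut.conj (proj s) = dia (Matrix.SpecialLinearGroup.toGL s) := by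
  ext x
  obtain ⟨t, rfl⟩ := proj_surjective x
  rw [dia_proj, MulAut.conj_apply, ← map_inv, ← map_mul, ← map_mul]
  refine congrArg proj (sl_ext ?_)
  rw [conjSL_coe, Matrix.SpecialLinearGroup.coe_mul, Matrix.SpecialLinearGroup.coe_mul,
    ← map_inv Matrix.SpecialLinearGroup.toGL]
  rfl

theorem inn_le_range : Cfsg.Inn PSLn ≤ (dia (n := n) (F := F)).range := by
  rintro _ ⟨x, rfl⟩
  obtain ⟨s, rfl⟩ := proj_surjective x
  exact ⟨_, (conj_eq_dia s).symm⟩

theorem card_inn (hn : 2 ≤ n) (p : ℕ) [Fact p.Prime] [CharP F p] :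
    Nat.card (Cfsg.Inn PSLn) = Nat.card PSLn := by
  refine (Nat.card_congr (MonoidHom.ofInjective ?_).toEquiv).symm
  rw [injective_iff_map_eq_one]
  intro x hx
  obtain ⟨s, rfl⟩ := proj_surjective x
  rw [conj_eq_dia, ← MonoidHom.mem_ker, ker_dia hn p, Subgroup.mem_center_iff] at hx
  rw [proj_eq_one, Subgroup.mem_center_iff]
  intro t
  exact Matrix.SpecialLinearGroup.toGL_injective (by rw [map_mul, map_mul]; exact hx _)

/-- The quotient by the inner-diagonal automorphisms, for a parametrising group `D`. -/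
theorem exists_quotient_iso (hn : 2 ≤ n) {D : Type*} [Group D] (p : ℕ) [Fact p.Prime] [CharP F p]
    (J : D →* (F ≃+* F) × Multiplicative (ZMod 2)) (hJ : Function.Injective J)
    (hJn : ∀ d, (J d).2 = 1 ∨ 3 ≤ n)
    (hall : ∀ σ e, (e = 1 ∨ 3 ≤ n) → ∃ d, J d = (σ, e)) :
    ∃ _ : (dia (n := n) (F := F)).range.Normal,
      Nonempty ((MulAut PSLn ⧸ (dia (n := n) (F := F)).range) ≃* D) := by
  set N := (dia (n := n) (F := F)).range
  have hdec : ∀ β : MulAut PSLn, ∃ g d, β = dia g * outerPart (J d) := by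
    intro β
    obtain ⟨g, σ, h | ⟨h3, h⟩⟩ := decomposition p hn β
    · obtain ⟨d, hd⟩ := hall σ 1 (Or.inl rfl)
      refine ⟨g, d, ?_⟩
      rw [hd, h]
      show _ = dia g * (fld σ * if (1 : Multiplicative (ZMod 2)) = 1 then 1 else invTr)
      rw [if_pos rfl, mul_one]
    · obtain ⟨d, hd⟩ := hall σ (Multiplicative.ofAdd 1) (Or.inr h3)
      refine ⟨g, d, ?_⟩
      rw [hd, h, mul_assoc]
      show _ = dia g * (fld σ * if (Multiplicative.ofAdd (1 : ZMod 2)) = 1 then 1 else invTr)
      rw [if_neg (by decide)]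
  have hN : N.Normal := ⟨fun m hm β => by
    obtain ⟨g, d, rfl⟩ := hdec β
    rw [show dia g * outerPart (J d) * m * (dia g * outerPart (J d))⁻¹ =
      dia g * (outerPart (J d) * m * (outerPart (J d))⁻¹) * (dia g)⁻¹ by group]
    exact mul_mem (mul_mem ⟨g, rfl⟩ (outerPart_normalizes (J d) m hm)) (inv_mem ⟨g, rfl⟩)⟩
  refine ⟨hN, ⟨(MulEquiv.ofBijective ((QuotientGroup.mk' N).comp (outerPart.comp J)) ⟨?_, ?_⟩).symm⟩⟩
  · rw [injective_iff_map_eq_one]
    intro d hd
    obtain ⟨g, hg⟩ := (QuotientGroup.eq_one_iff _).mp hd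
    have h1 : dia g⁻¹ * outerPart (J d) = (1 : MulAut PSLn) := by
      rw [map_inv, hg]; exact inv_mul_cancel _
    obtain ⟨e1, e2, -⟩ := eq_one_of_param hn (σ := (J d).1) (e := (J d).2) (hJn d) p h1
    exact hJ ((Prod.ext e1 e2).trans (map_one J).symm)
  · intro x
    obtain ⟨β, rfl⟩ := QuotientGroup.mk'_surjective N x
    obtain ⟨g, d, rfl⟩ := hdec β
    refine ⟨d, ?_⟩
    rw [map_mul, (QuotientGroup.eq_one_iff _).mpr (⟨g, rfl⟩ : dia g ∈ N) |> fun h => (show
      QuotientGroup.mk' N (dia g) = 1 from h), one_mul]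
    rfl

theorem card_mulAut (hn : 2 ≤ n) (p : ℕ) [Fact p.Prime] [CharP F p] {D : Type*} [Group D]
    (h : ∃ _ : (dia (n := n) (F := F)).range.Normal,
      Nonempty ((MulAut PSLn ⧸ (dia (n := n) (F := F)).range) ≃* D)) :
    Nat.card (MulAut PSLn) = Nat.card D * Nat.card (Matrix.ProjGenLinGroup (Fin n) F) := by
  obtain ⟨hN, ⟨e⟩⟩ := h
  rw [Subgroup.card_eq_card_quotient_mul_card_subgroup (dia (n := n) (F := F)).range,
    Nat.card_congr e.toEquiv, card_range_dia hn p]

theorem out_structure (hn : 2 ≤ n) (p : ℕ) [Fact p.Prime] [CharP F p] {D D' : Type*} [Group D]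
    [Group D'] (h : ∃ _ : (dia (n := n) (F := F)).range.Normal,
      Nonempty ((MulAut PSLn ⧸ (dia (n := n) (F := F)).range) ≃* D)) (t : D ≃* D') :
    ∃ φ : Cfsg.Out PSLn →* D', Function.Surjective φ ∧ IsCyclic φ.ker ∧
      Nat.card φ.ker = Nat.gcd n (Fintype.card F - 1) := by
  obtain ⟨hN, ⟨e⟩⟩ := h
  set N := (dia (n := n) (F := F)).range
  let ψ : MulAut PSLn →* D' := (e.trans t).toMonoidHom.comp (QuotientGroup.mk' N)
  have hψ : ψ.ker = N := by
    ext x
    rw [MonoidHom.mem_ker, MonoidHom.comp_apply, MulEquiv.coe_toMonoidHom,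
      MulEquiv.map_eq_one_iff, ← MonoidHom.mem_ker, QuotientGroup.ker_mk']
  let φ : Cfsg.Out PSLn →* D' := QuotientGroup.lift (Cfsg.Inn PSLn) ψ
    (fun x hx => (hψ.symm ▸ inn_le_range hx : x ∈ ψ.ker))
  have hφ : Function.Surjective φ := by
    intro y
    obtain ⟨z, hz⟩ := QuotientGroup.mk'_surjective N ((e.trans t).symm y)
    refine ⟨QuotientGroup.mk z, ?_⟩
    show (e.trans t) (QuotientGroup.mk' N z) = y
    rw [hz, MulEquiv.apply_symm_apply]
  refine ⟨φ, hφ, ?_, ?_⟩
  · have hz : (⟨0, by omega⟩ : Fin n) = ⟨0, by omega⟩ := rfl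
    let z : Fin n := ⟨0, by omega⟩
    let κ : Fˣ →* φ.ker := (((QuotientGroup.mk' (Cfsg.Inn PSLn)).comp (dia.comp
      (MonoidHom.mk' (fun u : Fˣ => diag1n z u) fun u v => Units.ext (by
        show Matrix.diagonal _ = Matrix.diagonal _ * Matrix.diagonal _
        rw [Matrix.diagonal_mul_diagonal]
        congr 1; funext k; split_ifs <;> simp)))).codRestrict _ fun u => by
      rw [MonoidHom.mem_ker]
      show ψ (dia _) = 1
      rw [← MonoidHom.mem_ker, hψ]
      exact ⟨_, rfl⟩)
    refine isCyclic_of_surjective κ ?_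
    rintro ⟨x, hx⟩
    obtain ⟨β, rfl⟩ := QuotientGroup.mk'_surjective (Cfsg.Inn PSLn) x
    have hβ : β ∈ N := by rw [← hψ]; exact hx
    obtain ⟨g, rfl⟩ := hβ
    refine ⟨GeneralLinearGroup.det g, Subtype.ext ?_⟩
    show QuotientGroup.mk' (Cfsg.Inn PSLn) (dia (diag1n z _)) = _
    rw [QuotientGroup.mk'_eq_mk']
    set d := diag1n z (GeneralLinearGroup.det g)
    obtain ⟨s, hs⟩ : d⁻¹ * g ∈ (Matrix.SpecialLinearGroup.toGL (n := Fin n) (R := F)).range := by
      rw [range_toGL_eq_ker_det, MonoidHom.mem_ker, map_mul, map_inv, inv_mul_eq_one]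
      refine Units.ext ?_
      show (Matrix.diagonal fun k : Fin n => if k = z then ((GeneralLinearGroup.det g : Fˣ) : F) else 1).det = _
      simp [Matrix.det_diagonal]
    exact ⟨dia (Matrix.SpecialLinearGroup.toGL s), ⟨proj s, conj_eq_dia s⟩, by
      rw [← map_mul, hs, mul_inv_cancel_left]⟩
  · have h1 := Subgroup.card_eq_card_quotient_mul_card_subgroup φ.ker
    rw [Nat.card_congr (QuotientGroup.quotientKerEquivOfSurjective φ hφ).toEquiv] at h1
    have h2 : Nat.card (MulAut PSLn) = Nat.card (Cfsg.Out PSLn) * Nat.card (Cfsg.Inn PSLn) :=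
      Subgroup.card_eq_card_quotient_mul_card_subgroup (Cfsg.Inn PSLn)
    rw [card_mulAut hn p ⟨hN, ⟨e.trans t⟩⟩, h1, card_inn hn p, card_PGL, mul_assoc,
      ← card_center_mul_card_PSL] at h2
    haveI : Nonempty (Fin n) := ⟨⟨0, by omega⟩⟩
    rw [card_center_SL, Fintype.card_fin] at h2
    haveI : Finite D' := Finite.of_surjective φ hφ
    exact (Nat.eq_of_mul_eq_mul_right Nat.card_pos
      (Nat.eq_of_mul_eq_mul_left Nat.card_pos h2)).symm

theorem nonempty_param_two {p f : ℕ} [Fact p.Prime] [CharP F p] (hn : n = 2) (hF : Fintype.card F = p ^ f) :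
    ∃ _ : (dia (n := n) (F := F)).range.Normal,
      Nonempty ((MulAut PSLn ⧸ (dia (n := n) (F := F)).range) ≃* Multiplicative (ZMod f)) := by
  obtain ⟨g⟩ := nonempty_gal_equiv (F := F) hF
  obtain ⟨hN, ⟨e⟩⟩ := exists_quotient_iso (n := n) (F := F) (by omega) p
    (MonoidHom.inl (F ≃+* F) (Multiplicative (ZMod 2))) (fun a b h => congrArg Prod.fst h)
    (fun d => Or.inl rfl) (fun σ e he => ⟨σ, Prod.ext rfl (he.resolve_right (by omega)).symm⟩)
  exact ⟨hN, ⟨e.trans g⟩⟩

theorem nonempty_param_ge {p f : ℕ} [Fact p.Prime] [CharP F p] (hn : 3 ≤ n) (hF : Fintype.card F = p ^ f) :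
    ∃ _ : (dia (n := n) (F := F)).range.Normal,
      Nonempty ((MulAut PSLn ⧸ (dia (n := n) (F := F)).range) ≃* Multiplicative (ZMod f × ZMod 2)) := by
  obtain ⟨g⟩ := nonempty_gal_equiv (F := F) hF
  obtain ⟨hN, ⟨e⟩⟩ := exists_quotient_iso (n := n) (F := F) (by omega) p
    (MonoidHom.id ((F ≃+* F) × Multiplicative (ZMod 2))) (fun a b h => h)
    (fun d => Or.inr hn) (fun σ e _ => ⟨(σ, e), rfl⟩)
  exact ⟨hN, ⟨e.trans ((g.prodCongr (MulEquiv.refl _)).trans (MulEquiv.prodMultiplicative (ZMod f) (ZMod 2)).symm)⟩⟩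

end Cfsg.Agent.Lib.Classical.AutPSL
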