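import Cfsg.Agent.Lib.Classical.AutPSL.Twist
import Cfsg.Agent.Lib.Classical.HermForm
import Cfsg.Agent.Lib.Geometry.HermBasis

/-!
Automorphisms of `PSL_n(q)`, part 7: the field and graph-field classes.
-/

set_option autoImplicit false

namespace Cfsg.Agent.Lib.Classical.AutPSL

open Matrix

variable {n : ℕ} {F : Type*} [Field F]

local notation "SLn" => Matrix.SpecialLinearGroup (Fin n) F
local notation "PSLn" => Matrix.ProjectiveSpecialLinearGroup (Fin n) F
local notation "Mat" => Matrix (Fin n) (Fin n) F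

theorem itGL_itGL (g : GL (Fin n) F) : itGL (itGL g) = g :=
  Units.ext (by rw [itGL_coe, itGL_inv_coe, Matrix.transpose_transpose])

theorem itGL_scalar (u : Fˣ) :
    itGL (GeneralLinearGroup.scalar (Fin n) u) = GeneralLinearGroup.scalar (Fin n) u⁻¹ := by
  refine Units.ext ?_
  rw [itGL_coe, ← map_inv]
  show (Matrix.scalar (Fin n) ((u⁻¹ : Fˣ) : F))ᵀ = Matrix.scalar (Fin n) ((u⁻¹ : Fˣ) : F)
  simp [Matrix.scalar_apply]

theorem galGL_itGL (σ : F ≃+* F) (g : GL (Fin n) F) : galGL σ (itGL g) = itGL (galGL σ g) := by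
  refine Units.ext ?_
  rw [galGL_coe, itGL_coe, itGL_coe, ← map_inv, galGL_coe, Matrix.transpose_map]

theorem twist_gra_gra {σ : F ≃+* F} (hσ : σ ^ 2 = 1) (g : GL (Fin n) F) :
    twist (n := n) (σ, gra) (twist (σ, gra) g) = g := by
  rw [twist_gra, twist_gra, ← galGL_itGL, itGL_itGL]
  refine Units.ext (Matrix.ext fun i j => ?_)
  show σ (σ _) = _
  have : σ * σ = 1 := by rw [← sq, hσ]
  exact RingEquiv.congr_fun this _

theorem twist_gra_scalar (σ : F ≃+* F) (u : Fˣ) :
    twist (n := n) (σ, gra) (GeneralLinearGroup.scalar (Fin n) u) =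
      GeneralLinearGroup.scalar (Fin n) (Units.map (σ : F →* F) u)⁻¹ := by
  rw [twist_gra, itGL_scalar, galGL_scalar, map_inv]

theorem scalar_mem_center (u : Fˣ) :
    GeneralLinearGroup.scalar (Fin n) u ∈ Subgroup.center (GL (Fin n) F) := by
  rw [GeneralLinearGroup.center_eq_range_scalar]; exact ⟨u, rfl⟩

theorem scalar_injective (hn : 1 ≤ n) :
    Function.Injective (GeneralLinearGroup.scalar (Fin n) : Fˣ → GL (Fin n) F) := by
  intro u v h
  have := congrArg (fun g : GL (Fin n) F => (g : Mat) ⟨0, hn⟩ ⟨0, hn⟩) h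
  exact Units.ext (by simpa [Matrix.scalar_apply] using this)

/-- The fixed group of the graph-field twist, up to scalars. -/
theorem exists_twist_gra_fixed [Fintype F] {σ : F ≃+* F} (hσ : σ ^ 2 = 1) (hne : σ ≠ 1) (hn : 1 ≤ n)
    (g : GL (Fin n) F) (hg : g⁻¹ * twist (σ, gra) g ∈ Subgroup.center (GL (Fin n) F)) :
    ∃ h, twist (σ, gra) h = h ∧ g⁻¹ * h ∈ Subgroup.center (GL (Fin n) F) := by
  rw [GeneralLinearGroup.center_eq_range_scalar] at hg
  obtain ⟨c, hc⟩ := hg
  have htg : twist (σ, gra) g = g * GeneralLinearGroup.scalar (Fin n) c := by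
    rw [hc, mul_inv_cancel_left]
  have hfix : σ (c : F) = c := by
    have h2 := twist_gra_gra (n := n) hσ g
    rw [htg, map_mul, htg, twist_gra_scalar, mul_assoc, ← map_mul, mul_eq_left,
      ← map_one (GeneralLinearGroup.scalar (Fin n)), (scalar_injective hn).eq_iff, mul_inv_eq_one] at h2
    exact (congrArg Units.val h2).symm
  obtain ⟨μ, hμ0, hμ⟩ := exists_galNorm_eq (r := 2) Nat.prime_two hσ hne c.ne_zero hfix
  set u := Units.mk0 μ hμ0
  have huc : c = u * Units.map (σ : F →* F) u := by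
    refine Units.ext ?_
    rw [← hμ]
    simp [galNorm, u]
  refine ⟨g * GeneralLinearGroup.scalar (Fin n) u, ?_, ?_⟩
  · rw [map_mul, htg, twist_gra_scalar, mul_assoc, ← map_mul, huc, mul_inv_cancel_right]
  · rw [inv_mul_cancel_left]
    exact scalar_mem_center u

/-- Hermitian invertible matrices are `h σ(h)ᵀ`. -/
theorem exists_hermitian_factor [Fintype F] {σ : F ≃+* F} (hσ : σ ^ 2 = 1) (hne : σ ≠ 1)
    {g : GL (Fin n) F} (hg : ((g : Mat).map σ)ᵀ = (g : Mat)) :
    ∃ h : GL (Fin n) F, g = h * (twist (σ, gra) h)⁻¹ := by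
  classical
  have h22 : σ * σ = 1 := by rw [← sq, hσ]
  have hσσ : ∀ a, σ (σ a) = a := fun a => RingEquiv.congr_fun h22 a
  have hG : (((g⁻¹ : GL (Fin n) F) : Mat).map σ)ᵀ = ((g⁻¹ : GL (Fin n) F) : Mat) := by
    have e : (galGL σ (itGL g)) = g⁻¹ := by
      rw [← _root_.inv_inj, inv_inv, ← map_inv]
      refine Units.ext ?_
      rw [galGL_coe, itGL_inv_coe, Matrix.transpose_map, hg]
    rw [← Matrix.transpose_map, ← inv_inv (g⁻¹ : GL (Fin n) F), ← itGL_coe, ← galGL_coe, inv_inv, e]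
  set G := ((g⁻¹ : GL (Fin n) F) : Mat)
  let B : (Fin n → F) →ₛₗ[(σ : F →+* F)] (Fin n → F) →ₗ[F] F :=
    LinearMap.mk₂'ₛₗ (σ : F →+* F) (RingHom.id F) (fun u v => sv σ u ⬝ᵥ (G *ᵥ v))
      (fun a b v => by
        show sv σ (a + b) ⬝ᵥ _ = _
        rw [show sv σ (a + b) = sv σ a + sv σ b from funext fun i => map_add σ _ _, add_dotProduct])
      (fun c a v => by
        show sv σ (c • a) ⬝ᵥ _ = _
        rw [sv_smul, smul_dotProduct]; rfl)
      (fun a u v => by
        show sv σ a ⬝ᵥ _ = _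
        rw [Matrix.mulVec_add, dotProduct_add])
      (fun c a v => by
        show sv σ a ⬝ᵥ _ = _
        rw [Matrix.mulVec_smul, dotProduct_smul]; rfl)
  have hB : ∀ u v, B u v = sv σ u ⬝ᵥ (G *ᵥ v) := fun u v => rfl
  have hS : B.IsSymm := ⟨fun u v => by
    rw [hB, hB]
    have e : σ (sv σ u ⬝ᵥ (G *ᵥ v)) = u ⬝ᵥ (G.map σ *ᵥ sv σ v) := by
      simp only [dotProduct, map_sum, map_mul, sv, hσσ]
      refine Finset.sum_congr rfl fun i _ => ?_
      rw [show σ ((G *ᵥ v) i) = (G.map σ *ᵥ sv σ v) i from RingHom.map_mulVec σ.toRingHom _ _ _]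
    refine e.trans ?_
    conv_rhs => rw [← hG]
    rw [Matrix.mulVec_transpose, dotProduct_comm (sv σ v), Matrix.dotProduct_mulVec]⟩
  have hnd : B.Nondegenerate := by
    have hinj : ∀ v, G *ᵥ v = 0 → v = 0 := fun v hv => by
      have := congrArg ((g : Mat) *ᵥ ·) hv
      simpa [G, Matrix.mulVec_mulVec, ← Units.val_mul] using this
    have hr : ∀ v, (∀ u, B u v = 0) → v = 0 := fun v hv => hinj v (funext fun i => by
      have h := hv (Pi.single i 1)
      rw [hB, show sv σ (Pi.single i 1) = Pi.single i 1 from funext fun k => by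
        simp [sv, Pi.single_apply, apply_ite σ], single_one_dotProduct] at h
      exact h)
    refine ⟨fun u hu => hr u fun v => ?_, hr⟩
    rw [← hS.eq u v, hu v, map_zero]
  obtain ⟨b, hb⟩ := Geometry.exists_orthonormal_basis (σ := (σ : F →+* F))
    (fun h => hne (RingEquiv.ext fun a => RingHom.congr_fun h a)) hσσ B hS hnd
  have hfr : Module.finrank F (Fin n → F) = n := by
    rw [Module.finrank_fintype_fun_eq_card, Fintype.card_fin]
  let e : Fin n → Fin n → F := fun i => b (Fin.cast hfr.symm i)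
  let H : Mat := Matrix.of fun i j => e j i
  have hH : (H.map σ)ᵀ * G * H = 1 := by
    ext i j
    rw [mul_assoc, Matrix.mul_apply, Matrix.one_apply]
    have h := hb (Fin.cast hfr.symm i) (Fin.cast hfr.symm j)
    rw [hB] at h
    refine Eq.trans ?_ (h.trans (if_congr (by simp [Fin.ext_iff]) rfl rfl))
    refine Finset.sum_congr rfl fun k _ => ?_
    rw [Matrix.mul_apply]
    rfl
  have hHu : IsUnit H := by
    rw [Matrix.isUnit_iff_isUnit_det]
    refine IsUnit.of_mul_eq_one (((H.map σ)ᵀ * G).det) ?_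
    rw [mul_comm, ← Matrix.det_mul, hH, Matrix.det_one]
  refine ⟨hHu.unit, ?_⟩
  have hgu : g⁻¹ * (hHu.unit * (twist (σ, gra) hHu.unit)⁻¹) = 1 := by
    refine Units.ext ?_
    rw [twist_gra, ← map_inv (galGL σ), Units.val_mul, Units.val_mul, galGL_coe, itGL_inv_coe,
      Units.val_one, Matrix.transpose_map, IsUnit.unit_spec, ← mul_assoc, mul_eq_one_comm, ← mul_assoc]
    exact hH
  exact inv_mul_eq_one.mp hgu

variable [Fintype F]

/-- Both kinds: an element of order `r` in the coset is conjugate to the standard one. -/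
theorem exists_conj_of_pow (p : ℕ) [Fact p.Prime] [CharP F p] (hn : 2 ≤ n) {σ : F ≃+* F}
    (hne : σ ≠ 1) {e : Multiplicative (ZMod 2)} (he : e = 1 ∨ 3 ≤ n) {r : ℕ} (hr : r.Prime)
    (hd : ((σ, e) : (F ≃+* F) × Multiplicative (ZMod 2)) ^ r = 1) (a : GL (Fin n) F)
    (ha : (dia a * outerPart (σ, e)) ^ r = (1 : MulAut PSLn)) :
    ∃ h : GL (Fin n) F, dia a * outerPart (σ, e) = dia h * outerPart (σ, e) * (dia h)⁻¹ := by
  rw [dia_mul_outerPart_pow, hd, map_one, mul_one, ← MonoidHom.mem_ker, ker_dia hn p] at ha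
  have hσr : σ ^ r = 1 := congrArg Prod.fst hd
  by_cases h1 : e = 1
  · subst h1
    rw [galProd_eq_twistProd] at ha
    obtain ⟨u, h, hh⟩ := exists_eq_scalar_mul_twist hr hσr hne (by omega) ha
    refine ⟨h, ?_⟩
    rw [conj_outerPart, twist_one, hh, map_mul, dia_center (scalar_mem_center u), one_mul]
  · obtain rfl := eq_gra_of_ne_one h1
    have hr2 : r = 2 := by
      have hg : gra ^ r = 1 := congrArg Prod.snd hd
      have hord : orderOf gra = 2 := orderOf_eq_prime (by rw [sq, gra_mul_gra]) gra_ne_one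
      have := orderOf_dvd_of_pow_eq_one hg
      rw [hord] at this
      exact ((Nat.prime_dvd_prime_iff_eq Nat.prime_two hr).mp this).symm
    subst hr2
    simp only [twistProd, map_one, mul_one] at ha
    rw [GeneralLinearGroup.center_eq_range_scalar] at ha
    obtain ⟨c, hc⟩ := ha
    set τ := twist (n := n) (σ, gra)
    have hta : τ a = a⁻¹ * GeneralLinearGroup.scalar (Fin n) c := by rw [hc, inv_mul_cancel_left]
    have hcc : c * Units.map (σ : F →* F) c = 1 := by
      have h2 := twist_gra_gra (n := n) hσr a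
      rw [show twist (σ, gra) a = τ a from rfl, hta, map_mul, map_inv, hta, twist_gra_scalar,
        _root_.mul_inv_rev, inv_inv] at h2
      have hcomm : (GeneralLinearGroup.scalar (Fin n) c)⁻¹ * a = a * (GeneralLinearGroup.scalar (Fin n) c)⁻¹ :=
        ((Subgroup.mem_center_iff.mp (inv_mem (scalar_mem_center c)) a)).symm
      rw [hcomm, mul_assoc, mul_eq_left, ← map_inv, ← map_mul,
        ← map_one (GeneralLinearGroup.scalar (Fin n)), (scalar_injective (show 1 ≤ n by omega)).eq_iff] at h2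
      rw [← _root_.inv_inj, mul_inv, inv_one]
      exact h2
    obtain ⟨b, hb0, hb⟩ := exists_twist_scalar (r := 2) Nat.prime_two hσr hne (a := (c : F)) (by
      simp only [galNorm, map_one, mul_one]
      exact congrArg Units.val hcc)
    set u := Units.mk0 b hb0
    have hbu : c * Units.map (σ : F →* F) u = u := Units.ext hb
    set a' := GeneralLinearGroup.scalar (Fin n) u⁻¹ * a with ha'
    have hta' : τ a' = a'⁻¹ := by
      rw [ha', map_mul, twist_gra_scalar, hta, map_inv (Units.map (σ : F →* F)), inv_inv,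
        _root_.mul_inv_rev, ← map_inv (GeneralLinearGroup.scalar (Fin n)), inv_inv,
        ← Subgroup.mem_center_iff.mp (scalar_mem_center (Units.map (σ : F →* F) u)) _, mul_assoc,
        ← map_mul, hbu]
    have hherm : ((a' : Mat).map σ)ᵀ = (a' : Mat) := by
      have h3 : (τ a')⁻¹ = a' := by rw [hta', inv_inv]
      have h4 := congrArg (fun x : GL (Fin n) F => (x : Mat)) h3
      simp only [τ, twist_gra, ← map_inv (galGL σ), galGL_coe, itGL_inv_coe, Matrix.transpose_map] at h4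
      exact h4
    obtain ⟨h, hh⟩ := exists_hermitian_factor hσr hne hherm
    refine ⟨h, ?_⟩
    rw [conj_outerPart, ← hh, ha', map_mul, dia_center (scalar_mem_center u⁻¹), one_mul]

theorem exists_standard (p : ℕ) [Fact p.Prime] [CharP F p] (hn : 2 ≤ n) {x : MulAut PSLn}
    (hx : Cfsg.IsFieldAutClassPSL x ∨ Cfsg.IsGraphFieldAutClassPSL x) :
    ∃ (σ : F ≃+* F) (e : Multiplicative (ZMod 2)) (g : GL (Fin n) F), σ ≠ 1 ∧ (e = 1 ∨ 3 ≤ n) ∧
      x = dia g * outerPart (σ, e) * (dia g)⁻¹ := by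
  rcases hx with ⟨α, σ, hσ, h⟩ | ⟨h3, α, φ, γ, σ, hσ, hφ, hγ, h⟩
  · obtain ⟨g, hg⟩ := exists_inndiag_conj p hn (d₀ := (σ, 1)) (by rw [outerPart_one]; exact eq_fld_of_isStdField h)
    exact ⟨σ, 1, g, hσ, Or.inl rfl, hg⟩
  · obtain ⟨g, hg⟩ := exists_inndiag_conj p hn (d₀ := (σ, gra))
      (by rw [outerPart_gra, h, eq_fld_of_isStdField hφ, eq_invTr_of_isInverseTranspose hγ])
    exact ⟨σ, gra, g, hσ, Or.inr h3, hg⟩

theorem exists_standard_field (p : ℕ) [Fact p.Prime] [CharP F p] (hn : 2 ≤ n) {x : MulAut PSLn}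
    (hx : Cfsg.IsFieldAutClassPSL x) :
    ∃ (σ : F ≃+* F) (g : GL (Fin n) F), σ ≠ 1 ∧
      x = dia g * outerPart (σ, 1) * (dia g)⁻¹ := by
  obtain ⟨α, σ, hσ, h⟩ := hx
  obtain ⟨g, hg⟩ := exists_inndiag_conj p hn (d₀ := (σ, 1)) (by rw [outerPart_one]; exact eq_fld_of_isStdField h)
  exact ⟨σ, g, hσ, hg⟩

theorem exists_standard_gra (p : ℕ) [Fact p.Prime] [CharP F p] (hn : 2 ≤ n) {x : MulAut PSLn}
    (hx : Cfsg.IsGraphFieldAutClassPSL x) :
    ∃ (σ : F ≃+* F) (g : GL (Fin n) F), σ ≠ 1 ∧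
      x = dia g * outerPart (σ, gra) * (dia g)⁻¹ := by
  obtain ⟨-, α, φ, γ, σ, hσ, hφ, hγ, h⟩ := hx
  obtain ⟨g, hg⟩ := exists_inndiag_conj p hn (d₀ := (σ, gra))
    (by rw [outerPart_gra, h, eq_fld_of_isStdField hφ, eq_invTr_of_isInverseTranspose hγ])
  exact ⟨σ, g, hσ, hg⟩

theorem orderOf_conj_eq {X : Type*} [Group X] (a x : X) : orderOf (a * x * a⁻¹) = orderOf x :=
  MulEquiv.orderOf_eq (MulAut.conj a) x

theorem order_iff_conj (p : ℕ) [Fact p.Prime] [CharP F p] (hn : 2 ≤ n) {x δ : MulAut PSLn}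
    (hx : Cfsg.IsFieldAutClassPSL x ∨ Cfsg.IsGraphFieldAutClassPSL x) {r : ℕ} (hr : r.Prime)
    (hxr : orderOf x = r) (hδ : δ ∈ Cfsg.inndiagPSL n F) :
    orderOf (δ * x) = r ↔ Cfsg.IsConjUnder (Cfsg.inndiagPSL n F) x (δ * x) := by
  refine ⟨fun h => ?_, fun ⟨w, _, e⟩ => by rw [e, orderOf_conj_eq, hxr]⟩
  obtain ⟨σ, e, g, hσ, he, rfl⟩ := exists_standard p hn hx
  rw [inndiag_eq] at hδ ⊢
  obtain ⟨a, rfl⟩ := hδ
  rw [orderOf_conj_eq, orderOf_outerPart p hn (d := (σ, e)) he] at hxr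
  have hd := pow_orderOf_eq_one ((σ, e) : (F ≃+* F) × Multiplicative (ZMod 2))
  rw [hxr] at hd
  set y := outerPart (n := n) ((σ, e) : (F ≃+* F) × Multiplicative (ZMod 2))
  have hpow : (dia (g⁻¹ * a * g) * y) ^ r = 1 := by
    rw [show dia (g⁻¹ * a * g) * y = (dia g)⁻¹ * (dia a * (dia g * y * (dia g)⁻¹)) * ((dia g)⁻¹)⁻¹ by
      rw [map_mul, map_mul, map_inv]; group, conj_pow, ← h, pow_orderOf_eq_one]
    group
  obtain ⟨k, hk⟩ := exists_conj_of_pow p hn hσ he hr hd (g⁻¹ * a * g) hpow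
  refine ⟨dia (g * k * g⁻¹), ⟨_, rfl⟩, ?_⟩
  calc dia a * (dia g * y * (dia g)⁻¹) = dia g * (dia (g⁻¹ * a * g) * y) * (dia g)⁻¹ := by
        simp only [map_mul, map_inv]; group
    _ = dia g * (dia k * y * (dia k)⁻¹) * (dia g)⁻¹ := by rw [hk]
    _ = _ := by simp only [map_mul, map_inv]; group

theorem exists_fixedField_hom {p f : ℕ} [Fact p.Prime] (hF : Fintype.card F = p ^ f) {σ : F ≃+* F}
    {r : ℕ} (hσ : orderOf σ = r) (hrf : r ∣ f) {F₀ : Type*} [Field F₀] [Fintype F₀]
    (hF₀ : Fintype.card F₀ = p ^ (f / r)) :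
    ∃ j : F₀ →+* F, ∀ a, σ a = a ↔ ∃ b, j b = a := by
  classical
  let H := Subgroup.zpowers σ
  let K := FixedPoints.subfield H F
  have hmem : ∀ a, a ∈ K ↔ σ a = a := by
    intro a
    refine ⟨fun h => h ⟨σ, Subgroup.mem_zpowers σ⟩, fun h τ => ?_⟩
    have hs : τ.1 ∈ MulAction.stabilizer (F ≃+* F) a :=
      (Subgroup.zpowers_le.mpr (show σ ∈ MulAction.stabilizer (F ≃+* F) a from h)) τ.2
    exact hs
  haveI : Finite (F ≃+* F) := Finite.of_injective (fun e : F ≃+* F => (e : F → F)) DFunLike.coe_injective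
  haveI : Fintype H := Fintype.ofFinite _
  have hrank : Module.finrank K F = r := by
    rw [FixedPoints.finrank_eq_card H F, ← Nat.card_eq_fintype_card, Nat.card_zpowers, hσ]
  have hcard := Module.natCard_eq_pow_finrank (K := K) (V := F)
  rw [hrank, Nat.card_eq_fintype_card (α := F), hF] at hcard
  have hK : Fintype.card K = p ^ (f / r) := by
    have hr0 : r ≠ 0 := by
      rw [← hσ]; exact (orderOf_pos σ).ne'
    refine Nat.pow_left_injective hr0 ?_
    show Fintype.card K ^ r = (p ^ (f / r)) ^ r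
    rw [← Nat.card_eq_fintype_card, ← hcard, ← pow_mul, Nat.div_mul_cancel hrf]
  let e := FiniteField.ringEquivOfCardEq (hF₀.trans hK.symm)
  refine ⟨(Subfield.subtype K).comp e.toRingHom, fun a => ?_⟩
  rw [← hmem]
  constructor
  · intro h
    exact ⟨e.symm ⟨a, h⟩, by simp⟩
  · rintro ⟨b, rfl⟩
    exact (e b).2

theorem field_class (p : ℕ) [Fact p.Prime] [CharP F p] {f : ℕ} (hF : Fintype.card F = p ^ f)
    (hn : 2 ≤ n) {x : MulAut PSLn} (hx : Cfsg.IsFieldAutClassPSL x) {r : ℕ} (hr : r.Prime)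
    (hxr : orderOf x = r) (F₀ : Type*) [Field F₀] [Fintype F₀] (hF₀ : Fintype.card F₀ = p ^ (f / r)) :
    r ∣ f ∧ Nonempty (↥(Cfsg.inndiagPSL n F ⊓ Subgroup.centralizer {x}) ≃* Matrix.ProjGenLinGroup (Fin n) F₀) ∧
      Cfsg.splitClassCount (Cfsg.inndiagPSL n F) (Cfsg.Inn PSLn) x =
        Nat.gcd n ((p ^ f - 1) / (p ^ (f / r) - 1)) := by
  obtain ⟨σ, g, hσ, rfl⟩ := exists_standard_field p hn hx
  rw [orderOf_conj_eq, orderOf_outerPart p hn (d := (σ, 1)) (Or.inl rfl), Prod.orderOf, orderOf_one,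
    Nat.lcm_one_right] at hxr
  have hrf : r ∣ f := by
    rw [← (gal_cyclic_card (F := F) hF).2, ← hxr]
    exact orderOf_dvd_natCard σ
  obtain ⟨j, hj⟩ := exists_fixedField_hom hF hxr hrf hF₀
  have hσr : σ ^ r = 1 := hxr ▸ pow_orderOf_eq_one σ
  let jG : GL (Fin n) F₀ →* GL (Fin n) F := Matrix.GeneralLinearGroup.map j
  have hfix : ∀ k, twist (σ, (1 : Multiplicative (ZMod 2))) (jG k) = jG k := fun k => by
    rw [twist_one]
    exact Units.ext (Matrix.ext fun a b => (hj _).mpr ⟨_, rfl⟩)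
  have hsurj : ∀ y : GL (Fin n) F,
      y⁻¹ * twist (σ, (1 : Multiplicative (ZMod 2))) y ∈ Subgroup.center (GL (Fin n) F) →
      ∃ k, y⁻¹ * jG k ∈ Subgroup.center (GL (Fin n) F) := by
    intro y hy
    rw [twist_one, GeneralLinearGroup.center_eq_range_scalar] at hy
    obtain ⟨c, hc⟩ := hy
    have hty : galGL σ y = y * GeneralLinearGroup.scalar (Fin n) c := by rw [hc, mul_inv_cancel_left]
    have hiter : ∀ k, ∃ v : Fˣ, (v : F) = galNorm σ k c ∧
        galGL (σ ^ k) y = y * GeneralLinearGroup.scalar (Fin n) v := by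
      intro k
      induction k with
      | zero =>
        refine ⟨1, rfl, ?_⟩
        rw [map_one, mul_one, pow_zero]
        exact Units.ext (Matrix.ext fun a b => rfl)
      | succ k ih =>
        obtain ⟨v, hv, e⟩ := ih
        refine ⟨c * Units.map (σ : F →* F) v, by rw [Units.val_mul, galNorm, Units.coe_map, hv]; rfl, ?_⟩
        rw [show galGL (σ ^ (k + 1)) y = galGL σ (galGL (σ ^ k) y) from by
          refine Units.ext (Matrix.ext fun a b => ?_)
          rw [pow_succ']; rfl, e, map_mul, hty, galGL_scalar, mul_assoc, ← map_mul]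
    obtain ⟨v, hv, e⟩ := hiter r
    rw [hσr, show galGL (1 : F ≃+* F) y = y from Units.ext (Matrix.ext fun a b => rfl), eq_comm,
      mul_eq_left, ← map_one (GeneralLinearGroup.scalar (Fin n)), (scalar_injective (show 1 ≤ n by omega)).eq_iff] at e
    obtain ⟨b, hb0, hb⟩ := exists_twist_scalar hr hσr hσ (a := (c : F)) (by rw [← hv, e, Units.val_one])
    set h := y * GeneralLinearGroup.scalar (Fin n) (Units.mk0 b hb0)
    have hh : ∀ a b, σ ((h : Mat) a b) = (h : Mat) a b := by
      intro a b'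
      have : galGL σ h = h := by
        rw [map_mul, hty, galGL_scalar, mul_assoc, ← map_mul]
        congr 2
        exact Units.ext hb
      exact congrArg (fun x : GL (Fin n) F => (x : Mat) a b') this
    choose H hH using fun a b => (hj ((h : Mat) a b)).mp (hh a b)
    have hdet : (Matrix.of H).det ≠ 0 := by
      intro h0
      have h1 : (h : Mat).det = j (Matrix.of H).det := by
        rw [RingHom.map_det]
        congr 1
        exact Matrix.ext fun a b => (hH a b).symm
      rw [h0, map_zero] at h1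
      exact (GeneralLinearGroup.det h).ne_zero h1
    refine ⟨GeneralLinearGroup.mkOfDetNeZero (Matrix.of H) hdet, ?_⟩
    rw [show jG (GeneralLinearGroup.mkOfDetNeZero (Matrix.of H) hdet) = h from
      Units.ext (Matrix.ext fun a b => hH a b), inv_mul_cancel_left]
    exact scalar_mem_center _
  have hZ : ∀ k, jG k ∈ Subgroup.center (GL (Fin n) F) ↔ k ∈ Subgroup.center (GL (Fin n) F₀) := by
    intro k
    constructor
    · intro h
      rw [Subgroup.mem_center_iff]
      intro y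
      have hinj : Function.Injective jG := fun a b e =>
        Units.ext (Matrix.ext fun s t => j.injective (congrArg (fun x : GL (Fin n) F => (x : Mat) s t) e))
      exact hinj (by rw [map_mul, map_mul]; exact Subgroup.mem_center_iff.mp h _)
    · intro h
      rw [GeneralLinearGroup.center_eq_range_scalar] at h ⊢
      obtain ⟨u, rfl⟩ := h
      refine ⟨Units.map (j : F₀ →* F) u, Units.ext ?_⟩
      ext a b
      simp [jG, Matrix.scalar_apply, Matrix.diagonal, apply_ite j]
  refine ⟨hrf, ?_, ?_⟩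
  · obtain ⟨e⟩ := nonempty_centralizer_iso p hn _ jG hfix hsurj _ hZ
    rw [inndiag_eq] at e ⊢
    exact ⟨((centralizerConj (dia (n := n) (F := F)).range (a := dia g) ⟨g, rfl⟩ _).symm).trans e⟩
  · have hA : (jG.range).map GeneralLinearGroup.det = (Units.map (j : F₀ →* F)).range := by
      ext u
      constructor
      · rintro ⟨_, ⟨k, rfl⟩, rfl⟩
        exact ⟨GeneralLinearGroup.det k, Units.ext (RingHom.map_det j _)⟩
      · rintro ⟨v, rfl⟩
        obtain ⟨k, rfl⟩ := exists_gl_det (n := n) (by omega) v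
        exact ⟨jG k, ⟨k, rfl⟩, Units.ext (RingHom.map_det j _).symm⟩
    rw [splitClassCount_conj _ _ (by rw [inndiag_eq]; exact ⟨g, rfl⟩ : dia g ∈ Cfsg.inndiagPSL n F),
      splitClassCount_outerPart p hn _ jG.range (by rintro _ ⟨k, rfl⟩; exact hfix k)
        (fun y hy => by obtain ⟨k, hk⟩ := hsurj y hy; exact ⟨_, ⟨k, rfl⟩, hk⟩) _ hA,
      ← Nat.card_congr (MonoidHom.ofInjective (Units.map_injective (f := (j : F₀ →* F)) j.injective)).toEquiv,
      Nat.card_units, Nat.card_eq_fintype_card, hF₀, hF]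

theorem gra_class (p : ℕ) [Fact p.Prime] [CharP F p] {f : ℕ} (hF : Fintype.card F = p ^ f)
    (hn : 3 ≤ n) {x : MulAut PSLn} (hx : Cfsg.IsGraphFieldAutClassPSL x) (hx2 : orderOf x = 2) :
    Even f ∧ (∀ y : MulAut PSLn, Cfsg.IsGraphFieldAutClassPSL y → orderOf y = 2 →
      Cfsg.IsConjUnder (Cfsg.inndiagPSL n F) x y) ∧
    Nonempty (↥(Cfsg.inndiagPSL n F ⊓ Subgroup.centralizer {x}) ≃* Cfsg.PGU n F (p ^ (f / 2))) ∧
    Cfsg.splitClassCount (Cfsg.inndiagPSL n F) (Cfsg.Inn PSLn) x = Nat.gcd n (p ^ (f / 2) - 1) := by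
  classical
  have hn2 : 2 ≤ n := by omega
  obtain ⟨hcyc, hgal⟩ := gal_cyclic_card (F := F) hF
  haveI := hcyc
  haveI : Finite (F ≃+* F) := Finite.of_injective (fun e : F ≃+* F => (e : F → F)) DFunLike.coe_injective
  haveI := Fintype.ofFinite (F ≃+* F)
  have hord : ∀ {y : MulAut PSLn} {σ : F ≃+* F} {g : GL (Fin n) F}, σ ≠ 1 → orderOf y = 2 →
      y = dia g * outerPart (σ, gra) * (dia g)⁻¹ → orderOf σ = 2 := by
    intro y σ g hσ h2 e
    rw [e, orderOf_conj_eq, orderOf_outerPart p hn2 (d := (σ, gra)) (Or.inr hn)] at h2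
    have h := pow_orderOf_eq_one ((σ, gra) : (F ≃+* F) × Multiplicative (ZMod 2))
    rw [h2] at h
    exact orderOf_eq_prime (congrArg Prod.fst h) hσ
  have huniq : ∀ {σ τ : F ≃+* F}, orderOf σ = 2 → orderOf τ = 2 → σ = τ := by
    intro σ τ hs ht
    by_contra hne
    have h := IsCyclic.card_pow_eq_one_le (α := F ≃+* F) (n := 2) two_pos
    have hsub : ({1, σ, τ} : Finset (F ≃+* F)) ⊆ Finset.univ.filter fun a => a ^ 2 = 1 := by
      intro a ha
      simp only [Finset.mem_insert, Finset.mem_singleton] at ha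
      simp only [Finset.mem_filter, Finset.mem_univ, true_and]
      rcases ha with rfl | rfl | rfl
      · exact one_pow 2
      · rw [← hs]; exact pow_orderOf_eq_one _
      · rw [← ht]; exact pow_orderOf_eq_one _
    have hc : ({1, σ, τ} : Finset (F ≃+* F)).card = 3 := by
      have h1 : σ ≠ 1 := fun e => by rw [e, orderOf_one] at hs; omega
      have h2 : τ ≠ 1 := fun e => by rw [e, orderOf_one] at ht; omega
      rw [Finset.card_insert_of_notMem (by simp [h1.symm, h2.symm]),
        Finset.card_insert_of_notMem (by simp [hne]), Finset.card_singleton]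
    have := (Finset.card_le_card hsub).trans h
    omega
  obtain ⟨σ, g, hσne, hxe⟩ := exists_standard_gra p hn2 hx
  have hσ2 := hord hσne hx2 hxe
  have hσsq : σ ^ 2 = 1 := hσ2 ▸ pow_orderOf_eq_one σ
  have hev : Even f := by
    rw [even_iff_two_dvd, ← hgal, ← hσ2]
    exact orderOf_dvd_natCard σ
  refine ⟨hev, fun y hy hy2 => ?_, ?_⟩
  · obtain ⟨σ', g', hσ', hye⟩ := exists_standard_gra p hn2 hy
    obtain rfl := huniq hσ2 (hord hσ' hy2 hye)
    refine ⟨dia (g' * g⁻¹), (by rw [inndiag_eq]; exact ⟨_, rfl⟩), ?_⟩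
    rw [hxe, hye, map_mul, map_inv]
    group
  set q := p ^ (f / 2) with hq
  have hFq : Fintype.card F = q ^ 2 := by
    rw [hF, hq, ← pow_mul, Nat.div_mul_cancel (even_iff_two_dvd.mp hev)]
  have hconj : ∀ a, σ a = conjHom hFq a := by
    let σ₁ : F ≃+* F := RingEquiv.ofBijective (conjHom hFq)
      (Finite.injective_iff_bijective.mp (conjHom hFq).injective)
    have h1 : σ₁ ≠ 1 := fun e => conjHom_ne_id hFq (RingHom.ext fun a => RingEquiv.congr_fun e a)
    have h2 : σ₁ ^ 2 = 1 := by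
      rw [sq]; exact RingEquiv.ext fun a => conjHom_conjHom hFq a
    obtain rfl := huniq hσ2 (orderOf_eq_prime h2 h1)
    exact fun a => rfl
  have hGU : ∀ h : GL (Fin n) F, h ∈ Cfsg.GU n F q ↔ twist (σ, gra) h = h := by
    intro h
    rw [mem_GU_iff hFq, twist_gra, show ((h : Mat).map (conjHom hFq)) = (h : Mat).map σ from
      Matrix.ext fun a b => (hconj _).symm]
    constructor
    · intro e
      rw [← _root_.inv_inj, ← map_inv]
      refine eq_inv_of_mul_eq_one_left (Units.ext ?_)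
      rw [Units.val_mul, galGL_coe, itGL_inv_coe, Units.val_one]
      have e' := congrArg (fun M : Mat => (M.map σ)) e
      simp only [Matrix.map_mul, Matrix.map_one _ (map_zero σ) (map_one σ)] at e'
      rw [show (((h : Mat).map σ).map σ) = (h : Mat) from Matrix.ext fun a b => by
        have := RingEquiv.congr_fun hσsq ((h : Mat) a b)
        rwa [sq] at this] at e'
      exact e'
    · intro e
      have e2 := congrArg (fun M : GL (Fin n) F => ((M⁻¹ : GL (Fin n) F) : Mat) * (h : Mat)) e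
      simp only [← map_inv (galGL σ), galGL_coe, itGL_inv_coe, ← Units.val_mul, inv_mul_cancel, Units.val_one] at e2
      have e' := congrArg (fun M : Mat => (M.map σ)) e2
      simp only [Matrix.map_mul, Matrix.map_one _ (map_zero σ) (map_one σ)] at e'
      rw [show (((h : Mat)ᵀ.map σ).map σ) = (h : Mat)ᵀ from Matrix.ext fun a b => by
        have := RingEquiv.congr_fun hσsq ((h : Mat) b a)
        rwa [sq] at this] at e'
      exact e'
  have hfix : ∀ k : Cfsg.GU n F q, twist (σ, gra) ((Cfsg.GU n F q).subtype k) = (Cfsg.GU n F q).subtype k :=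
    fun k => (hGU k).mp k.2
  have hsurj : ∀ y : GL (Fin n) F, y⁻¹ * twist (σ, gra) y ∈ Subgroup.center (GL (Fin n) F) →
      ∃ k : Cfsg.GU n F q, y⁻¹ * (Cfsg.GU n F q).subtype k ∈ Subgroup.center (GL (Fin n) F) := by
    intro y hy
    obtain ⟨h, hh, hc⟩ := exists_twist_gra_fixed hσsq hσne (show 1 ≤ n by omega) y hy
    exact ⟨⟨h, (hGU h).mpr hh⟩, hc⟩
  have hsc : Cfsg.Geo.scalars (Fin n) F = Subgroup.center (GL (Fin n) F) := by
    rw [GeneralLinearGroup.center_eq_range_scalar]; rfl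
  have hZ : ∀ k : Cfsg.GU n F q, (Cfsg.GU n F q).subtype k ∈ Subgroup.center (GL (Fin n) F) ↔
      k ∈ (Cfsg.Geo.scalars (Fin n) F).subgroupOf (Cfsg.GU n F q) := fun k => by
    rw [Subgroup.mem_subgroupOf, hsc]; rfl
  haveI : ((Cfsg.Geo.scalars (Fin n) F).subgroupOf (Cfsg.GU n F q)).Normal := by
    rw [hsc]; infer_instance
  subst hxe
  refine ⟨?_, ?_⟩
  · obtain ⟨e⟩ := nonempty_centralizer_iso p hn2 (σ, gra) (Cfsg.GU n F q).subtype hfix hsurj _ hZ
    rw [inndiag_eq] at e ⊢
    exact ⟨((centralizerConj (dia (n := n) (F := F)).range (a := dia g) ⟨g, rfl⟩ _).symm).trans e⟩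
  · have hA : (Cfsg.GU n F q).map GeneralLinearGroup.det = (powMonoidHom (q + 1) : Fˣ →* Fˣ).ker := by
      ext u
      constructor
      · rintro ⟨h, hh, rfl⟩
        rw [MonoidHom.mem_ker, powMonoidHom_apply]
        refine Units.ext ?_
        have e := congrArg Matrix.det ((mem_GU_iff hFq h).mp hh)
        rw [Matrix.det_mul, Matrix.det_transpose, Matrix.det_one] at e
        rw [Units.val_pow_eq_pow_val, Units.val_one, pow_succ']
        refine Eq.trans ?_ e
        congr 1
        rw [← conjHom_apply hFq]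
        exact RingHom.map_det (conjHom hFq) _
      · intro hu
        rw [MonoidHom.mem_ker, powMonoidHom_apply] at hu
        refine ⟨diag1n ⟨0, by omega⟩ u, (mem_GU_iff hFq _).mpr ?_, Units.ext ?_⟩
        · refine diagonal_preserves hFq _ fun i => ?_
          split_ifs
          · have := congrArg Units.val hu
            simpa using this
          · exact one_pow _
        · show (Matrix.diagonal fun k : Fin n => if k = ⟨0, _⟩ then (u : F) else 1).det = u
          simp [Matrix.det_diagonal]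
    rw [splitClassCount_conj _ _ (by rw [inndiag_eq]; exact ⟨g, rfl⟩ : dia g ∈ Cfsg.inndiagPSL n F),
      splitClassCount_outerPart p hn2 _ (Cfsg.GU n F q) (fun h hh => (hGU h).mp hh)
        (fun y hy => by obtain ⟨k, hk⟩ := hsurj y hy; exact ⟨k, k.2, hk⟩) _ hA,
      IsCyclic.card_powMonoidHom_ker, Nat.card_units, Nat.card_eq_fintype_card, hFq]
    have hsplit : q ^ 2 - 1 = (q + 1) * (q - 1) := by rw [← one_pow 2, Nat.sq_sub_sq, one_pow]
    rw [hsplit, Nat.gcd_eq_right (dvd_mul_right _ _), Nat.mul_div_cancel_left _ (by omega)]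

end Cfsg.Agent.Lib.Classical.AutPSL
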