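import Cfsg.Agent.Lib.Classical.AutPSL.FieldClass
import Cfsg.Agent.Lib.Classical.CoreInvolution
import Cfsg.Agent.Lib.Classical.OrthOddFree
import Cfsg.Agent.Lib.Classical.SympSimple
import Cfsg.Agent.Lib.Geometry.SympBasis

/-!
Involutory graph automorphisms of `PSL_n` in odd characteristic: normal forms and the odd core of the
centralizer.
-/

set_option autoImplicit false

namespace Cfsg.Agent.Lib.Classical

/-- Pulling an odd subgroup back along a map with central kernel of order at most two. -/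
theorem OddFree.eq_bot_of_hom {S X : Type*} [Group S] [Finite S] [Group X] (h : OddFree.OddFree S) (ψ : S →* X)
    (hk : Nat.card ψ.ker ∣ 2) (hc : ψ.ker ≤ Subgroup.center S) (N : Subgroup X) (hN : N ≤ ψ.range)
    (hnorm : ∀ s, ∀ x ∈ N, ψ s * x * (ψ s)⁻¹ ∈ N) (hodd : Odd (Nat.card N)) : N = ⊥ := by
  classical
  set k := Nat.card N
  let M := N.comap ψ
  haveI hMn : M.Normal := ⟨fun x hx s => by
    show ψ (s * x * s⁻¹) ∈ N
    rw [map_mul, map_mul, map_inv]
    exact hnorm s _ hx⟩
  let φ : M →* N := MonoidHom.mk' (fun x => ⟨ψ x.1, x.2⟩) fun a b => Subtype.ext (map_mul ψ _ _)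
  have hφ : Function.Surjective φ := fun y => by
    obtain ⟨s, hs⟩ := hN y.2
    exact ⟨⟨s, by show ψ s ∈ N; rw [hs]; exact y.2⟩, Subtype.ext hs⟩
  have hcard := φ.ker.card_mul_index
  rw [Subgroup.index_ker, MonoidHom.range_eq_top.mpr hφ, Subgroup.card_top] at hcard
  have hkd : Nat.card φ.ker ∣ 2 := by
    refine Dvd.dvd.trans ?_ hk
    rw [← Subgroup.card_map_of_injective (K := φ.ker) (f := M.subtype) M.subtype_injective]
    refine Subgroup.card_dvd_of_le ?_
    rintro _ ⟨x, hx, rfl⟩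
    exact congrArg Subtype.val hx
  have hcop : Nat.Coprime (Nat.card φ.ker) φ.ker.index := by
    rw [Subgroup.index_ker, MonoidHom.range_eq_top.mpr hφ, Subgroup.card_top]
    exact Nat.Coprime.coprime_dvd_left hkd (Nat.coprime_two_left.mpr hodd)
  obtain ⟨H, hH⟩ := Subgroup.exists_right_complement'_of_coprime hcop
  have hHcard : Nat.card H = k := by
    have := hH.card_mul
    rw [← hcard] at this
    exact Nat.eq_of_mul_eq_mul_left Nat.card_pos this
  have hchar : ∀ x : M, x ∈ H ↔ x ^ k = 1 := by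
    intro x
    refine ⟨fun hx => hHcard ▸ (by
      have := pow_card_eq_one' (x := (⟨x, hx⟩ : H))
      exact congrArg Subtype.val this), fun hx => ?_⟩
    obtain ⟨⟨z, y⟩, hzy, -⟩ := hH.existsUnique x
    have hzc : Commute (z : M) (y : M) := Subtype.ext
      ((Subgroup.mem_center_iff.mp (hc (show z.1.1 ∈ ψ.ker from congrArg Subtype.val z.2)) y.1.1).symm)
    have hy : (y : M) ^ k = 1 := congrArg Subtype.val (hHcard ▸ pow_card_eq_one' (x := y))
    have hz : (z : M) ^ k = 1 := by
      rw [← hzy, hzc.mul_pow, hy, mul_one] at hx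
      exact hx
    have hz1 : (z : M) = 1 := by
      have h1 : orderOf (z : M) ∣ k := orderOf_dvd_of_pow_eq_one hz
      have h2 : orderOf (z : M) ∣ 2 := by
        rw [Subgroup.orderOf_coe]
        exact (orderOf_dvd_natCard _).trans hkd
      exact orderOf_eq_one_iff.mp (Nat.eq_one_of_dvd_coprimes (Nat.coprime_two_right.mpr hodd) h1 h2)
    rw [← hzy, hz1, one_mul]
    exact y.2
  have hnormal : (H.map M.subtype).Normal := ⟨by
    rintro _ ⟨x, hx, rfl⟩ s
    refine ⟨⟨s * x.1 * s⁻¹, hMn.conj_mem _ x.2 s⟩, ?_, rfl⟩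
    rw [SetLike.mem_coe, hchar]
    refine Subtype.ext ?_
    show (s * x.1 * s⁻¹) ^ k = 1
    have hxk : (x.1 : S) ^ k = 1 := congrArg Subtype.val ((hchar x).mp hx)
    rw [conj_pow, hxk, mul_one, mul_inv_cancel]⟩
  have hb := h _ hnormal (by
    rw [Subgroup.card_map_of_injective M.subtype_injective, hHcard]; exact hodd)
  have hk1 : k = 1 := by
    rw [← hHcard, ← Subgroup.card_map_of_injective (K := H) (f := M.subtype) M.subtype_injective, hb,
      Subgroup.card_bot]
  exact Subgroup.card_eq_one.mp hk1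

namespace CoreCriterion

variable {K : Type*} [Group K]

/-- The two facts needed for an involution. -/
def InvProps (β : MulAut K) : Prop :=
  (∀ N : Subgroup K, (∀ n ∈ N, β n = n) →
      (∀ γ : MulAut K, γ * β = β * γ → ∀ n ∈ N, γ n ∈ N) → Odd (Nat.card N) → N = ⊥) ∧
  (∀ γ : MulAut K, γ * β = β * γ → Odd (orderOf γ) → (∀ y, β y = y → γ y = y) → γ = 1)

theorem invProps_conj (a : MulAut K) {β : MulAut K} (h : InvProps β) : InvProps (a * β * a⁻¹) := by
  refine ⟨fun N hN hNn hodd => ?_, fun γ hc hord hγ => ?_⟩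
  · have h0 := h.1 (N.comap a.toMonoidHom) (fun n hn => a.injective (hN _ hn ▸ by
      show a (β n) = (a * β * a⁻¹) (a n)
      simp [MulAut.mul_apply]))
      (fun γ hc n hn => by
        have h1 := hNn (a * γ * a⁻¹) (by
          rw [show a * γ * a⁻¹ * (a * β * a⁻¹) = a * (γ * β) * a⁻¹ by group, hc]; group) (a n) hn
        show a (γ n) ∈ N
        simpa [MulAut.mul_apply] using h1)
      (hodd.of_dvd_nat (Subgroup.card_comap_dvd_of_injective N a.toMonoidHom a.injective))
    rw [← Subgroup.map_comap_eq_self_of_surjective (f := a.toMonoidHom) a.surjective N, h0, Subgroup.map_bot]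
  · have h1 := h.2 (a⁻¹ * γ * a) (by
      rw [show a⁻¹ * γ * a * β = a⁻¹ * (γ * (a * β * a⁻¹)) * a by group, hc]; group)
      (by
        have := MulEquiv.orderOf_eq (MulAut.conj a⁻¹) γ
        rw [MulAut.conj_apply, inv_inv] at this
        rwa [this])
      (fun y hy => by
        show a⁻¹ (γ (a y)) = y
        rw [hγ (a y) (by simp [MulAut.mul_apply, hy])]
        simp)
    calc γ = a * (a⁻¹ * γ * a) * a⁻¹ := by group
      _ = 1 := by rw [h1]; group

theorem criterion_of_invProps [Finite K] {A : Subgroup (MulAut K)} (hinn : ∀ k : K, MulAut.conj k ∈ A)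
    {β : MulAut K} (hord : orderOf β = 2) (hev : 2 ∣ Nat.card K) (hZ : ∀ k : K, MulAut.conj k = 1 → k = 1)
    (h : InvProps β) (P : Prop) :
    Cfsg.pPrimeCore 2 ↥(A ⊓ Subgroup.centralizer {β}) ≠ ⊥ ↔
      (P ∧ Nat.Coprime 2 (Nat.card ↥(MonoidHom.eqLocus β.toMonoidHom (MonoidHom.id K)))) :=
  involution_criterion hinn hord hev hZ h.1 h.2 P

end CoreCriterion

namespace AutPSL

open Matrix

variable {n : ℕ} {F : Type*} [Field F]

local notation "SLn" => Matrix.SpecialLinearGroup (Fin n) F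
local notation "PSLn" => Matrix.ProjectiveSpecialLinearGroup (Fin n) F
local notation "Mat" => Matrix (Fin n) (Fin n) F
local notation "GLn" => GL (Fin n) F

/-- The isometries of a Gram matrix. -/
def gramStab (G : Mat) : Subgroup GLn where
  carrier := {g | (g : Mat) * G * (g : Mat)ᵀ = G}
  one_mem' := by simp
  mul_mem' {a b} ha hb := by
    show ((a * b : GLn) : Mat) * G * ((a * b : GLn) : Mat)ᵀ = G
    rw [Units.val_mul, Matrix.transpose_mul,
      show (a : Mat) * b * G * ((b : Mat)ᵀ * (a : Mat)ᵀ) = a * (b * G * (b : Mat)ᵀ) * (a : Mat)ᵀ by simp only [mul_assoc],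
      hb, ha]
  inv_mem' {a} ha := by
    show ((a⁻¹ : GLn) : Mat) * G * ((a⁻¹ : GLn) : Mat)ᵀ = G
    have h := congrArg (fun M : Mat => ((a⁻¹ : GLn) : Mat) * M * ((a⁻¹ : GLn) : Mat)ᵀ) (ha : (a : Mat) * G * (a : Mat)ᵀ = G)
    rw [show ((a⁻¹ : GLn) : Mat) * ((a : Mat) * G * (a : Mat)ᵀ) * ((a⁻¹ : GLn) : Mat)ᵀ =
      (((a⁻¹ : GLn) : Mat) * (a : Mat)) * G * (((a⁻¹ : GLn) : Mat) * (a : Mat))ᵀ by
        rw [Matrix.transpose_mul]; simp only [mul_assoc], Units.inv_mul, Matrix.transpose_one, one_mul, mul_one] at h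
    exact h.symm

theorem dia_commute_graph (G : GLn) {g : GLn} {z : Fˣ}
    (h : (g : Mat) * G * (g : Mat)ᵀ = (z : F) • (G : Mat)) :
    dia g * (dia G * invTr) = dia G * invTr * (dia g : MulAut PSLn) := by
  rw [mul_assoc (dia G) invTr, invTr_mul_dia, ← mul_assoc, ← mul_assoc, ← map_mul, ← map_mul]
  congr 1
  have hG : g * G = GeneralLinearGroup.scalar (Fin n) z * (G * itGL g) := by
    refine mul_inv_eq_iff_eq_mul.mp ?_ |>.trans (mul_assoc _ _ _)
    refine Units.ext ?_
    rw [Units.val_mul, Units.val_mul, Units.val_mul, itGL_inv_coe, h]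
    show _ = Matrix.scalar (Fin n) (z : F) * (G : Mat)
    simp [Matrix.scalar_apply, ← Matrix.smul_eq_diagonal_mul]
  rw [hG, map_mul, dia_center (scalar_mem_center z), one_mul]

theorem gram_of_commute [Fintype F] (p : ℕ) [Fact p.Prime] [CharP F p] (hn : 2 ≤ n) (G : GLn) {g : GLn} {τ : F ≃+* F}
    (hτ : galGL τ G = G ∨ τ = 1) (h : dia g * fld τ * (dia G * invTr) = dia G * invTr * (dia g * fld τ : MulAut PSLn)) :
    ∃ z : Fˣ, (g : Mat) * G * (g : Mat)ᵀ = (z : F) • (G : Mat) := by
  have hG : galGL τ G = G := hτ.elim id fun e => by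
    subst e; exact Units.ext (Matrix.ext fun a b => rfl)
  rw [mul_assoc, ← mul_assoc (fld τ), fld_mul_dia, hG, mul_assoc (dia G) invTr, ← mul_assoc invTr,
    invTr_mul_dia, mul_assoc (dia (itGL g)) invTr, invTr_fld, ← mul_assoc, ← mul_assoc, ← mul_assoc,
    ← mul_assoc, ← map_mul, ← map_mul, mul_left_inj, mul_left_inj, ← mul_inv_eq_one, ← map_inv, ← map_mul,
    ← MonoidHom.mem_ker, ker_dia hn p, GeneralLinearGroup.center_eq_range_scalar] at h
  obtain ⟨z, hz⟩ := h
  refine ⟨z, ?_⟩
  have h1 : g * G * (itGL g)⁻¹ = GeneralLinearGroup.scalar (Fin n) z * G := by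
    rw [hz]; group
  have h2 := congrArg (fun x : GLn => (x : Mat)) h1
  simp only [Units.val_mul, itGL_inv_coe] at h2
  rw [h2]
  show Matrix.scalar (Fin n) (z : F) * (G : Mat) = _
  simp [Matrix.scalar_apply, ← Matrix.smul_eq_diagonal_mul]

theorem fix_of_gramStab (G : GLn) {s : SLn} (hs : (s : Mat) * G * (s : Mat)ᵀ = (G : Mat)) :
    (dia G * invTr : MulAut PSLn) (proj s) = proj s := by
  rw [MulAut.mul_apply, invTr_proj, dia_proj]
  refine congrArg proj (sl_ext ?_)
  rw [conjSL_coe, Matrix.SpecialLinearGroup.coe_transpose]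
  have hst : (s : Mat)ᵀ * ((s⁻¹ : SLn) : Mat)ᵀ = 1 := by
    rw [← Matrix.transpose_mul, ← Matrix.SpecialLinearGroup.coe_mul, inv_mul_cancel,
      Matrix.SpecialLinearGroup.coe_one, Matrix.transpose_one]
  calc (G : Mat) * ((s⁻¹ : SLn) : Mat)ᵀ * ((G⁻¹ : GLn) : Mat)
      = ((s : Mat) * G * (s : Mat)ᵀ) * ((s⁻¹ : SLn) : Mat)ᵀ * ((G⁻¹ : GLn) : Mat) := by rw [hs]
    _ = (s : Mat) * ((G : Mat) * ((s : Mat)ᵀ * ((s⁻¹ : SLn) : Mat)ᵀ) * ((G⁻¹ : GLn) : Mat)) := by simp only [mul_assoc]
    _ = _ := by rw [hst, mul_one, Units.mul_inv, mul_one]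

variable [Fintype F] (p : ℕ) [Fact p.Prime] [CharP F p]

include p in
theorem psl_hZ (hn : 2 ≤ n) (k : PSLn) (hk : MulAut.conj k = 1) : k = 1 := by
  obtain ⟨s, rfl⟩ := proj_surjective k
  rw [conj_eq_dia, ← MonoidHom.mem_ker, ker_dia hn p, Subgroup.mem_center_iff] at hk
  rw [proj_eq_one, Subgroup.mem_center_iff]
  intro t
  exact sl_ext (congrArg (fun x : GLn => (x : Mat)) (hk (Matrix.SpecialLinearGroup.toGL t)))

include p in
/-- An element of odd order has no graph part. -/
theorem odd_decomposition (hn : 2 ≤ n) {γ : MulAut PSLn} (hodd : Odd (orderOf γ)) :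
    ∃ (g : GLn) (τ : F ≃+* F), γ = dia g * fld τ := by
  obtain ⟨g, d, hγ⟩ := decomposition_outer p hn γ
  obtain ⟨j, hj⟩ := hodd
  have hd2 : (d ^ (2 * (j + 1))).2 = 1 := by
    rw [Prod.pow_snd, pow_mul, sq, show d.2 * d.2 = 1 by
      rcases eq_or_ne d.2 1 with h | h
      · rw [h, one_mul]
      · rw [eq_gra_of_ne_one h, gra_mul_gra], one_pow]
  refine ⟨twistProd d g (2 * (j + 1)), (d ^ (2 * (j + 1))).1, ?_⟩
  rw [show γ = γ ^ (2 * (j + 1)) by rw [show 2 * (j + 1) = orderOf γ + 1 by omega, pow_succ, pow_orderOf_eq_one, one_mul]]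
  conv_lhs => rw [hγ, dia_mul_outerPart_pow]
  congr 1
  rw [← outerPart_one]
  exact congrArg outerPart (Prod.ext rfl hd2)

include p in
/-- The first condition, from the isometry group. -/
theorem odd_fixed_eq_bot (hn : 2 ≤ n) (G : GLn) (hfree : OddFree.OddFree (gramStab (G : Mat)))
    (N : Subgroup PSLn) (hN : ∀ x ∈ N, (dia G * invTr : MulAut PSLn) x = x)
    (hnorm : ∀ γ : MulAut PSLn, γ * (dia G * invTr) = dia G * invTr * γ → ∀ x ∈ N, γ x ∈ N)
    (hodd : Odd (Nat.card N)) : N = ⊥ := by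
  classical
  have hinj : Function.Injective (MulAut.conj : PSLn →* MulAut PSLn) :=
    (injective_iff_map_eq_one _).mpr (psl_hZ p hn)
  let ψ : gramStab (G : Mat) →* MulAut PSLn := (dia : GLn →* MulAut PSLn).comp (gramStab (G : Mat)).subtype
  have hker : ∀ x : gramStab (G : Mat), x ∈ ψ.ker → x ∈ Subgroup.center _ ∧ (x = 1 ∨ ((x.1 : GLn) : Mat) = -1) := by
    intro x hx
    have hx' : x.1 ∈ Subgroup.center GLn := by rw [← ker_dia hn p]; exact hx
    refine ⟨Subgroup.mem_center_iff.mpr fun y => Subtype.ext (Subgroup.mem_center_iff.mp hx' y.1), ?_⟩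
    rw [GeneralLinearGroup.center_eq_range_scalar] at hx'
    obtain ⟨u, hu⟩ := hx'
    have hu2 : (u : F) * u = 1 := by
      have h : (x.1 : Mat) * (G : Mat) * (x.1 : Mat)ᵀ = (G : Mat) := x.2
      rw [← hu] at h
      have hsc : ((GeneralLinearGroup.scalar (Fin n) u : GLn) : Mat) = (u : F) • (1 : Mat) := by
        show Matrix.scalar (Fin n) (u : F) = _
        rw [Matrix.scalar_apply, Matrix.smul_one_eq_diagonal]
      rw [hsc, Matrix.transpose_smul, Matrix.transpose_one, Matrix.smul_mul, one_mul, Matrix.mul_smul, mul_one,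
        smul_smul] at h
      have h1 := congrArg (fun M : Mat => M * ((G⁻¹ : GLn) : Mat)) h
      simp only [Matrix.smul_mul, Units.mul_inv] at h1
      have := congrFun (congrFun h1 ⟨0, by omega⟩) ⟨0, by omega⟩
      simpa using this
    rcases mul_self_eq_one_iff.mp hu2 with e | e
    · left
      refine Subtype.ext (Units.ext ?_)
      rw [← hu]
      show Matrix.scalar (Fin n) (u : F) = 1
      rw [e, map_one]
    · right
      rw [← hu]
      show Matrix.scalar (Fin n) (u : F) = -1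
      rw [e, map_neg, map_one]
  have hkcard : Nat.card ψ.ker ∣ 2 := by
    have h1 : 0 < Nat.card ψ.ker := Nat.card_pos
    have h2 : Nat.card ψ.ker ≤ 2 := by
      let f : ψ.ker → Bool := fun x => decide (x.1 = 1)
      have hf : Function.Injective f := fun a b e => by
        rcases (hker a.1 a.2).2 with ha | ha <;> rcases (hker b.1 b.2).2 with hb | hb
        · exact Subtype.ext (ha.trans hb.symm)
        · by_cases hb1 : b.1 = 1
          · exact Subtype.ext (ha.trans hb1.symm)
          · exact absurd ((decide_eq_decide.mp e).mp ha) hb1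
        · by_cases ha1 : a.1 = 1
          · exact Subtype.ext (ha1.trans hb.symm)
          · exact absurd ((decide_eq_decide.mp e).mpr hb) ha1
        · exact Subtype.ext (Subtype.ext (Units.ext (ha.trans hb.symm)))
      exact (Nat.card_le_card_of_injective f hf).trans (by simp)
    interval_cases Nat.card ψ.ker <;> norm_num
  have hmap : N.map (MulAut.conj : PSLn →* MulAut PSLn) = ⊥ := by
    refine OddFree.eq_bot_of_hom hfree ψ hkcard (fun x hx => (hker x hx).1) _ ?_ ?_ ?_
    · rintro _ ⟨x, hx, rfl⟩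
      obtain ⟨s, rfl⟩ := proj_surjective x
      have hcomm : MulAut.conj (proj s) * (dia G * invTr) = dia G * invTr * MulAut.conj (proj s) := by
        refine MulEquiv.ext fun y => ?_
        show proj s * (dia G * invTr : MulAut PSLn) y * (proj s)⁻¹ = (dia G * invTr : MulAut PSLn) (proj s * y * (proj s)⁻¹)
        rw [map_mul, map_mul, map_inv, hN _ hx]
      rw [conj_eq_dia, ← mul_one (dia (Matrix.SpecialLinearGroup.toGL s)), ← map_one fld] at hcomm
      obtain ⟨z, hz⟩ := gram_of_commute p hn G (Or.inr rfl) hcomm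
      have hsq : (proj s * proj s : PSLn) ∈ N := N.mul_mem hx hx
      have hs2 : MulAut.conj (proj s * proj s) ∈ ψ.range := by
        refine ⟨⟨GeneralLinearGroup.scalar (Fin n) z⁻¹ * (Matrix.SpecialLinearGroup.toGL s * Matrix.SpecialLinearGroup.toGL s), ?_⟩, ?_⟩
        · show _ * _ * _ = _
          rw [Units.val_mul, Units.val_mul]
          set S := ((Matrix.SpecialLinearGroup.toGL s : GLn) : Mat)
          have hsc : ((GeneralLinearGroup.scalar (Fin n) z⁻¹ : GLn) : Mat) = ((z⁻¹ : Fˣ) : F) • (1 : Mat) := by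
            show Matrix.scalar (Fin n) ((z⁻¹ : Fˣ) : F) = _
            rw [Matrix.scalar_apply, Matrix.smul_one_eq_diagonal]
          rw [hsc, Matrix.smul_mul, one_mul, Matrix.transpose_smul, Matrix.transpose_mul, Matrix.smul_mul,
            Matrix.smul_mul, Matrix.mul_smul, smul_smul,
            show S * S * (G : Mat) * (Sᵀ * Sᵀ) = S * (S * G * Sᵀ) * Sᵀ by simp only [mul_assoc], hz,
            Matrix.mul_smul, Matrix.smul_mul, hz, smul_smul, smul_smul]
          rw [show ((z⁻¹ : Fˣ) : F) * ((z⁻¹ : Fˣ) : F) * (z : F) * (z : F) = 1 by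
            simp [mul_comm, mul_left_comm], one_smul]
        · show dia (GeneralLinearGroup.scalar (Fin n) z⁻¹ * (Matrix.SpecialLinearGroup.toGL s * Matrix.SpecialLinearGroup.toGL s)) = _
          rw [map_mul dia, map_mul dia, dia_center (scalar_mem_center z⁻¹), one_mul, map_mul, conj_eq_dia]
      have hc2 : (MulAut.conj (proj s) : MulAut PSLn) ^ (2 ^ 1) ∈ ψ.range := by
        rw [pow_one, sq, ← map_mul]; exact hs2
      haveI : Finite (MulAut PSLn) := Finite.of_injective _ DFunLike.coe_injective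
      exact OddFree.mem_of_pow_mem (N := N.map (MulAut.conj : PSLn →* MulAut PSLn))
        (by rwa [Subgroup.card_map_of_injective hinj]) ⟨_, hx, rfl⟩ hc2
    · rintro x _ ⟨y, hy, rfl⟩
      refine ⟨ψ x y, hnorm _ ?_ y hy, MulEquiv.ext fun z => by simp [MulAut.mul_apply]⟩
      exact dia_commute_graph G (z := 1) (by rw [Units.val_one, one_smul]; exact x.2)
    · rwa [Subgroup.card_map_of_injective hinj]
  rwa [Subgroup.map_eq_bot_iff_of_injective _ hinj] at hmap

include p in
/-- The end of the rigidity argument. -/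
theorem eq_one_of_diagonal (hn : 2 ≤ n) (G : GLn) {g : GLn} {γ : MulAut PSLn} (hγ : γ = dia g)
    (hc : γ * (dia G * invTr) = dia G * invTr * γ) (hodd : Odd (orderOf γ))
    (hg : ∀ i j, i ≠ j → (g : Mat) i j = 0) (hpair : ∀ i, ∃ j, (G : Mat) i j ≠ 0 ∧ (g : Mat) i i = (g : Mat) j j) :
    γ = 1 := by
  classical
  have hG : ∀ (M : Mat) i j, ((g : Mat) * M * (g : Mat)ᵀ) i j = (g : Mat) i i * M i j * (g : Mat) j j := fun M i j => by
    rw [Matrix.mul_apply, Finset.sum_eq_single j
      (fun k _ hk => by rw [Matrix.transpose_apply, hg j k hk.symm, mul_zero]) (by simp), Matrix.transpose_apply,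
      Matrix.mul_apply, Finset.sum_eq_single i (fun k _ hk => by rw [hg i k hk.symm, zero_mul]) (by simp)]
  subst hγ
  rw [← mul_one (dia g), ← map_one fld] at hc
  obtain ⟨z, hz⟩ := gram_of_commute p hn G (Or.inr rfl) hc
  have hsq : ∀ i, (g : Mat) i i * (g : Mat) i i = z := fun i => by
    obtain ⟨j, hj, hij⟩ := hpair i
    have h := congrFun (congrFun hz i) j
    rw [hG, Matrix.smul_apply, smul_eq_mul, ← hij] at h
    exact mul_right_cancel₀ hj (by rw [← h]; ring)
  have hg2 : g * g = GeneralLinearGroup.scalar (Fin n) z := by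
    refine Units.ext ?_
    show (g : Mat) * (g : Mat) = Matrix.scalar (Fin n) (z : F)
    ext i j
    rw [Matrix.mul_apply, Finset.sum_eq_single i (fun k _ hk => by rw [hg i k hk.symm, zero_mul]) (by simp),
      Matrix.scalar_apply]
    rcases eq_or_ne i j with rfl | hij
    · rw [hsq, Matrix.diagonal_apply_eq]
    · rw [hg i j hij, mul_zero, Matrix.diagonal_apply_ne _ hij]
  have h2 : (dia g : MulAut PSLn) * dia g = 1 := by rw [← map_mul, hg2, dia_center (scalar_mem_center z)]
  have h3 : orderOf (dia g : MulAut PSLn) ∣ 2 := orderOf_dvd_of_pow_eq_one (by rw [sq, h2])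
  rcases (Nat.dvd_prime Nat.prime_two).mp h3 with e | e
  · exact orderOf_eq_one_iff.mp e
  · rw [e] at hodd; exact absurd hodd (by decide)

end AutPSL

end Cfsg.Agent.Lib.Classical
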