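import Cfsg.Agent.Lib.Classical.AutPSL.Main

/-!
Automorphisms of `PSL_n(q)`, part 4: the standard automorphisms satisfy the predicates of the
definition files.
-/

set_option autoImplicit false

namespace Cfsg.Agent.Lib.Classical.AutPSL

open Matrix

variable {n : ℕ} {F : Type*} [Field F]

local notation "SLn" => Matrix.SpecialLinearGroup (Fin n) F
local notation "PSLn" => Matrix.ProjectiveSpecialLinearGroup (Fin n) F

theorem isInnerDiagonal_dia (g : GL (Fin n) F) :
    Cfsg.IsInnerDiagonalAutPSL (dia (n := n) g) := by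
  refine ⟨g, fun s s' h => ?_⟩
  show dia g (proj s) = proj s'
  rw [dia_proj]
  exact congrArg proj (sl_ext h.symm)

theorem isStdField_fld (σ : F ≃+* F) : Cfsg.IsStdFieldAutPSL σ (fld (n := n) σ) := by
  intro s s' h
  show fld σ (proj s) = proj s'
  rw [fld_proj]
  exact congrArg proj (sl_ext ((slCongr_coe σ s).trans h.symm))

theorem isInverseTranspose_invTr : Cfsg.IsInverseTransposeAutPSL (invTr (n := n) (F := F)) := by
  intro s s' h
  show invTr (proj s) = proj s'
  rw [invTr_proj]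
  exact congrArg proj (sl_ext h.symm)

theorem isInducedBySemilinear (g : GL (Fin n) F) (σ : F ≃+* F) :
    Cfsg.IsInducedBySemilinearPSL g σ (dia (n := n) g * fld σ) := by
  intro s s' h
  show (dia g * fld σ : MulAut PSLn) (proj s) = proj s'
  rw [MulAut.mul_apply, fld_proj, dia_proj]
  exact congrArg proj (sl_ext h.symm)

variable [Fintype F] (p : ℕ) [Fact p.Prime] [CharP F p]

include p in
theorem exists_kinds (hn : 2 ≤ n) (β : MulAut PSLn) :
    ∃ (δ φ γ : MulAut PSLn) (σ : F ≃+* F), Cfsg.IsInnerDiagonalAutPSL δ ∧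
      Cfsg.IsStdFieldAutPSL σ φ ∧ (γ = 1 ∨ Cfsg.IsInverseTransposeAutPSL γ) ∧ β = δ * φ * γ := by
  obtain ⟨g, σ, e | ⟨-, e⟩⟩ := decomposition p hn β
  · exact ⟨_, _, 1, σ, isInnerDiagonal_dia g, isStdField_fld σ, Or.inl rfl, by rw [mul_one, e]⟩
  · exact ⟨_, _, _, σ, isInnerDiagonal_dia g, isStdField_fld σ, Or.inr isInverseTranspose_invTr, e⟩

include p in
theorem gamma_sup_eq_top (hn : 2 ≤ n) :
    Cfsg.gammaPSL n F ⊔ Cfsg.autSubgroupOf (fun β : PSLn ≃* PSLn => Cfsg.IsInverseTransposeAutPSL β) = ⊤ := by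
  refine eq_top_iff.mpr fun β _ => ?_
  have hg : ∀ (g : GL (Fin n) F) (σ : F ≃+* F), dia g * fld σ ∈ Cfsg.gammaPSL n F := fun g σ =>
    Subgroup.subset_closure ⟨g, σ, isInducedBySemilinear g σ⟩
  obtain ⟨g, σ, e | ⟨-, e⟩⟩ := decomposition p hn β
  · rw [e]
    exact Subgroup.mem_sup_left (hg g σ)
  · rw [e]
    exact mul_mem (Subgroup.mem_sup_left (hg g σ))
      (Subgroup.mem_sup_right (Subgroup.subset_closure isInverseTranspose_invTr))

theorem charP_of_card {p f : ℕ} [Fact p.Prime] (hF : Fintype.card F = p ^ f) : CharP F p :=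
  charP_of_card_eq_prime_pow hF

end Cfsg.Agent.Lib.Classical.AutPSL
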