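import Cfsg.Agent.Lib.Classical.AutPSL.GraphNormal
import Cfsg.Agent.Lib.Classical.AutPSL.Kinds
import Cfsg.Agent.Lib.Classical.AutPSU.Count

/-!
Automorphisms of `PSL`: the criterion for the odd cores of centralizers of outer automorphisms of prime order.
-/

set_option autoImplicit false

namespace Cfsg.Agent.Lib.Classical.AutPSL

open Matrix

variable {n : ℕ} {F : Type*} [Field F] [Fintype F]

local notation "SLn" => Matrix.SpecialLinearGroup (Fin n) F
local notation "PSLn" => Matrix.ProjectiveSpecialLinearGroup (Fin n) F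
local notation "Mat" => Matrix (Fin n) (Fin n) F
local notation "GLn" => GL (Fin n) F

/-- Primes dividing the order of `GL` divide that of `PSL`. -/
theorem prime_dvd_psl (hn : 2 ≤ n) {ℓ : ℕ} (hℓ : ℓ.Prime) (p : ℕ) [Fact p.Prime] [CharP F p]
    (hd : ℓ ∣ Nat.card GLn) : ℓ ∣ Nat.card PSLn := by
  classical
  haveI : Nonempty (Fin n) := ⟨⟨0, by omega⟩⟩
  haveI : Fact ℓ.Prime := ⟨hℓ⟩
  by_cases hq : ℓ ∣ Fintype.card F - 1
  · obtain ⟨a, ha⟩ := exists_prime_orderOf_dvd_card' (G := Fˣ) ℓ (by
      rwa [Nat.card_units, Nat.card_eq_fintype_card])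
    have ha1 : (a : F) ≠ 1 := fun e => by
      rw [Units.val_eq_one.mp e, orderOf_one] at ha
      exact hℓ.one_lt.ne ha
    let i₀ : Fin n := ⟨0, by omega⟩
    let i₁ : Fin n := ⟨1, by omega⟩
    have h01 : i₀ ≠ i₁ := fun e => by simpa [i₀, i₁] using congrArg Fin.val e
    suffices h : ∃ s : SLn, proj s ^ ℓ = 1 ∧ proj s ≠ 1 by
      obtain ⟨s, h1, h2⟩ := h
      exact orderOf_eq_prime h1 h2 ▸ orderOf_dvd_natCard _
    by_cases h2 : n = 2 ∧ ℓ = 2
    · obtain ⟨hn2, rfl⟩ := h2
      let J : SLn := Matrix.SpecialLinearGroup.transvection h01 1 *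
        Matrix.SpecialLinearGroup.transvection h01.symm (-1) * Matrix.SpecialLinearGroup.transvection h01 1
      subst hn2
      have hJ : (J : Matrix (Fin 2) (Fin 2) F) = !![0, 1; -1, 0] := by
        show Matrix.transvection i₀ i₁ 1 * Matrix.transvection i₁ i₀ (-1) * Matrix.transvection i₀ i₁ 1 = _
        ext a b
        fin_cases a <;> fin_cases b <;> simp [i₀, i₁, Matrix.transvection, Matrix.mul_apply, Fin.sum_univ_two, Matrix.one_apply, Matrix.single_apply]
      refine ⟨J, ?_, fun e => ?_⟩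
      · rw [← map_pow, proj_eq_one, Matrix.SpecialLinearGroup.mem_center_iff]
        refine ⟨-1, by simp, ?_⟩
        rw [sq, Matrix.SpecialLinearGroup.coe_mul, hJ]
        ext a b
        fin_cases a <;> fin_cases b <;> simp [Matrix.mul_apply, Fin.sum_univ_two]
      · rw [proj_eq_one, Matrix.SpecialLinearGroup.mem_center_iff] at e
        obtain ⟨r, -, hr⟩ := e
        have h := congrFun (congrFun hr 0) 1
        rw [hJ] at h
        simp at h
    · let v : Fin n → F := fun k => if k = i₀ then a else if k = i₁ then ((a⁻¹ : Fˣ) : F) else 1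
      have hdet : (Matrix.diagonal v).det = 1 := by
        rw [Matrix.det_diagonal, Finset.prod_eq_mul i₀ i₁ h01 (fun k _ hk => by simp [v, hk.1, hk.2])
          (fun h => absurd (Finset.mem_univ _) h) (fun h => absurd (Finset.mem_univ _) h)]
        simp [v, h01.symm]
      obtain ⟨s, hs⟩ : ∃ s : SLn, (s : Mat) = Matrix.diagonal v := ⟨⟨Matrix.diagonal v, hdet⟩, rfl⟩
      refine ⟨s, ?_, fun e => ?_⟩
      · rw [← map_pow, show s ^ ℓ = 1 from ?_, map_one]
        refine sl_ext ?_
        rw [Matrix.SpecialLinearGroup.coe_pow, hs]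
        rw [Matrix.diagonal_pow, Matrix.SpecialLinearGroup.coe_one, ← Matrix.diagonal_one]
        congr 1
        funext k
        have hu : a ^ ℓ = 1 := ha ▸ pow_orderOf_eq_one a
        simp only [Pi.pow_apply, v]
        split_ifs
        · rw [← Units.val_pow_eq_pow_val, hu, Units.val_one]
        · rw [← Units.val_pow_eq_pow_val, inv_pow, hu, inv_one, Units.val_one]
        · exact one_pow _
      · rw [proj_eq_one, Matrix.SpecialLinearGroup.mem_center_iff] at e
        obtain ⟨r, -, hr⟩ := e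
        rw [hs] at hr
        have h0 : r = v i₀ := by simpa using congrFun (congrFun hr i₀) i₀
        have h1 : r = v i₁ := by simpa using congrFun (congrFun hr i₁) i₁
        by_cases hn3 : 3 ≤ n
        · have h3 : r = v ⟨2, by omega⟩ := by simpa using congrFun (congrFun hr ⟨2, by omega⟩) ⟨2, by omega⟩
          have e2 : v ⟨2, by omega⟩ = 1 := by simp [v, i₀, i₁, Fin.ext_iff]
          have e0 : v i₀ = a := by simp [v]
          exact ha1 (by rw [← e0, ← h0, h3, e2])
        · have e1 : (a : F) = ((a⁻¹ : Fˣ) : F) := by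
            have e0 : v i₀ = a := by simp [v]
            have e1 : v i₁ = ((a⁻¹ : Fˣ) : F) := by simp [v, h01.symm]
            rw [← e0, ← e1, ← h0, ← h1]
          have hsq : a ^ 2 = 1 := by
            rw [sq]
            nth_rewrite 2 [Units.ext e1]
            exact mul_inv_cancel a
          have := orderOf_dvd_of_pow_eq_one hsq
          rw [ha] at this
          exact h2 ⟨by omega, (Nat.prime_dvd_prime_iff_eq hℓ Nat.prime_two).mp this⟩
  · have hdet : Nat.card GLn = Nat.card SLn * Nat.card Fˣ := by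
      have hsurj : Function.Surjective (GeneralLinearGroup.det : GLn →* Fˣ) := fun u => exists_gl_det (by omega) u
      rw [← (GeneralLinearGroup.det : GLn →* Fˣ).ker.card_mul_index, Subgroup.index_ker,
        MonoidHom.range_eq_top.mpr hsurj, Subgroup.card_top]
      congr 1
      rw [← range_toGL_eq_ker_det]
      exact (Nat.card_congr (MonoidHom.ofInjective Matrix.SpecialLinearGroup.toGL_injective).toEquiv).symm
    rw [hdet, Nat.card_units, Nat.card_eq_fintype_card (α := F)] at hd
    have h1 := (hℓ.dvd_mul.mp hd).resolve_right hq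
    rw [Subgroup.card_eq_card_quotient_mul_card_subgroup (Subgroup.center SLn), card_center_SL] at h1
    exact (hℓ.dvd_mul.mp h1).resolve_right fun h => hq (h.trans (Nat.gcd_dvd_right _ _))

/-- Non-trivial normal subgroups of `PSL` absorb the primes other than the characteristic. -/
theorem psl_normal_card (p : ℕ) [Fact p.Prime] [CharP F p] (hn : 2 ≤ n) {ℓ : ℕ} (hℓ : ℓ.Prime) (hℓp : ℓ ≠ p)
    (N : Subgroup PSLn) (hN : N.Normal) (hne : N ≠ ⊥) (hd : ℓ ∣ Nat.card PSLn) : ℓ ∣ Nat.card N := by
  classical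
  by_cases hs : n = 2 → 4 ≤ Nat.card F
  · haveI := isSimpleGroup_PSL_fin hn hs
    rcases hN.eq_bot_or_eq_top with h | h
    · exact absurd h hne
    · rwa [h, Subgroup.card_top]
  rw [_root_.not_imp] at hs
  obtain ⟨rfl, hq⟩ := hs
  rw [Nat.card_eq_fintype_card] at hq
  have h1 := Fintype.one_lt_card (α := F)
  have hcard := Subgroup.card_eq_card_quotient_mul_card_subgroup (Subgroup.center (SpecialLinearGroup (Fin 2) F))
  rw [card_SL2, card_center_SL, Fintype.card_fin] at hcard
  have hcases : Fintype.card F = 2 ∨ Fintype.card F = 3 := by omega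
  rcases hcases with h2 | h3
  · -- order six
    have hp2 : p = 2 := by
      haveI : Fact (Nat.Prime 2) := ⟨Nat.prime_two⟩
      haveI : CharP F 2 := charP_of_card_eq_prime h2
      exact CharP.eq F ‹_› ‹_›
    rw [h2, show 2 * (2 ^ 2 - 1) = 6 from rfl, show Nat.gcd 2 (2 - 1) = 1 from rfl, mul_one] at hcard
    change 6 = Nat.card (ProjectiveSpecialLinearGroup (Fin 2) F) at hcard
    rw [← hcard] at hd
    have hℓ3 : ℓ = 3 := by
      have hle := Nat.le_of_dvd (by norm_num) hd
      have h2l := hℓ.two_le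
      interval_cases ℓ <;> simp_all (config := { decide := true })
    subst hℓ3
    by_contra hN3
    have hd6 : Nat.card N ∣ 6 := hcard ▸ Subgroup.card_subgroup_dvd_card N
    have hN2 : Nat.card N = 2 := by
      have hle := Nat.le_of_dvd (by norm_num) hd6
      have h1' : Nat.card N ≠ 1 := fun e => hne (Subgroup.card_eq_one.mp e)
      have h0 : 0 < Nat.card N := Nat.card_pos
      interval_cases hk : Nat.card N <;> simp_all (config := { decide := true })
    have hidx : N.index = 3 := by
      have := N.card_mul_index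
      rw [hN2, ← hcard] at this
      omega
    have hmem : ∀ x : ProjectiveSpecialLinearGroup (Fin 2) F, x ^ 2 = 1 → x ∈ N := by
      intro x hx
      rw [← QuotientGroup.eq_one_iff (N := N)]
      set y : ProjectiveSpecialLinearGroup (Fin 2) F ⧸ N := QuotientGroup.mk x
      have e2 : orderOf y ∣ 2 := orderOf_dvd_of_pow_eq_one (by
        show (QuotientGroup.mk x : ProjectiveSpecialLinearGroup (Fin 2) F ⧸ N) ^ 2 = 1
        rw [← QuotientGroup.mk_pow, hx, QuotientGroup.mk_one])
      have e3 : orderOf y ∣ 3 := hidx ▸ Subgroup.index_eq_card N ▸ orderOf_dvd_natCard y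
      exact orderOf_eq_one_iff.mp (Nat.eq_one_of_dvd_coprimes (by norm_num) e2 e3)
    subst hp2
    have htop : N.comap (proj (n := 2) (F := F)) = ⊤ := SL_eq_top_of_transvection_mem fun i j hij b => by
      refine hmem _ ?_
      rw [← map_pow, show SpecialLinearGroup.transvection hij b ^ 2 = 1 from ?_, map_one]
      refine Subtype.ext ?_
      rw [Matrix.SpecialLinearGroup.coe_pow, Matrix.SpecialLinearGroup.coe_one]
      show Matrix.transvection i j b ^ 2 = 1
      rw [pow_two, Matrix.transvection_mul_transvection_same _ _ hij, CharTwo.add_self_eq_zero, Matrix.transvection_zero]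
    have hNt : N = ⊤ := by
      rw [← Subgroup.map_comap_eq_self_of_surjective proj_surjective N, htop, Subgroup.map_top_of_surjective _ proj_surjective]
    rw [hNt, Subgroup.card_top, ← hcard] at hN2
    norm_num at hN2
  · -- order twelve
    have hp3 : p = 3 := by
      haveI : Fact (Nat.Prime 3) := ⟨Nat.prime_three⟩
      haveI : CharP F 3 := charP_of_card_eq_prime h3
      exact CharP.eq F ‹_› ‹_›
    rw [h3, show 3 * (3 ^ 2 - 1) = 24 from rfl, show Nat.gcd 2 (3 - 1) = 2 from rfl] at hcard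
    change 24 = Nat.card (ProjectiveSpecialLinearGroup (Fin 2) F) * 2 at hcard
    have h12 : Nat.card (ProjectiveSpecialLinearGroup (Fin 2) F) = 12 := by omega
    rw [h12] at hd
    have hℓ2 : ℓ = 2 := by
      have hle := Nat.le_of_dvd (by norm_num) hd
      have h2l := hℓ.two_le
      interval_cases ℓ <;> simp_all (config := { decide := true })
    subst hℓ2
    by_contra hodd
    exact hne (OddFree.oddFree_psl_two (by rw [h3]; decide) N hN (Nat.odd_iff.mpr (Nat.two_dvd_ne_zero.mp hodd)))

/-- Conjugating classes fixed up to scalars by a field automorphism into the subfield. -/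
theorem exists_subfield_rep (hn : 1 ≤ n) {σ : F ≃+* F} {r : ℕ} (hr : r.Prime) (hσr : σ ^ r = 1) (hσ : σ ≠ 1)
    {F₀ : Type*} [Field F₀] {j : F₀ →+* F} (hj : ∀ a, σ a = a ↔ ∃ b, j b = a) (y : GLn)
    (hy : y⁻¹ * galGL σ y ∈ Subgroup.center GLn) :
    ∃ k : GL (Fin n) F₀, y⁻¹ * Matrix.GeneralLinearGroup.map j k ∈ Subgroup.center GLn := by
  classical
  rw [GeneralLinearGroup.center_eq_range_scalar] at hy
  obtain ⟨c, hc⟩ := hy
  have hty : galGL σ y = y * GeneralLinearGroup.scalar (Fin n) c := by rw [hc, mul_inv_cancel_left]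
  have hiter : ∀ k, ∃ v : Fˣ, (v : F) = galNorm σ k c ∧
      galGL (σ ^ k) y = y * GeneralLinearGroup.scalar (Fin n) v := by
    intro k
    induction k with
    | zero =>
      refine ⟨1, rfl, ?_⟩
      rw [map_one, mul_one, pow_zero]
      exact Units.ext (Matrix.ext fun a b => rfl)
    | succ k ih =>
      obtain ⟨v, hv, e⟩ := ih
      refine ⟨c * Units.map (σ : F →* F) v, by rw [Units.val_mul, galNorm, Units.coe_map, hv]; rfl, ?_⟩
      rw [show galGL (σ ^ (k + 1)) y = galGL σ (galGL (σ ^ k) y) from by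
        refine Units.ext (Matrix.ext fun a b => ?_)
        rw [pow_succ']; rfl, e, map_mul, hty, galGL_scalar, mul_assoc, ← map_mul]
  obtain ⟨v, hv, e⟩ := hiter r
  rw [hσr, show galGL (1 : F ≃+* F) y = y from Units.ext (Matrix.ext fun a b => rfl), eq_comm,
    mul_eq_left, ← map_one (GeneralLinearGroup.scalar (Fin n)), (scalar_injective hn).eq_iff] at e
  obtain ⟨b, hb0, hb⟩ := exists_twist_scalar hr hσr hσ (a := (c : F)) (by rw [← hv, e, Units.val_one])
  set h := y * GeneralLinearGroup.scalar (Fin n) (Units.mk0 b hb0)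
  have hh : ∀ a b, σ ((h : Mat) a b) = (h : Mat) a b := by
    intro a b'
    have : galGL σ h = h := by
      rw [map_mul, hty, galGL_scalar, mul_assoc, ← map_mul]
      congr 2
      exact Units.ext hb
    exact congrArg (fun x : GLn => (x : Mat) a b') this
  choose H hH using fun a b => (hj ((h : Mat) a b)).mp (hh a b)
  have hdet : (Matrix.of H).det ≠ 0 := by
    intro h0
    have h1 : (h : Mat).det = j (Matrix.of H).det := by
      rw [RingHom.map_det]
      congr 1
      exact Matrix.ext fun a b => (hH a b).symm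
    rw [h0, map_zero] at h1
    exact (GeneralLinearGroup.det h).ne_zero h1
  refine ⟨GeneralLinearGroup.mkOfDetNeZero (Matrix.of H) hdet, ?_⟩
  rw [show Matrix.GeneralLinearGroup.map j (GeneralLinearGroup.mkOfDetNeZero (Matrix.of H) hdet) = h from
    Units.ext (Matrix.ext fun a b => hH a b), inv_mul_cancel_left]
  exact scalar_mem_center _

variable (p : ℕ) [Fact p.Prime] [CharP F p]

include p in
/-- The fixed points of a standard field automorphism. -/
theorem props_field (hn : 2 ≤ n) {ℓ : ℕ} [Fact ℓ.Prime] (hℓp : ℓ ≠ p) {σ : F ≃+* F} (hoσ : orderOf σ = ℓ) :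
    CoreCriterion.Props ℓ (outerPart (σ, 1) : MulAut PSLn) := by
  classical
  have hℓ : ℓ.Prime := Fact.out
  have hσr : σ ^ ℓ = 1 := hoσ ▸ pow_orderOf_eq_one σ
  have hσ1 : σ ≠ 1 := fun e => by rw [e, orderOf_one] at hoσ; exact hℓ.one_lt.ne hoσ
  obtain ⟨K, hK, hj, hcard⟩ := CoreCriterion.exists_fixed_subfield (F := F) hoσ
  haveI : CharP K p := (K.subtype.charP_iff K.subtype.injective p).mpr inferInstance
  set j := K.subtype
  set φ : MulAut PSLn := outerPart (σ, 1) with hφ
  let jG : GL (Fin n) K →* GLn := Matrix.GeneralLinearGroup.map j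
  let ι₀ : SpecialLinearGroup (Fin n) K →* PSLn := proj.comp (Matrix.SpecialLinearGroup.map j)
  have hι : ∀ t : SpecialLinearGroup (Fin n) K, ((Matrix.SpecialLinearGroup.map j t : SLn) : Mat) = (t : Matrix (Fin n) (Fin n) K).map j := fun t => rfl
  have hker : ∀ t, ι₀ t = 1 → proj t = 1 := fun t h => by
    rw [proj_eq_one, Subgroup.mem_center_iff]
    have h' := Subgroup.mem_center_iff.mp (proj_eq_one.mp h)
    intro u
    refine sl_ext (Matrix.map_injective j.injective ?_)
    have := congrArg (fun x : SLn => (x : Mat)) (h' (Matrix.SpecialLinearGroup.map j u))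
    show ((u : Matrix (Fin n) (Fin n) K) * (t : Matrix (Fin n) (Fin n) K)).map j =
      ((t : Matrix (Fin n) (Fin n) K) * (u : Matrix (Fin n) (Fin n) K)).map j
    rw [Matrix.map_mul, Matrix.map_mul]
    exact this
  have hιfix : ∀ t, φ (ι₀ t) = ι₀ t := fun t => by
    show outerPart (σ, 1) (proj _) = proj _
    rw [outerPart_one, fld_proj]
    exact congrArg proj (sl_ext (Matrix.ext fun a b => (hj _).mpr ⟨_, rfl⟩))
  have hconjT : ∀ k t, dia (jG k) (ι₀ t) = ι₀ (conjSL k t) := fun k t => by
    show proj (conjSL (jG k) _) = proj _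
    refine congrArg proj (sl_ext ?_)
    rw [conjSL_coe, hι, hι, conjSL_coe, Matrix.map_mul, Matrix.map_mul]
    rfl
  have hscal : ∀ y : GLn, y ∈ Subgroup.center GLn → (dia y : MulAut PSLn) = 1 := fun y hy => dia_center hy
  have hrep : ∀ g : GLn, dia g * φ = φ * (dia g : MulAut PSLn) → ∃ k, (dia g : MulAut PSLn) = dia (jG k) := fun g hg => by
    obtain ⟨k, hk⟩ := exists_subfield_rep (show 1 ≤ n by omega) hℓ hσr hσ1 hj g (by
      rw [← twist_one, ← mem_centralizer_outerPart p hn, Subgroup.mem_centralizer_singleton_iff]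
      exact hg)
    refine ⟨k, ?_⟩
    have := hscal _ hk
    rw [map_mul, map_inv, inv_mul_eq_one] at this
    exact this
  have hYdia : ∀ y, φ y = y → ∃ k, MulAut.conj y = (dia (jG k) : MulAut PSLn) := fun y hy => by
    obtain ⟨s, rfl⟩ := proj_surjective y
    rw [conj_eq_dia]
    refine hrep _ ?_
    rw [← conj_eq_dia]
    refine MulEquiv.ext fun z => ?_
    simp [MulAut.mul_apply, hy]
  let f : Matrix.ProjectiveSpecialLinearGroup (Fin n) K →* ι₀.range :=
    QuotientGroup.lift _ ι₀.rangeRestrict fun z hz => by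
      refine Subtype.ext (proj_eq_one.mpr ?_)
      rw [Matrix.SpecialLinearGroup.mem_center_iff] at hz ⊢
      obtain ⟨r, hr, hrz⟩ := hz
      refine ⟨j r, by rw [← map_pow, hr, map_one], ?_⟩
      rw [hι, ← hrz]
      ext a b
      simp [Matrix.scalar_apply, Matrix.diagonal, apply_ite j]
  have hf : Function.Bijective f := by
    refine ⟨(injective_iff_map_eq_one f).mpr fun z hz => ?_, ?_⟩
    · obtain ⟨t, rfl⟩ := proj_surjective z
      exact hker t (congrArg Subtype.val hz)
    · rintro ⟨_, t, rfl⟩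
      exact ⟨proj t, rfl⟩
  let e := MulEquiv.ofBijective f hf
  haveI : Nonempty (Fin n) := ⟨⟨0, by omega⟩⟩
  haveI : Nontrivial (Fin n) := Fin.nontrivial_iff_two_le.mpr hn
  haveI : Nontrivial ι₀.range := by
    obtain ⟨a, b, hab⟩ := exists_pair_ne (Fin n)
    refine ⟨⟨ι₀ (et a b hab 1), _, rfl⟩, 1, fun h => ?_⟩
    have h' := (Matrix.SpecialLinearGroup.mem_center_iff.mp (proj_eq_one.mp (hker _ (congrArg Subtype.val h))))
    obtain ⟨r, -, hr⟩ := h'
    have := congrFun (congrFun hr a) b
    rw [et_coe] at this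
    simp [hab] at this
  refine CoreCriterion.props_of_socle (psl_hZ p hn) ι₀.range (by rintro _ ⟨t, rfl⟩; exact hιfix t)
    (fun N hN hne hd => ?_) ?_ ?_ ?_ ?_
  · have h1 : Nat.card (N.map e.symm.toMonoidHom) = Nat.card N := Subgroup.card_map_of_injective e.symm.injective
    rw [← h1]
    refine psl_normal_card p hn hℓ hℓp _ (hN.map _ e.symm.surjective) ?_ ((Nat.card_congr e.toEquiv).symm ▸ hd)
    rwa [Ne, Subgroup.map_eq_bot_iff_of_injective _ e.symm.injective]
  · rintro y hy _ ⟨t, rfl⟩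
    obtain ⟨k, hk⟩ := hYdia y hy
    refine ⟨conjSL k t, ?_⟩
    rw [← hconjT, ← hk, MulAut.conj_apply]
  · intro hd
    rw [← Nat.card_congr e.toEquiv]
    refine prime_dvd_psl hn hℓ p ?_
    obtain ⟨y, hy⟩ := exists_prime_orderOf_dvd_card' ℓ hd
    obtain ⟨k, hk⟩ := hYdia y.1 y.2
    have hinj : Function.Injective (MulAut.conj : PSLn →* MulAut PSLn) :=
      (injective_iff_map_eq_one _).mpr (psl_hZ p hn)
    have h1 : orderOf (MulAut.conj y.1 : MulAut PSLn) ∣ orderOf k := hk ▸
      (orderOf_map_dvd ((dia : GLn →* MulAut PSLn).comp jG) k)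
    rw [orderOf_injective _ hinj, Subgroup.orderOf_coe, hy] at h1
    exact h1.trans (orderOf_dvd_natCard _)
  · intro k hk
    obtain ⟨s, rfl⟩ := proj_surjective k
    obtain ⟨i, hi⟩ := hk
    refine psl_hZ p hn _ ?_
    change φ ^ i = MulAut.conj (proj s) at hi
    rw [← hi]
    rw [conj_eq_dia, hφ, ← map_zpow] at hi
    obtain ⟨hd1, -⟩ := outerPart_eq_one p hn (Or.inl (show (MonoidHom.snd (F ≃+* F) (Multiplicative (ZMod 2))) ((σ, 1) ^ i) = 1 by
        rw [map_zpow]; exact _root_.one_zpow i))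
      (show dia (Matrix.SpecialLinearGroup.toGL s)⁻¹ * outerPart _ = (1 : MulAut PSLn) by
        rw [map_inv, hi, inv_mul_cancel])
    rw [hφ, ← map_zpow, hd1, map_one]
  · intro γ hc hγ
    obtain ⟨g, τ, ε, hε, rfl⟩ : ∃ (g : GLn) (τ : F ≃+* F) (ε : Multiplicative (ZMod 2)),
        (ε = 1 ∨ 3 ≤ n) ∧ γ = dia g * outerPart (τ, ε) := by
      obtain ⟨g, τ, e | ⟨h3, e⟩⟩ := decomposition p hn γ
      · exact ⟨g, τ, 1, Or.inl rfl, by rw [outerPart_one, e]⟩
      · exact ⟨g, τ, gra, Or.inr h3, by rw [outerPart_gra, e, mul_assoc]⟩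
    obtain ⟨k, hk⟩ := hrep g (by
      have h1 : outerPart (τ, ε) * φ = φ * (outerPart (τ, ε) : MulAut PSLn) := by
        rw [hφ, ← map_mul, outer_comm p, map_mul]
      rw [mul_assoc, h1, ← mul_assoc] at hc
      rw [← mul_left_inj (outerPart (τ, ε) : MulAut PSLn), hc, mul_assoc])
    rw [hk] at hγ ⊢
    have hτσ : τ * σ = σ * τ := congrArg Prod.fst (outer_comm p ((τ, 1) : (F ≃+* F) × Multiplicative (ZMod 2)) (σ, 1))
    have hτj : ∀ t : K, ∃ t', j t' = τ (j t) := fun t => (hj _).mp (by
      rw [← RingAut.mul_apply, ← hτσ, RingAut.mul_apply, (hj _).mpr ⟨t, rfl⟩])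
    choose τ₁ hτ₁ using hτj
    have hinj : Function.Injective τ₁ := fun a b e => j.injective (τ.injective (by rw [← hτ₁, ← hτ₁, e]))
    let τ₀ : K ≃+* K :=
      { Equiv.ofBijective τ₁ (Finite.injective_iff_bijective.mp hinj) with
        map_mul' := fun a b => j.injective (by
          show j (τ₁ (a * b)) = j (τ₁ a * τ₁ b)
          rw [map_mul, hτ₁, hτ₁, hτ₁, map_mul, map_mul])
        map_add' := fun a b => j.injective (by
          show j (τ₁ (a + b)) = j (τ₁ a + τ₁ b)
          rw [map_add, hτ₁, hτ₁, hτ₁, map_add, map_add]) }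
    have hτ₀ : ∀ t, j (τ₀ t) = τ (j t) := hτ₁
    have hout : ∀ t, ∃ t', outerPart (τ, ε) (ι₀ t) = ι₀ t' ∧
        outerPart (τ₀, ε) (proj t) = proj t' := by
      intro t
      have hmap : ∀ u : SpecialLinearGroup (Fin n) K, slCongr τ (Matrix.SpecialLinearGroup.map j u) = Matrix.SpecialLinearGroup.map j (slCongr τ₀ u) :=
        fun u => sl_ext (Matrix.ext fun a b => (hτ₀ _).symm)
      rcases eq_or_ne ε 1 with e1 | e1
      · subst e1
        refine ⟨slCongr τ₀ t, ?_, ?_⟩
        · rw [outerPart_one]; exact congrArg proj (hmap t)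
        · rw [outerPart_one]; rfl
      · obtain rfl := eq_gra_of_ne_one e1
        refine ⟨slCongr τ₀ (t⁻¹).transpose, ?_, ?_⟩
        · rw [outerPart_gra, MulAut.mul_apply]
          show fld τ (invTr (proj (Matrix.SpecialLinearGroup.map j t))) = proj _
          rw [invTr_proj, fld_proj, ← map_inv, ← hmap]
          exact congrArg proj (sl_ext (Matrix.ext fun a b => rfl))
        · rw [outerPart_gra, MulAut.mul_apply, invTr_proj, fld_proj]
    have hδ : dia k * (outerPart (τ₀, ε) : MulAut (Matrix.ProjectiveSpecialLinearGroup (Fin n) K)) = 1 := by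
      refine MulEquiv.ext fun z => ?_
      obtain ⟨t, rfl⟩ := proj_surjective z
      obtain ⟨t', ht1, ht2⟩ := hout t
      have h1 := hγ (ι₀ t) ⟨t, rfl⟩
      rw [MulAut.mul_apply, ht1, hconjT, ← inv_mul_eq_one, ← map_inv, ← map_mul] at h1
      have h3 := hker _ h1
      rw [map_mul, map_inv, inv_mul_eq_one] at h3
      rw [MulAut.mul_apply, ht2, dia_proj, h3]
      rfl
    obtain ⟨hd0, hk0⟩ := outerPart_eq_one p hn hε hδ
    rw [Prod.mk_eq_one] at hd0
    obtain ⟨hτ1, rfl⟩ := hd0
    have hk1 : jG k ∈ Subgroup.center GLn := by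
      rw [GeneralLinearGroup.center_eq_range_scalar] at hk0 ⊢
      obtain ⟨u, rfl⟩ := hk0
      refine ⟨Units.map (j : K →* F) u, Units.ext ?_⟩
      ext a b
      simp [jG, Matrix.scalar_apply, Matrix.diagonal, apply_ite j]
    rw [hscal _ hk1, one_mul]
    obtain ⟨i, hi⟩ := CoreCriterion.mem_zpowers_of_fix hcard hσ1 (fun t => (hj _).mpr ⟨t, rfl⟩)
      (τ := τ) fun t => by rw [← hτ₀, hτ1]; rfl
    refine ⟨i, show φ ^ i = _ from ?_⟩
    rw [hφ, ← map_zpow]
    exact congrArg outerPart (Prod.ext hi (_root_.one_zpow i))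

include p in
/-- The fixed points of a standard graph-field involution. -/
theorem props_graphField (hn : 3 ≤ n) (hp : p ≠ 2) {σ : F ≃+* F} (hoσ : orderOf σ = 2) :
    CoreCriterion.Props 2 (outerPart (σ, gra) : MulAut PSLn) := by
  classical
  haveI : Fact (Nat.Prime 2) := ⟨Nat.prime_two⟩
  have hn2 : 2 ≤ n := by omega
  have hσsq : σ ^ 2 = 1 := hoσ ▸ pow_orderOf_eq_one σ
  have hσ1 : σ ≠ 1 := fun e => by rw [e, orderOf_one] at hoσ; omega
  have hσσ : ∀ a, σ (σ a) = a := fun a => by
    have := RingEquiv.congr_fun hσsq a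
    rwa [sq] at this
  obtain ⟨K, hK, hj, hcard⟩ := CoreCriterion.exists_fixed_subfield (F := F) hoσ
  obtain ⟨q, hq⟩ : ∃ q, q = Fintype.card K := ⟨_, rfl⟩
  have hF : Fintype.card F = q ^ 2 := hq ▸ hcard
  have hq2 : q ≠ 2 := fun e => hp (by
    rw [hq] at e
    haveI : CharP K 2 := charP_of_card_eq_prime e
    haveI : CharP K p := (K.subtype.charP_iff K.subtype.injective p).mpr inferInstance
    exact CharP.eq K ‹_› ‹_›)
  have h32 : ¬ (n = 3 ∧ q = 2) := fun h => hq2 h.2
  have hconj : ∀ a, σ a = conjHom hF a := by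
    let c : F ≃+* F := RingEquiv.ofBijective (conjHom hF)
      (Finite.injective_iff_bijective.mp (conjHom hF).injective)
    have hcj : ∀ t : K, c (K.subtype t) = K.subtype t := fun t => by
      show conjHom hF (K.subtype t) = _
      rw [conjHom_apply, ← map_pow, hq, FiniteField.pow_card]
    obtain ⟨i, hi⟩ := CoreCriterion.mem_zpowers_of_fix hcard hσ1 (fun t => (hj _).mpr ⟨t, rfl⟩) hcj
    have hc1 : c ≠ 1 := fun e => conjHom_ne_id hF (RingHom.ext fun a => RingEquiv.congr_fun e a)
    change σ ^ i = c at hi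
    rcases Int.even_or_odd i with ⟨m, hm⟩ | ⟨m, hm⟩
    · exfalso
      refine hc1 (hi ▸ ?_)
      rw [hm, ← two_mul, _root_.zpow_mul, zpow_ofNat, hσsq, _root_.one_zpow]
    · intro a
      have : c = σ := by rw [← hi, hm, _root_.zpow_add, _root_.zpow_mul, zpow_ofNat, hσsq, _root_.one_zpow, one_mul, zpow_one]
      rw [← this]; rfl
  have hσmap : ∀ M : Mat, M.map (conjHom hF) = M.map σ := fun M => Matrix.ext fun a b => (hconj _).symm
  have hσσm : ∀ M : Mat, (M.map σ).map σ = M := fun M => Matrix.ext fun a b => hσσ _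
  -- the twisted fixed points are the unitary matrices
  have hGU : ∀ h : GLn, h ∈ Cfsg.GU n F q ↔ twist (σ, gra) h = h := by
    intro h
    rw [mem_GU_iff hF, twist_gra, hσmap]
    constructor
    · intro e
      rw [← _root_.inv_inj, ← map_inv]
      refine eq_inv_of_mul_eq_one_left (Units.ext ?_)
      rw [Units.val_mul, galGL_coe, itGL_inv_coe, Units.val_one]
      have e' := congrArg (fun M : Mat => (M.map σ)) e
      simp only [Matrix.map_mul, Matrix.map_one _ (map_zero σ) (map_one σ), hσσm] at e'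
      exact e'
    · intro e
      have e2 := congrArg (fun M : GLn => ((M⁻¹ : GLn) : Mat) * (h : Mat)) e
      simp only [← map_inv (galGL σ), galGL_coe, itGL_inv_coe, ← Units.val_mul, inv_mul_cancel, Units.val_one] at e2
      have e' := congrArg (fun M : Mat => (M.map σ)) e2
      simp only [Matrix.map_mul, Matrix.map_one _ (map_zero σ) (map_one σ), hσσm] at e'
      exact e'
  set φ : MulAut PSLn := outerPart (σ, gra) with hφ
  let ι₀ : Subtype (fun A => A ∈ Cfsg.SU n F q) →* PSLn := proj.comp (Cfsg.SU n F q).subtype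
  have hsfix : ∀ t : Subtype (fun A => A ∈ Cfsg.SU n F q), slCongr σ ((t.1)⁻¹).transpose = t.1 := fun t => by
    have h := (hGU (AutPSU.suG t).1).mp (AutPSU.suG t).2
    rw [twist_gra] at h
    refine sl_ext (Eq.trans ?_ (congrArg (fun M : GLn => (M : Mat)) h))
    rw [slCongr_coe, galGL_coe, itGL_coe, Matrix.SpecialLinearGroup.coe_transpose]
    rfl
  have hιfix : ∀ t, φ (ι₀ t) = ι₀ t := fun t => by
    show outerPart (σ, gra) (proj _) = proj _
    rw [outerPart_gra, MulAut.mul_apply, invTr_proj, fld_proj]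
    exact congrArg proj (hsfix t)
  have hconjT : ∀ (h : Subtype (fun A => A ∈ Cfsg.GU n F q)) t, dia h.1 (ι₀ t) = ι₀ (AutPSU.conjSU h t) := fun h t => by
    show proj (conjSL h.1 t.1) = proj _
    exact congrArg proj (sl_ext rfl)
  have hrep : ∀ g : GLn, dia g * φ = φ * (dia g : MulAut PSLn) →
      ∃ h : Subtype (fun A => A ∈ Cfsg.GU n F q), (dia g : MulAut PSLn) = dia h.1 := fun g hg => by
    obtain ⟨h, hh, hc⟩ := exists_twist_gra_fixed hσsq hσ1 (show 1 ≤ n by omega) g (by
      rw [← mem_centralizer_outerPart p hn2, Subgroup.mem_centralizer_singleton_iff]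
      exact hg)
    refine ⟨⟨h, (hGU h).mpr hh⟩, ?_⟩
    have := dia_center hc
    rw [map_mul, map_inv, inv_mul_eq_one] at this
    exact this
  have hker : ∀ t, ι₀ t = 1 → AutPSU.pr t = 1 := fun t h => by
    rw [AutPSU.pr_eq_one, Subgroup.mem_center_iff]
    have h' := Subgroup.mem_center_iff.mp (proj_eq_one.mp h)
    exact fun u => Subtype.ext (h' u.1)
  haveI : Fintype (Subtype (fun A => A ∈ Cfsg.SU n F q)) := Fintype.ofFinite _
  haveI := isSimpleGroup_PSU hF hn h32
  have hev : 2 ∣ Nat.card (Cfsg.PSU n F q) := by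
    obtain ⟨v, hv⟩ : ∃ v : Fin n → F, v = fun k => if k.val = 0 ∨ k.val = 1 then -1 else 1 := ⟨_, rfl⟩
    let s : Subtype (fun A => A ∈ Cfsg.SU n F q) := ⟨⟨Matrix.diagonal v, by
      rw [Matrix.det_diagonal, Finset.prod_eq_mul (⟨0, by omega⟩ : Fin n) ⟨1, by omega⟩ (by simp)
        (fun k _ hk => by
          have h1 : k.val ≠ 0 := fun e => hk.1 (Fin.ext e)
          have h2 : k.val ≠ 1 := fun e => hk.2 (Fin.ext e)
          simp [hv, h1, h2])
        (fun h => absurd (Finset.mem_univ _) h) (fun h => absurd (Finset.mem_univ _) h)]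
      simp [hv]⟩, (mem_SU_iff hF _).mpr (diagonal_preserves hF _ fun k => by
        subst hv
        simp only
        split_ifs
        · have hodd : Odd q := by
            rcases Nat.even_or_odd q with he | ho
            · exfalso
              refine hp ?_
              haveI : Fact (Nat.Prime 2) := ⟨Nat.prime_two⟩
              have h20 : (2 : F) = 0 := (two_eq_zero_iff_even (F := F) rfl).mpr (by
                rw [hF]; exact (Nat.even_pow.mpr ⟨he, two_ne_zero⟩))
              haveI : CharP F 2 := CharTwo.of_one_ne_zero_of_two_eq_zero one_ne_zero h20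
              exact CharP.eq F ‹_› ‹_›
            · exact ho
          exact (Odd.add_odd hodd odd_one).neg_one_pow
        · exact one_pow _)⟩
    have h2 : orderOf (AutPSU.pr s) = 2 := by
      refine orderOf_eq_prime ?_ fun e => ?_
      · rw [← map_pow]
        refine (congrArg AutPSU.pr ?_).trans (map_one _)
        refine Subtype.ext (sl_ext ?_)
        rw [SubmonoidClass.coe_pow, Matrix.SpecialLinearGroup.coe_pow]
        show Matrix.diagonal v ^ 2 = 1
        rw [Matrix.diagonal_pow, ← Matrix.diagonal_one]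
        congr 1; funext k
        simp [hv]
      · have hne : (-1 : F) ≠ 1 := fun e' => hp (by
          haveI : CharP F 2 := CharTwo.of_one_ne_zero_of_two_eq_zero one_ne_zero (by linear_combination -e')
          exact CharP.eq F ‹_› ‹_›)
        obtain ⟨u, hu⟩ := (AutPSU.dia_eq_one_iff hF p hn (AutPSU.suG s)).mp (by rw [AutPSU.dia_suG, e, map_one])
        have hr : Matrix.diagonal v = Matrix.scalar (Fin n) ((u.1 : Fˣ) : F) := congrArg (fun g => (g.1 : Mat)) hu
        have h0 := congrFun (congrFun hr ⟨0, by omega⟩) ⟨0, by omega⟩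
        have h2' := congrFun (congrFun hr ⟨2, by omega⟩) ⟨2, by omega⟩
        simp [hv] at h0 h2'
        exact hne (by rw [h0, h2'])
    exact h2 ▸ orderOf_dvd_natCard _
  let f : Cfsg.PSU n F q →* ι₀.range := QuotientGroup.lift _ ι₀.rangeRestrict fun z hz => by
    refine Subtype.ext ?_
    show proj z.1 = 1
    have h1 : AutPSU.dia (AutPSU.suG z) = (1 : MulAut (Cfsg.PSU n F q)) := by
      rw [AutPSU.dia_suG, AutPSU.pr_eq_one.mpr hz, map_one]
    obtain ⟨u, hu⟩ := (AutPSU.dia_eq_one_iff hF p hn _).mp h1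
    rw [proj_eq_one, Matrix.SpecialLinearGroup.mem_center_iff]
    have hz' : (z.1 : Mat) = Matrix.scalar (Fin n) ((u.1 : Fˣ) : F) := congrArg (fun g => (g.1 : Mat)) hu
    refine ⟨((u.1 : Fˣ) : F), ?_, hz'.symm⟩
    have hd := z.1.2
    change ((z.1 : Mat)).det = 1 at hd
    rw [hz', Matrix.scalar_apply, Matrix.det_diagonal, Finset.prod_const, Finset.card_univ] at hd
    rwa [Fintype.card_fin] at hd ⊢
  have hf : Function.Bijective f := by
    refine ⟨(injective_iff_map_eq_one f).mpr fun z hz => ?_, ?_⟩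
    · obtain ⟨t, rfl⟩ := AutPSU.pr_surjective z
      exact hker t (congrArg Subtype.val hz)
    · rintro ⟨_, t, rfl⟩
      exact ⟨AutPSU.pr t, rfl⟩
  let e := MulEquiv.ofBijective f hf
  haveI : Nontrivial ι₀.range := e.symm.toEquiv.nontrivial
  refine CoreCriterion.props_of_socle (psl_hZ p hn2) ι₀.range (by rintro _ ⟨t, rfl⟩; exact hιfix t)
    (fun N hN hne _ => ?_) ?_ ?_ ?_ ?_
  · haveI : IsSimpleGroup ι₀.range := IsSimpleGroup.isSimpleGroup_of_surjective f hf.2
    rcases hN.eq_bot_or_eq_top with h | h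
    · exact absurd h hne
    · rw [h, Subgroup.card_top, ← Nat.card_congr e.toEquiv]; exact hev
  · rintro y hy _ ⟨t, rfl⟩
    obtain ⟨s, rfl⟩ := proj_surjective y
    obtain ⟨h, hh⟩ := hrep (Matrix.SpecialLinearGroup.toGL s) (by
      rw [← conj_eq_dia]
      refine MulEquiv.ext fun z => ?_
      simp [MulAut.mul_apply, hy])
    refine ⟨AutPSU.conjSU h t, ?_⟩
    rw [← hconjT, ← hh, ← conj_eq_dia, MulAut.conj_apply]
  · intro _
    rw [← Nat.card_congr e.toEquiv]; exact hev
  · intro k hk
    obtain ⟨s, rfl⟩ := proj_surjective k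
    obtain ⟨i, hi⟩ := hk
    refine psl_hZ p hn2 _ ?_
    change φ ^ i = MulAut.conj (proj s) at hi
    rw [← hi]
    rw [conj_eq_dia, hφ, ← map_zpow] at hi
    obtain ⟨hd1, -⟩ := outerPart_eq_one p hn2 (Or.inr hn)
      (show dia (Matrix.SpecialLinearGroup.toGL s)⁻¹ * outerPart _ = (1 : MulAut PSLn) by
        rw [map_inv, hi, inv_mul_cancel])
    rw [hφ, ← map_zpow, hd1, map_one]
  · intro γ hc hγ
    obtain ⟨g, d, rfl⟩ := decomposition_outer p hn2 γ
    obtain ⟨h, hh⟩ := hrep g (by
      have h1 : outerPart d * φ = φ * (outerPart d : MulAut PSLn) := by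
        rw [hφ, ← map_mul, outer_comm p, map_mul]
      rw [mul_assoc, h1, ← mul_assoc] at hc
      rw [← mul_left_inj (outerPart d : MulAut PSLn), hc, mul_assoc])
    rw [hh] at hγ ⊢
    -- the restriction to the unitary socle
    obtain ⟨τ', hτ'⟩ : ∃ τ' : F ≃+* F, τ' = d.1 * (if d.2 = 1 then 1 else σ) := ⟨_, rfl⟩
    have hmem : ∀ t : Subtype (fun A => A ∈ Cfsg.SU n F q),
        outerPart d (proj t.1) = proj ((AutPSU.mapSU τ' t).1) := by
      intro t
      rcases eq_or_ne d.2 1 with e1 | e1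
      · rw [show d = (d.1, 1) from Prod.ext rfl e1, outerPart_one, fld_proj]
        rw [if_pos e1, mul_one] at hτ'
        rw [hτ']
        exact congrArg proj (sl_ext rfl)
      · rw [show d = (d.1, gra) from Prod.ext rfl (eq_gra_of_ne_one e1), outerPart_gra, MulAut.mul_apply, invTr_proj, fld_proj]
        rw [if_neg e1] at hτ'
        refine congrArg proj (sl_ext ?_)
        have h2 := congrArg (fun M : SLn => (M : Mat)) (hsfix t)
        simp only [slCongr_coe] at h2
        show (((t.1)⁻¹).transpose : SLn).1.map d.1 = (t.1 : Mat).map τ'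
        have h4 : (t.1 : Mat).map τ' = ((t.1 : Mat).map σ).map d.1 := by rw [hτ', Matrix.map_map]; rfl
        rw [h4]
        congr 1
        have h5 := congrArg (fun M : Mat => M.map σ) h2
        simp only [hσσm] at h5
        exact h5
    have h1 : AutPSU.dia h * AutPSU.fld τ' = (1 : MulAut (Cfsg.PSU n F q)) := by
      refine MulEquiv.ext fun z => ?_
      obtain ⟨t, rfl⟩ := AutPSU.pr_surjective z
      have h2 := hγ (ι₀ t) ⟨t, rfl⟩
      rw [MulAut.mul_apply, show outerPart d (ι₀ t) = ι₀ (AutPSU.mapSU τ' t) from hmem t, hconjT,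
        ← inv_mul_eq_one, ← map_inv, ← map_mul] at h2
      have h3 := hker _ h2
      rw [map_mul, map_inv, inv_mul_eq_one] at h3
      exact h3
    obtain ⟨hτ1, u, hu⟩ := AutPSU.eq_one_of_param hF p hn h1
    have hd : d = 1 ∨ d = (σ, gra) := by
      rw [hτ'] at hτ1
      rcases eq_or_ne d.2 1 with e1 | e1
      · rw [if_pos e1, mul_one] at hτ1
        exact Or.inl (Prod.ext hτ1 e1)
      · rw [if_neg e1] at hτ1
        refine Or.inr (Prod.ext ?_ (eq_gra_of_ne_one e1))
        rw [eq_inv_of_mul_eq_one_left hτ1]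
        exact inv_eq_of_mul_eq_one_right (by rw [← sq, hσsq])
    have hdh : (dia h.1 : MulAut PSLn) = 1 := by
      refine dia_center ?_
      rw [hu]
      exact scalar_mem_center u.1
    rw [hdh, one_mul]
    rcases hd with e | e
    · exact ⟨0, show φ ^ (0 : ℤ) = _ by rw [e, map_one, zpow_zero]⟩
    · exact ⟨1, show φ ^ (1 : ℤ) = _ by rw [e, hφ, zpow_one]⟩

include p in
/-- The balance criterion for `PSL`. -/
theorem psl_balance (hn : 2 ≤ n) (A : Subgroup (MulAut PSLn)) (hinn : ∀ k, MulAut.conj k ∈ A) {ℓ : ℕ}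
    [Fact ℓ.Prime] (hℓp : ℓ ≠ p) (β : MulAut PSLn) (hord : orderOf β = ℓ) (hnot : ¬ Cfsg.IsInnerDiagonalAutPSL β) :
    Cfsg.pPrimeCore ℓ ↥(A ⊓ Subgroup.centralizer {β}) ≠ ⊥ ↔
      ((∃ γ φ : MulAut PSLn, Cfsg.IsInnerDiagonalAutPSL γ ∧ Cfsg.IsFieldAutPSL φ ∧ β = φ.trans γ) ∧
        Nat.Coprime ℓ (Nat.card ↥(MonoidHom.eqLocus β.toMonoidHom (MonoidHom.id PSLn)))) := by
  classical
  have hℓ : ℓ.Prime := Fact.out
  obtain ⟨g, σ, e, he, hβ⟩ : ∃ (g : GLn) (σ : F ≃+* F) (e : Multiplicative (ZMod 2)),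
      (e = 1 ∨ 3 ≤ n) ∧ β = dia g * outerPart (σ, e) := by
    obtain ⟨g, σ, e | ⟨h3, e⟩⟩ := decomposition p hn β
    · exact ⟨g, σ, 1, Or.inl rfl, by rw [outerPart_one, e]⟩
    · exact ⟨g, σ, gra, Or.inr h3, by rw [outerPart_gra, e, mul_assoc]⟩
  have hpow := pow_orderOf_eq_one β
  rw [hord, hβ, dia_mul_outerPart_pow] at hpow
  obtain ⟨hd, -⟩ := outerPart_eq_one p hn (by
    rcases he with he | he
    · left; rw [Prod.pow_snd, he, one_pow]
    · exact Or.inr he) hpow
  have hev : ℓ = 2 → 2 ∣ Nat.card PSLn := fun h2 => by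
    refine prime_dvd_psl hn Nat.prime_two p ?_
    have hodd : Odd (Fintype.card F) := by
      obtain ⟨f, hp', hc⟩ := FiniteField.card F p
      rw [hc]
      exact (hp'.odd_of_ne_two fun e => hℓp (h2.trans e.symm)).pow
    obtain ⟨i, hi⟩ := hodd
    refine Dvd.dvd.trans ⟨i, ?_⟩ (Subgroup.card_range_dvd (GeneralLinearGroup.det : GLn →* Fˣ))
    rw [MonoidHom.range_eq_top.mpr (fun u => exists_gl_det (show 1 ≤ n by omega) u), Subgroup.card_top,
      Nat.card_units, Nat.card_eq_fintype_card, hi, Nat.add_sub_cancel]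
  by_cases hσ : σ = 1
  · subst hσ
    rcases eq_or_ne e 1 with rfl | hne
    · exfalso
      refine hnot ?_
      rw [hβ, outerPart_one, map_one, mul_one]
      exact isInnerDiagonal_dia g
    obtain rfl := eq_gra_of_ne_one hne
    have h3 : 3 ≤ n := he.resolve_left hne
    have hℓ2 : ℓ = 2 := by
      have hg : gra ^ ℓ = 1 := congrArg Prod.snd hd
      have h := orderOf_dvd_of_pow_eq_one hg
      rw [orderOf_eq_prime (p := 2) (by rw [sq, gra_mul_gra]) gra_ne_one] at h
      exact ((Nat.prime_dvd_prime_iff_eq Nat.prime_two hℓ).mp h).symm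
    subst hℓ2
    have hodd : Odd (Fintype.card F) := by
      obtain ⟨f, hp', hc⟩ := FiniteField.card F p
      rw [hc]
      exact (hp'.odd_of_ne_two fun e => hℓp e.symm).pow
    rw [outerPart_gra, map_one, one_mul] at hβ
    refine CoreCriterion.criterion_of_invProps hinn hord (hev rfl) (psl_hZ p hn) ?_ _
    rw [hβ]
    refine invProps_graph p hodd h3 g ?_
    rw [← hβ, ← sq, ← hord, pow_orderOf_eq_one]
  · have hoσ : orderOf σ = ℓ := orderOf_eq_prime (congrArg Prod.fst hd) hσ
    obtain ⟨h, hh⟩ := exists_conj_of_pow p hn hσ he hℓ hd g (by rw [← hβ, ← hord, pow_orderOf_eq_one])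
    rw [← hβ] at hh
    rcases eq_or_ne e 1 with rfl | hne
    · have hprops := CoreCriterion.props_conj (dia h) (props_field p hn hℓp hoσ)
      rw [← hh] at hprops
      rw [CoreCriterion.core_criterion hinn hord (psl_hZ p hn) hprops, iff_and_self]
      intro _
      exact ⟨dia g, fld σ, isInnerDiagonal_dia g, ⟨σ, isStdField_fld σ⟩, by rw [hβ, outerPart_one]; rfl⟩
    · obtain rfl := eq_gra_of_ne_one hne
      have h3 : 3 ≤ n := he.resolve_left hne
      have hℓ2 : ℓ = 2 := by
        have hg : gra ^ ℓ = 1 := congrArg Prod.snd hd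
        have h' := orderOf_dvd_of_pow_eq_one hg
        rw [orderOf_eq_prime (p := 2) (by rw [sq, gra_mul_gra]) gra_ne_one] at h'
        exact ((Nat.prime_dvd_prime_iff_eq Nat.prime_two hℓ).mp h').symm
      subst hℓ2
      have hprops := CoreCriterion.props_conj (dia h) (props_graphField p h3 (fun e => hℓp e.symm) hoσ)
      rw [← hh] at hprops
      rw [CoreCriterion.core_criterion hinn hord (psl_hZ p hn) hprops]
      refine iff_of_false (fun h' => ?_) fun h' => ?_
      · have h2 := Nat.eq_one_of_dvd_coprimes h' dvd_rfl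
          (CoreCriterion.two_dvd_fixed (hord ▸ pow_orderOf_eq_one β) (hev rfl))
        norm_num at h2
      · have h2 := Nat.eq_one_of_dvd_coprimes h'.2 dvd_rfl
          (CoreCriterion.two_dvd_fixed (hord ▸ pow_orderOf_eq_one β) (hev rfl))
        norm_num at h2

end Cfsg.Agent.Lib.Classical.AutPSL
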