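import Mathlib

/-!
Galois descent over finite fields for `GL_n`: if `g σ(g) ⋯ σ^{r-1}(g)` is scalar then `g` is a
scalar times `h σ(h)⁻¹`.
-/

set_option autoImplicit false

namespace Cfsg.Agent.Lib.Classical.AutPSL

open Matrix

variable {n : ℕ} {F : Type*} [Field F]

/-- A field automorphism applied to the entries of a vector. -/
def sv (σ : F ≃+* F) (x : Fin n → F) : Fin n → F := fun i => σ (x i)

/-- A field automorphism applied to the entries of an invertible matrix. -/
def galGL (σ : F ≃+* F) : GL (Fin n) F →* GL (Fin n) F :=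
  Units.map (RingHom.toMonoidHom σ.toRingHom.mapMatrix)

theorem galGL_coe (σ : F ≃+* F) (g : GL (Fin n) F) :
    (galGL σ g : Matrix (Fin n) (Fin n) F) = (g : Matrix (Fin n) (Fin n) F).map σ := rfl

theorem galGL_scalar (σ : F ≃+* F) (u : Fˣ) :
    galGL σ (GeneralLinearGroup.scalar (Fin n) u) =
      GeneralLinearGroup.scalar (Fin n) (Units.map (σ : F →* F) u) := by
  refine Units.ext ?_
  rw [galGL_coe]
  ext i j
  simp [Matrix.scalar_apply, Matrix.diagonal, apply_ite σ]

theorem sv_mulVec (σ : F ≃+* F) (g : GL (Fin n) F) (x : Fin n → F) :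
    sv σ ((g : Matrix (Fin n) (Fin n) F) *ᵥ x) = (galGL σ g : Matrix (Fin n) (Fin n) F) *ᵥ sv σ x := by
  funext i
  exact RingHom.map_mulVec σ.toRingHom _ _ _

theorem sv_smul (σ : F ≃+* F) (c : F) (x : Fin n → F) : sv σ (c • x) = σ c • sv σ x :=
  funext fun i => map_mul σ c (x i)

/-- The semilinear map `x ↦ g σ(x)`. -/
def semi (σ : F ≃+* F) (g : GL (Fin n) F) (x : Fin n → F) : Fin n → F :=
  (g : Matrix (Fin n) (Fin n) F) *ᵥ sv σ x

theorem semi_smul (σ : F ≃+* F) (g : GL (Fin n) F) (c : F) (x : Fin n → F) :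
    semi σ g (c • x) = σ c • semi σ g x := by
  rw [semi, sv_smul, Matrix.mulVec_smul, semi]

theorem semi_add (σ : F ≃+* F) (g : GL (Fin n) F) (x y : Fin n → F) :
    semi σ g (x + y) = semi σ g x + semi σ g y := by
  rw [semi, semi, semi, ← Matrix.mulVec_add]
  congr 1
  funext i
  exact map_add σ _ _

theorem semi_injective (σ : F ≃+* F) (g : GL (Fin n) F) : Function.Injective (semi σ g) := by
  intro x y h
  have h' := congrArg (((g⁻¹ : GL (Fin n) F) : Matrix (Fin n) (Fin n) F) *ᵥ ·) h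
  simp only [semi, Matrix.mulVec_mulVec, ← Units.val_mul, inv_mul_cancel, Units.val_one,
    Matrix.one_mulVec] at h'
  exact funext fun i => σ.injective (congrFun h' i)

/-- `g σ(g) ⋯ σ^{k-1}(g)`. -/
def galProd (σ : F ≃+* F) (g : GL (Fin n) F) : ℕ → GL (Fin n) F
  | 0 => 1
  | k + 1 => g * galGL σ (galProd σ g k)

theorem semi_iterate (σ : F ≃+* F) (g : GL (Fin n) F) (k : ℕ) (x : Fin n → F) :
    (semi σ g)^[k] x = (galProd σ g k : Matrix (Fin n) (Fin n) F) *ᵥ sv (σ ^ k) x := by
  induction k with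
  | zero =>
    rw [Function.iterate_zero_apply, galProd, Units.val_one, Matrix.one_mulVec, pow_zero]
    rfl
  | succ k ih =>
    rw [Function.iterate_succ_apply', ih, semi, sv_mulVec, Matrix.mulVec_mulVec, galProd, Units.val_mul,
      pow_succ' σ k]
    rfl

theorem semi_iterate_smul (σ : F ≃+* F) (g : GL (Fin n) F) (k : ℕ) (c : F) (x : Fin n → F) :
    (semi σ g)^[k] (c • x) = (σ ^ k) c • (semi σ g)^[k] x := by
  rw [semi_iterate, semi_iterate, sv_smul, Matrix.mulVec_smul]

/-- The norm `∏ σ^k`. -/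
def galNorm (σ : F ≃+* F) : ℕ → F → F
  | 0, _ => 1
  | k + 1, a => a * σ (galNorm σ k a)

theorem galProd_scalar_mul (σ : F ≃+* F) (g : GL (Fin n) F) (u : Fˣ) (k : ℕ) :
    ∃ v : Fˣ, (v : F) = galNorm σ k u ∧
      galProd σ (GeneralLinearGroup.scalar (Fin n) u * g) k =
        GeneralLinearGroup.scalar (Fin n) v * galProd σ g k := by
  induction k with
  | zero => exact ⟨1, rfl, by rw [map_one, one_mul]; rfl⟩
  | succ k ih =>
    obtain ⟨v, hv, e⟩ := ih
    refine ⟨u * Units.map (σ : F →* F) v, ?_, ?_⟩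
    · rw [galNorm, Units.val_mul, Units.coe_map, hv]; rfl
    · have hc : ∀ w : Fˣ, ∀ x : GL (Fin n) F, x * GeneralLinearGroup.scalar (Fin n) w =
          GeneralLinearGroup.scalar (Fin n) w * x := fun w x => by
        refine Units.ext ?_
        rw [Units.val_mul, Units.val_mul]
        exact ((Matrix.scalar_commute (w : F) (fun r => Commute.all _ r) _).eq).symm
      show GeneralLinearGroup.scalar (Fin n) u * g * galGL σ (galProd σ _ k) = _
      rw [e, map_mul, galGL_scalar]
      show _ = GeneralLinearGroup.scalar (Fin n) (u * _) * (g * galGL σ (galProd σ g k))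
      rw [map_mul, ← mul_assoc, mul_assoc _ g, hc, ← mul_assoc, ← mul_assoc]

variable {σ : F ≃+* F} {r : ℕ}

theorem pow_injOn (hr : r.Prime) (hσ : σ ^ r = 1) (hne : σ ≠ 1) :
    Function.Injective fun k : Fin r => (((σ ^ (k : ℕ) : F ≃+* F) : F →+* F) : F →* F) := by
  have ho : orderOf σ = r := by
    haveI : Fact r.Prime := ⟨hr⟩
    exact orderOf_eq_prime hσ hne
  intro a b h
  have e : σ ^ (a : ℕ) = σ ^ (b : ℕ) := RingEquiv.ext fun x => DFunLike.congr_fun h x
  exact Fin.ext ((pow_injOn_Iio_orderOf (x := σ)) (by rw [Set.mem_Iio, ho]; exact a.2)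
    (by rw [Set.mem_Iio, ho]; exact b.2) e)

/-- **Galois descent.** -/
theorem exists_twist_of_galProd_one (hr : r.Prime) (hσ : σ ^ r = 1) (hne : σ ≠ 1) {g : GL (Fin n) F}
    (hg : galProd σ g r = 1) : ∃ h : GL (Fin n) F, g * galGL σ h = h := by
  classical
  have hT : ∀ x, (semi σ g)^[r] x = x := fun x => by
    rw [semi_iterate, hg, Units.val_one, Matrix.one_mulVec, hσ]
    rfl
  let S : Set (Fin n → F) := {x | semi σ g x = x}
  have hadd : ∀ {ι : Type} (s : Finset ι) (y : ι → Fin n → F),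
      semi σ g (∑ k ∈ s, y k) = ∑ k ∈ s, semi σ g (y k) := fun s y =>
    map_sum (AddMonoidHom.mk' (semi σ g) (semi_add σ g)) y s
  have hspan : Submodule.span F S = ⊤ := by
    by_contra hcon
    obtain ⟨φ, hφ0, hφ⟩ := Submodule.exists_dual_map_eq_bot_of_lt_top (lt_top_iff_ne_top.mpr hcon) inferInstance
    apply hφ0
    refine LinearMap.ext fun x => ?_
    rw [LinearMap.zero_apply]
    have hrel : ∀ c : F, ∑ k : Fin r, (σ ^ (k : ℕ)) c * φ ((semi σ g)^[(k : ℕ)] x) = 0 := by
      intro c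
      have hy : (∑ k ∈ Finset.range r, (semi σ g)^[k] (c • x)) ∈ S := by
        show semi σ g _ = _
        rw [hadd]
        have h1 : ∀ k, semi σ g ((semi σ g)^[k] (c • x)) = (semi σ g)^[k + 1] (c • x) :=
          fun k => (Function.iterate_succ_apply' _ _ _).symm
        simp only [h1]
        have h2 := Finset.sum_range_succ' (fun k => (semi σ g)^[k] (c • x)) r
        rw [Finset.sum_range_succ, Function.iterate_zero_apply, hT] at h2
        exact add_right_cancel h2.symm
      have h0 : φ (∑ k ∈ Finset.range r, (semi σ g)^[k] (c • x)) = 0 := by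
        have : φ _ ∈ Submodule.map φ (Submodule.span F S) :=
          Submodule.mem_map_of_mem (Submodule.subset_span hy)
        rwa [hφ, Submodule.mem_bot] at this
      rw [map_sum, ← Fin.sum_univ_eq_sum_range (fun k => φ ((semi σ g)^[k] (c • x))) r] at h0
      simpa only [semi_iterate_smul, map_smul, smul_eq_mul] using h0
    have hli := (linearIndependent_monoidHom F F).comp _ (pow_injOn hr hσ hne)
    rw [Fintype.linearIndependent_iff] at hli
    have := hli (fun k => φ ((semi σ g)^[(k : ℕ)] x)) (funext fun c => by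
      rw [Finset.sum_apply, Pi.zero_apply, ← hrel c]
      exact Finset.sum_congr rfl fun k _ => mul_comm _ _) ⟨0, hr.pos⟩
    simpa using this
  obtain ⟨b, hbS, hbspan, hbli⟩ := exists_linearIndependent F S
  rw [hspan] at hbspan
  haveI : Fintype b := (hbli.setFinite).fintype
  have hcard : Fintype.card b = n := by
    rw [← finrank_span_set_eq_card hbli |>.trans (Set.toFinset_card b), hbspan, finrank_top,
      Module.finrank_fintype_fun_eq_card, Fintype.card_fin]
  let e := (Fintype.equivFinOfCardEq hcard).symm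
  let H : Matrix (Fin n) (Fin n) F := (Matrix.of fun j : Fin n => (e j : Fin n → F))ᵀ
  have hli : LinearIndependent F H.col := hbli.comp e e.injective
  have hu : IsUnit H := Matrix.linearIndependent_cols_iff_isUnit.mp hli
  refine ⟨hu.unit, Units.ext (Matrix.ext_of_mulVec_single fun j => ?_)⟩
  rw [Units.val_mul, galGL_coe, IsUnit.unit_spec, ← Matrix.mulVec_mulVec, Matrix.mulVec_single_one,
    Matrix.mulVec_single_one]
  exact hbS (e j).2

/-- Hilbert 90. -/
theorem exists_twist_scalar (hr : r.Prime) (hσ : σ ^ r = 1) (hne : σ ≠ 1) {a : F} (ha : galNorm σ r a = 1) :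
    ∃ b : F, b ≠ 0 ∧ a * σ b = b := by
  have ha0 : a ≠ 0 := by
    rintro rfl
    obtain ⟨k, rfl⟩ := Nat.exists_eq_succ_of_ne_zero hr.ne_zero
    simp [galNorm] at ha
  obtain ⟨v, hv, e⟩ := galProd_scalar_mul σ (1 : GL (Fin 1) F) (Units.mk0 a ha0) r
  rw [mul_one] at e
  have h1 : ∀ k, galProd σ (1 : GL (Fin 1) F) k = 1 := fun k => by
    induction k with
    | zero => rfl
    | succ k ih => rw [galProd, ih, map_one, mul_one]
  have hv1 : v = 1 := Units.ext (hv.trans ha)
  rw [h1, hv1, map_one, mul_one] at e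
  obtain ⟨h, hh⟩ := exists_twist_of_galProd_one hr hσ hne e
  have h00 := congrArg (fun g : GL (Fin 1) F => (g : Matrix (Fin 1) (Fin 1) F) 0 0) hh
  simp [galGL_coe, Matrix.mul_apply, Matrix.scalar_apply] at h00
  refine ⟨(h : Matrix (Fin 1) (Fin 1) F) 0 0, fun h0 => ?_, h00⟩
  have := congrFun (congrFun h.inv_mul 0) 0
  simp [Matrix.mul_apply, h0] at this

variable [Fintype F]

theorem galNorm_mul (σ : F ≃+* F) (k : ℕ) (a b : F) :
    galNorm σ k (a * b) = galNorm σ k a * galNorm σ k b := by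
  induction k with
  | zero => simp [galNorm]
  | succ k ih => rw [galNorm, galNorm, galNorm, ih, map_mul]; ring

theorem galNorm_fixed (hσ : σ ^ r = 1) (a : F) : σ (galNorm σ r a) = galNorm σ r a := by
  rcases eq_or_ne a 0 with rfl | ha
  · cases r with
    | zero => simp [galNorm]
    | succ k => simp [galNorm]
  have key : ∀ k, galNorm σ k a * (σ ^ k) a = a * σ (galNorm σ k a) := fun k => by
    induction k with
    | zero => simp [galNorm]
    | succ k ih =>
      show a * σ (galNorm σ k a) * (σ ^ (k + 1)) a = a * σ (a * σ (galNorm σ k a))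
      rw [← ih, map_mul σ, pow_succ' σ k]
      show galNorm σ k a * (σ ^ k) a * σ ((σ ^ k) a) = a * (σ (galNorm σ k a) * σ ((σ ^ k) a))
      rw [ih]; ring
  have h := key r
  rw [hσ, RingAut.one_apply, mul_comm] at h
  exact (mul_left_cancel₀ ha h).symm

/-- Every fixed element is a norm. -/
theorem exists_galNorm_eq (hr : r.Prime) (hσ : σ ^ r = 1) (hne : σ ≠ 1) {c : F} (hc0 : c ≠ 0)
    (hc : σ c = c) : ∃ a : F, a ≠ 0 ∧ galNorm σ r a = c := by
  classical
  have h0 : ∀ a : F, a ≠ 0 → galNorm σ r a ≠ 0 := fun a ha h0 => by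
    have := galNorm_mul σ r a a⁻¹
    rw [mul_inv_cancel₀ ha, h0, zero_mul] at this
    have h1 : ∀ k, galNorm σ k (1 : F) = 1 := fun k => by
      induction k with
      | zero => rfl
      | succ k ih => rw [galNorm, ih, map_one, mul_one]
    rw [h1] at this
    exact one_ne_zero this
  let N : Fˣ →* Fˣ := MonoidHom.mk' (fun a => Units.mk0 _ (h0 a a.ne_zero)) fun a b =>
    Units.ext (galNorm_mul σ r a b)
  let D : Fˣ →* Fˣ := (MonoidHom.id Fˣ) * (Units.map (σ : F →* F))⁻¹
  have h90 : N.ker ≤ D.range := by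
    intro u hu
    have hu' : galNorm σ r (u : F) = 1 := congrArg Units.val (MonoidHom.mem_ker.mp hu)
    obtain ⟨b, hb0, hb⟩ := exists_twist_scalar hr hσ hne hu'
    refine ⟨Units.mk0 b hb0, ?_⟩
    show Units.mk0 b hb0 * (Units.map (σ : F →* F) (Units.mk0 b hb0))⁻¹ = u
    rw [mul_inv_eq_iff_eq_mul]
    exact Units.ext hb.symm
  have hsub : N.range ≤ D.ker := by
    rintro _ ⟨u, rfl⟩
    show N u * (Units.map (σ : F →* F) (N u))⁻¹ = 1
    rw [mul_inv_eq_one]
    exact Units.ext (galNorm_fixed hσ (u : F)).symm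
  have h1 := N.ker.card_mul_index
  have h2 := D.ker.card_mul_index
  rw [Subgroup.index_ker] at h1 h2
  have h3 : Nat.card N.ker ≤ Nat.card D.range := Subgroup.card_le_of_le h90
  have hcard : Nat.card D.ker ≤ Nat.card N.range := by
    have hpos : 0 < Nat.card D.range := Nat.card_pos
    by_contra hlt
    push Not at hlt
    nlinarith
  have heq := Subgroup.eq_of_le_of_card_ge hsub hcard
  have hmem : Units.mk0 c hc0 ∈ D.ker := by
    show Units.mk0 c hc0 * (Units.map (σ : F →* F) (Units.mk0 c hc0))⁻¹ = 1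
    rw [mul_inv_eq_one]
    exact Units.ext hc.symm
  rw [← heq] at hmem
  obtain ⟨a, ha⟩ := hmem
  exact ⟨a, a.ne_zero, congrArg Units.val ha⟩

/-- If the twisted product is scalar then `g` is a scalar times a coboundary. -/
theorem exists_eq_scalar_mul_twist (hr : r.Prime) (hσ : σ ^ r = 1) (hne : σ ≠ 1) (hn : 1 ≤ n)
    {g : GL (Fin n) F} (hg : galProd σ g r ∈ Subgroup.center (GL (Fin n) F)) :
    ∃ (u : Fˣ) (h : GL (Fin n) F),
      g = GeneralLinearGroup.scalar (Fin n) u * (h * (galGL σ h)⁻¹) := by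
  rw [GeneralLinearGroup.center_eq_range_scalar] at hg
  obtain ⟨c, hc⟩ := hg
  have hcmul : ∀ x, (semi σ g)^[r] x = (c : F) • x := fun x => by
    rw [semi_iterate, ← hc, hσ]
    funext i
    simp [Matrix.scalar_apply, Matrix.mulVec_diagonal, sv]
  have hfix : σ (c : F) = c := by
    have hne0 : (Pi.single (⟨0, hn⟩ : Fin n) (1 : F) : Fin n → F) ≠ 0 := fun e => by simpa using congrFun e ⟨0, hn⟩
    set x := (Pi.single (⟨0, hn⟩ : Fin n) (1 : F) : Fin n → F)
    have h1 : semi σ g x ≠ 0 := fun e => hne0 (semi_injective σ g (by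
      rw [e, semi, show sv σ (0 : Fin n → F) = 0 from funext fun i => map_zero σ, Matrix.mulVec_zero]))
    have h2 : semi σ g ((semi σ g)^[r] x) = (semi σ g)^[r] (semi σ g x) := by
      exact (Function.iterate_succ_apply' (semi σ g) r x).symm.trans (Function.iterate_succ_apply (semi σ g) r x)
    rw [hcmul, hcmul, semi_smul] at h2
    exact smul_left_injective F h1 h2
  obtain ⟨a, ha0, ha⟩ := exists_galNorm_eq hr hσ hne (inv_ne_zero c.ne_zero)
    (by rw [map_inv₀, hfix])
  obtain ⟨v, hv, e⟩ := galProd_scalar_mul σ g (Units.mk0 a ha0) r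
  have hv' : v * c = 1 := Units.ext (by
    rw [Units.val_mul, hv, Units.val_mk0, ha, inv_mul_cancel₀ c.ne_zero, Units.val_one])
  rw [← hc, ← map_mul, hv', map_one] at e
  obtain ⟨h, hh⟩ := exists_twist_of_galProd_one hr hσ hne e
  refine ⟨(Units.mk0 a ha0)⁻¹, h, ?_⟩
  have : GeneralLinearGroup.scalar (Fin n) (Units.mk0 a ha0) * g = h * (galGL σ h)⁻¹ :=
    eq_mul_inv_iff_mul_eq.mpr hh
  rw [← this, map_inv, inv_mul_cancel_left]

end Cfsg.Agent.Lib.Classical.AutPSL
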