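import Cfsg.Agent.Lib.Classical.SLTwo
import Cfsg.Agent.Lib.Classical.LinearCard
import Cfsg.Agent.Lib.Classical.LinearSimple
import Cfsg.Prelude.Def_LieTypeDatum

/-!
Automorphisms of `PSL_n(q)`, part 1: elementary transvection algebra, the standard Sylow
`p`-subgroup and its centre, and the three kinds of standard automorphisms.
-/

set_option autoImplicit false

namespace Cfsg.Agent.Lib.Classical.AutPSL

open Matrix

variable {n : ℕ} {F : Type*} [Field F]

local notation "SLn" => SpecialLinearGroup (Fin n) F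
local notation "PSLn" => ProjectiveSpecialLinearGroup (Fin n) F

/-- The projection. -/
def proj : SLn →* PSLn := QuotientGroup.mk' _

theorem sl_ext {x y : SLn} (h : (x : Matrix (Fin n) (Fin n) F) = (y : Matrix (Fin n) (Fin n) F)) :
    x = y := Subtype.ext h

theorem proj_surjective : Function.Surjective (proj (n := n) (F := F)) :=
  QuotientGroup.mk'_surjective _

theorem proj_eq_one {x : SLn} : proj x = 1 ↔ x ∈ Subgroup.center SLn := QuotientGroup.eq_one_iff x

/-- The transvection `1 + v aᵀ`. -/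
def tv (v a : Fin n → F) (h : a ⬝ᵥ v = 0) : SLn :=
  ⟨1 + vecMulVec v a, by rw [Matrix.vecMulVec_eq Unit, Matrix.det_one_add_replicateCol_mul_replicateRow, h, add_zero]⟩

theorem tv_coe (v a : Fin n → F) (h : a ⬝ᵥ v = 0) :
    (tv v a h : Matrix (Fin n) (Fin n) F) = 1 + vecMulVec v a := rfl

/-- Multiples of the transvection along a line. -/
def tvs (v a : Fin n → F) (h : a ⬝ᵥ v = 0) (c : F) : SLn :=
  tv (c • v) a (by rw [dotProduct_smul, h, smul_zero])

theorem tvs_coe (v a : Fin n → F) (h : a ⬝ᵥ v = 0) (c : F) :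
    (tvs v a h c : Matrix (Fin n) (Fin n) F) = 1 + c • vecMulVec v a := by
  rw [tvs, tv_coe, smul_vecMulVec]

theorem tvs_congr {v a : Fin n → F} {h : a ⬝ᵥ v = 0} {v' a' : Fin n → F} {h' : a' ⬝ᵥ v' = 0}
    {c c' : F} (e : c • vecMulVec v a = c' • vecMulVec v' a') : tvs v a h c = tvs v' a' h' c' :=
  sl_ext (by rw [tvs_coe, tvs_coe, e])

theorem vecMulVec_sq {v a : Fin n → F} (h : a ⬝ᵥ v = 0) : vecMulVec v a * vecMulVec v a = 0 := by
  rw [vecMulVec_mul_vecMulVec, h]
  simp

theorem tvs_add {v a : Fin n → F} (h : a ⬝ᵥ v = 0) (c d : F) :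
    tvs v a h (c + d) = tvs v a h c * tvs v a h d := by
  refine sl_ext ?_
  rw [Matrix.SpecialLinearGroup.coe_mul, tvs_coe, tvs_coe, tvs_coe, add_smul]
  simp [mul_add, add_mul, vecMulVec_sq h, add_assoc]

theorem tvs_zero {v a : Fin n → F} (h : a ⬝ᵥ v = 0) : tvs v a h 0 = 1 :=
  sl_ext (by rw [tvs_coe, zero_smul, add_zero]; rfl)

theorem tvs_pow {v a : Fin n → F} (h : a ⬝ᵥ v = 0) (c : F) (k : ℕ) :
    tvs v a h c ^ k = tvs v a h ((k : F) * c) := by
  induction k with
  | zero => rw [pow_zero, Nat.cast_zero, zero_mul, tvs_zero]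
  | succ k ih => rw [pow_succ, ih, ← tvs_add, Nat.cast_succ, add_one_mul]

theorem tvs_pow_char (p : ℕ) [CharP F p] {v a : Fin n → F} (h : a ⬝ᵥ v = 0) (c : F) :
    tvs v a h c ^ p = 1 := by
  rw [tvs_pow, CharP.cast_eq_zero, zero_mul, tvs_zero]

/-- Two elements of exponent `p` with the same image in `PSL` are equal. -/
theorem eq_of_proj_eq (p : ℕ) [Fact p.Prime] [CharP F p] {x y : SLn} (hx : x ^ p = 1)
    (hy : y ^ p = 1) (h : proj x = proj y) : x = y := by
  have hz : x⁻¹ * y ∈ Subgroup.center SLn := QuotientGroup.eq.mp h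
  obtain ⟨r, -, hr⟩ := Matrix.SpecialLinearGroup.mem_center_iff.mp hz
  have hpow : (x⁻¹ * y) ^ p = 1 := by
    have hc : Commute x (x⁻¹ * y) := Subgroup.mem_center_iff.mp hz x
    have := hc.mul_pow p
    rw [mul_inv_cancel_left, hy, hx, one_mul] at this
    exact this.symm
  rcases isEmpty_or_nonempty (Fin n) with hn | hn
  · exact sl_ext (Matrix.ext fun i => hn.elim i)
  obtain ⟨i⟩ := hn
  have hr1 : r = 1 := by
    have h1 := congrArg (fun M : SLn => (M : Matrix (Fin n) (Fin n) F) i i) hpow
    simp only [Matrix.SpecialLinearGroup.coe_pow, ← hr, Matrix.SpecialLinearGroup.coe_one, Matrix.scalar_apply,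
      Matrix.diagonal_pow, Matrix.diagonal_apply_eq, Matrix.one_apply_eq, Pi.pow_apply] at h1
    have h0 : (r - 1) ^ p = 0 := by rw [sub_pow_char, h1, one_pow, sub_self]
    exact sub_eq_zero.mp (eq_zero_of_pow_eq_zero h0)
  have h1 : x⁻¹ * y = 1 := sl_ext (by rw [← hr, hr1, map_one]; rfl)
  exact inv_mul_eq_one.mp h1

/-- Conjugation of `SL` by an element of `GL`. -/
def conjSL (g : GL (Fin n) F) : SLn →* SLn where
  toFun s := ⟨(g : Matrix (Fin n) (Fin n) F) * s * ((g⁻¹ : GL (Fin n) F) : Matrix (Fin n) (Fin n) F), by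
    rw [Matrix.det_units_conj]; exact s.2⟩
  map_one' := sl_ext (by simp)
  map_mul' s t := sl_ext (by
    show (g : Matrix (Fin n) (Fin n) F) * ((s : Matrix (Fin n) (Fin n) F) * t) * _ =
      ((g : Matrix (Fin n) (Fin n) F) * s * _) * ((g : Matrix (Fin n) (Fin n) F) * t * _)
    simp [mul_assoc])

theorem conjSL_coe (g : GL (Fin n) F) (s : SLn) :
    (conjSL g s : Matrix (Fin n) (Fin n) F) =
      (g : Matrix (Fin n) (Fin n) F) * s * ((g⁻¹ : GL (Fin n) F) : Matrix (Fin n) (Fin n) F) := rfl

/-- Conjugation of `SL` by `GL`, as automorphisms. -/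
def conjSLAut : GL (Fin n) F →* MulAut SLn where
  toFun g :=
    { conjSL g with
      invFun := conjSL g⁻¹
      left_inv := fun s => sl_ext (by simp [conjSL_coe, mul_assoc])
      right_inv := fun s => sl_ext (by simp [conjSL_coe, mul_assoc]) }
  map_one' := MulEquiv.ext fun s => sl_ext (by simp [conjSL_coe])
  map_mul' g h := MulEquiv.ext fun s => sl_ext (by simp [conjSL_coe, mul_assoc])

/-- Automorphisms of `SL` act on `PSL`. -/
noncomputable def toAut : MulAut SLn →* MulAut PSLn where
  toFun e := centralQuotientCongr e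
  map_one' := MulEquiv.ext fun x => by obtain ⟨s, rfl⟩ := proj_surjective x; rfl
  map_mul' e f := MulEquiv.ext fun x => by obtain ⟨s, rfl⟩ := proj_surjective x; rfl

theorem toAut_proj (e : MulAut SLn) (s : SLn) : toAut e (proj s) = proj (e s) := rfl

/-- The inner-diagonal automorphisms. -/
noncomputable def dia : GL (Fin n) F →* MulAut PSLn := toAut.comp conjSLAut

theorem dia_proj (g : GL (Fin n) F) (s : SLn) : dia g (proj s) = proj (conjSL g s) := rfl

/-- The field automorphisms on `SL`. -/
def fieldSL : (F ≃+* F) →* MulAut SLn where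
  toFun σ := slCongr σ
  map_one' := MulEquiv.ext fun s => sl_ext (Matrix.ext fun i j => rfl)
  map_mul' σ τ := MulEquiv.ext fun s => sl_ext (Matrix.ext fun i j => rfl)

/-- The field automorphisms. -/
noncomputable def fld : (F ≃+* F) →* MulAut PSLn := toAut.comp fieldSL

theorem fld_proj (σ : F ≃+* F) (s : SLn) : fld σ (proj s) = proj (slCongr σ s) := rfl

theorem slCongr_coe (σ : F ≃+* F) (s : SLn) :
    (slCongr σ s : Matrix (Fin n) (Fin n) F) = (s : Matrix (Fin n) (Fin n) F).map σ := rfl

theorem transpose_mul' (s t : SLn) : (s * t).transpose = t.transpose * s.transpose :=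
  sl_ext (Matrix.transpose_mul _ _)

theorem transpose_transpose' (s : SLn) : s.transpose.transpose = s :=
  sl_ext (Matrix.transpose_transpose _)

theorem transpose_inv' (s : SLn) : (s.transpose)⁻¹ = (s⁻¹).transpose :=
  inv_eq_of_mul_eq_one_right (by
    rw [← transpose_mul', inv_mul_cancel]
    exact sl_ext (Matrix.transpose_one))

/-- Inverse transpose on `SL`. -/
def invTrSL : MulAut SLn where
  toFun s := (s⁻¹).transpose
  invFun s := (s⁻¹).transpose
  left_inv s := by
    show ((s⁻¹).transpose)⁻¹.transpose = s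
    rw [transpose_inv', inv_inv, transpose_transpose']
  right_inv s := by
    show ((s⁻¹).transpose)⁻¹.transpose = s
    rw [transpose_inv', inv_inv, transpose_transpose']
  map_mul' s t := by rw [_root_.mul_inv_rev, transpose_mul']

/-- The inverse-transpose automorphism. -/
noncomputable def invTr : MulAut PSLn := toAut invTrSL

theorem invTr_proj (s : SLn) : invTr (proj s) = proj (s⁻¹).transpose := rfl

theorem invTr_mul_self : invTr * invTr = (1 : MulAut PSLn) := by
  ext x
  obtain ⟨s, rfl⟩ := proj_surjective x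
  show invTr (invTr (proj s)) = proj s
  rw [invTr_proj, invTr_proj, transpose_inv', inv_inv, transpose_transpose']

/-! ### Formulas on transvections -/

theorem conjSL_tvs (g : GL (Fin n) F) {v a : Fin n → F} (h : a ⬝ᵥ v = 0) (c : F) :
    conjSL g (tvs v a h c) = tvs ((g : Matrix (Fin n) (Fin n) F) *ᵥ v)
      (a ᵥ* ((g⁻¹ : GL (Fin n) F) : Matrix (Fin n) (Fin n) F))
      (by rw [← Matrix.dotProduct_mulVec, Matrix.mulVec_mulVec, ← Units.val_mul, inv_mul_cancel,
        Units.val_one, Matrix.one_mulVec, h]) c := by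
  refine sl_ext ?_
  rw [conjSL_coe, tvs_coe, tvs_coe, mul_add, add_mul, mul_one, ← Units.val_mul, mul_inv_cancel,
    Units.val_one, Matrix.mul_smul, Matrix.smul_mul, Matrix.mul_vecMulVec, Matrix.vecMulVec_mul]

theorem slCongr_tvs (σ : F ≃+* F) {v a : Fin n → F} (h : a ⬝ᵥ v = 0) (c : F) :
    slCongr σ (tvs v a h c) = tvs (fun i => σ (v i)) (fun i => σ (a i))
      (by simpa [dotProduct] using congrArg σ h) (σ c) := by
  refine sl_ext ?_
  rw [slCongr_coe, tvs_coe, tvs_coe]
  ext i j
  simp [Matrix.one_apply, vecMulVec_apply, apply_ite σ]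

theorem invTrSL_tvs {v a : Fin n → F} (h : a ⬝ᵥ v = 0) (c : F) :
    invTrSL (tvs v a h c) = tvs a v (by rw [dotProduct_comm, h]) (-c) := by
  show ((tvs v a h c)⁻¹).transpose = _
  rw [inv_eq_of_mul_eq_one_right (b := tvs v a h (-c))
    (by rw [← tvs_add, add_neg_cancel, tvs_zero])]
  refine sl_ext ?_
  rw [Matrix.SpecialLinearGroup.coe_transpose, tvs_coe, tvs_coe]
  ext i j
  simp [Matrix.one_apply, vecMulVec_apply, eq_comm, mul_comm]

/-! ### Standard transvections -/

/-- The standard transvection `1 + c E_ij`. -/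
def et (i j : Fin n) (h : i ≠ j) (c : F) : SLn :=
  tvs (Pi.single i 1) (Pi.single j 1) (by simp [h]) c

theorem et_eq_transvection (i j : Fin n) (h : i ≠ j) (c : F) :
    et i j h c = Matrix.SpecialLinearGroup.transvection h c := by
  refine sl_ext ?_
  rw [et, tvs_coe, Matrix.SpecialLinearGroup.transvection_coe]
  ext k l
  simp only [Matrix.add_apply, Matrix.smul_apply, vecMulVec_apply, Pi.single_apply,
    Matrix.single_apply, smul_eq_mul]
  by_cases hk : k = i <;> by_cases hl : l = j <;> simp [hk, hl, eq_comm, Ne.symm]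
  all_goals exact fun e => absurd e.symm hl

theorem et_add {i j : Fin n} (h : i ≠ j) (c d : F) : et i j h (c + d) = et i j h c * et i j h d :=
  tvs_add _ c d

theorem et_injective {i j : Fin n} (h : i ≠ j) : Function.Injective (et (F := F) i j h) := by
  intro c d e
  have := congrArg (fun M : SLn => (M : Matrix (Fin n) (Fin n) F) i j) e
  simpa [et, tvs_coe, vecMulVec_apply, h] using this

theorem et_coe (i j : Fin n) (h : i ≠ j) (c : F) :
    (et i j h c : Matrix (Fin n) (Fin n) F) = 1 + Matrix.single i j c := by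
  rw [et_eq_transvection]
  rfl

/-- An automorphism fixing all standard transvections is the identity. -/
theorem eq_one_of_fix_et {β : MulAut PSLn}
    (h : ∀ i j (hij : i ≠ j) c, β (proj (et i j hij c)) = proj (et i j hij c)) : β = 1 := by
  have htop : MonoidHom.eqLocus (β.toMonoidHom.comp proj) (proj (n := n) (F := F)) = ⊤ :=
    SL_eq_top_of_transvection_mem fun i j hij b => by
      rw [← et_eq_transvection]
      exact h i j hij b
  ext x
  obtain ⟨s, rfl⟩ := proj_surjective x
  have : s ∈ MonoidHom.eqLocus (β.toMonoidHom.comp proj) (proj (n := n) (F := F)) := by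
    rw [htop]; exact Subgroup.mem_top s
  exact this

end Cfsg.Agent.Lib.Classical.AutPSL
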