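import Cfsg.Agent.Lib.Classical.AutPSL.GraphInvol

/-!
Orthogonal and symplectic involutory graph automorphisms of `PSL_n`, odd characteristic.
-/

set_option autoImplicit false

namespace Cfsg.Agent.Lib.Classical.AutPSL

open Matrix

variable {n : ℕ} {F : Type*} [Field F] [Fintype F]

local notation "SLn" => Matrix.SpecialLinearGroup (Fin n) F
local notation "PSLn" => Matrix.ProjectiveSpecialLinearGroup (Fin n) F
local notation "Mat" => Matrix (Fin n) (Fin n) F
local notation "GLn" => GL (Fin n) F

variable (p : ℕ) [Fact p.Prime] [CharP F p]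

omit [Fintype F] in
/-- The scalar of a fixed class. -/
theorem scalar_rel {g : GLn} {τ : F ≃+* F} {s : SLn} (h : (dia g * fld τ : MulAut PSLn) (proj s) = proj s) :
    ∃ c : F, c ≠ 0 ∧ (g : Mat) * (s : Mat).map τ = c • ((s : Mat) * g) := by
  rw [MulAut.mul_apply, fld_proj, dia_proj, eq_comm, ← inv_mul_eq_one, ← map_inv, ← map_mul, proj_eq_one,
    Matrix.SpecialLinearGroup.mem_center_iff] at h
  obtain ⟨c, hc, hcs⟩ := h
  rw [Fintype.card_fin] at hc
  have h1 : (conjSL g (slCongr τ s) : Mat) = (s : Mat) * Matrix.scalar (Fin n) c := by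
    rw [hcs, ← Matrix.SpecialLinearGroup.coe_mul, mul_inv_cancel_left]
  rw [conjSL_coe, slCongr_coe] at h1
  have h2 := congrArg (· * (g : Mat)) h1
  simp only [mul_assoc, Units.inv_mul, mul_one] at h2
  by_cases hn : n = 0
  · subst hn
    exact ⟨1, one_ne_zero, Matrix.ext fun i => i.elim0⟩
  refine ⟨c, fun e => ?_, ?_⟩
  · rw [e, zero_pow hn] at hc
    exact zero_ne_one hc
  · rw [h2]
    simp [Matrix.scalar_apply, ← Matrix.smul_eq_diagonal_mul, Matrix.mul_smul]

include p in
/-- Fixed rational involutions commute with the matrix part. -/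
theorem sign_commute (hn : 2 ≤ n) {γ : MulAut PSLn} (hodd : Odd (orderOf γ)) {g : GLn} {τ : F ≃+* F}
    (hγ : γ = dia g * fld τ) {s : SLn} (hτs : (s : Mat).map τ = (s : Mat)) (hs2 : (s : Mat) * (s : Mat) = 1)
    (hfix : γ (proj s) = proj s) : (g : Mat) * (s : Mat) = (s : Mat) * g := by
  classical
  obtain ⟨c, -, hc⟩ := scalar_rel (hγ ▸ hfix)
  rw [hτs] at hc
  have hg : (g : Mat) ≠ 0 := fun e => by
    have := g.mul_inv
    rw [e, Matrix.zero_mul] at this
    exact zero_ne_one (congrFun (congrFun this ⟨0, by omega⟩) ⟨0, by omega⟩ |>.trans (by simp))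
  have hc2 : c * c = 1 := by
    have h1 : (g : Mat) * (s : Mat) * (s : Mat) = c • ((s : Mat) * g) * (s : Mat) := by rw [hc]
    rw [mul_assoc, hs2, mul_one, Matrix.smul_mul, mul_assoc, hc, Matrix.mul_smul, smul_smul, ← mul_assoc, hs2,
      one_mul] at h1
    by_contra hne
    refine hg ?_
    ext i j
    have h2 := congrFun (congrFun h1 i) j
    rw [Matrix.smul_apply, smul_eq_mul] at h2
    exact (mul_eq_zero.mp (show (c * c - 1) * (g : Mat) i j = 0 by linear_combination -h2)).resolve_left
      (sub_ne_zero.mpr hne)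
  have hτc : τ c = c := by
    rcases mul_self_eq_one_iff.mp hc2 with e | e <;> rw [e] <;> simp
  have hiter : ∀ k, (galProd τ g k : Mat) * (s : Mat) = c ^ k • ((s : Mat) * (galProd τ g k : Mat)) := by
    intro k
    induction k with
    | zero => simp [galProd]
    | succ k ih =>
      rw [galProd, Units.val_mul, galGL_coe]
      have h1 : (galProd τ g k : Mat).map τ * (s : Mat) = c ^ k • ((s : Mat) * (galProd τ g k : Mat).map τ) := by
        have h2 := congrArg (fun M : Mat => M.map τ) ih
        simp only [Matrix.map_mul, hτs] at h2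
        rw [h2]
        ext i j
        rw [Matrix.map_apply, Matrix.smul_apply, Matrix.smul_apply, smul_eq_mul, smul_eq_mul, map_mul, map_pow, hτc]
        congr 1
        simp only [Matrix.mul_apply, map_sum, map_mul, Matrix.map_apply]
        exact Finset.sum_congr rfl fun x _ => by rw [show τ ((s : Mat) i x) = (s : Mat) i x from congrFun (congrFun hτs i) x]
      rw [mul_assoc, h1, Matrix.mul_smul, ← mul_assoc, hc, Matrix.smul_mul, smul_smul, mul_assoc, pow_succ]
  have hk := pow_orderOf_eq_one γ
  obtain ⟨k, hkd⟩ : ∃ k, k = orderOf γ := ⟨_, rfl⟩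
  rw [← hkd] at hk hodd
  rw [hγ, ← outerPart_one, dia_mul_outerPart_pow, galProd_eq_twistProd] at hk
  obtain ⟨-, hcen⟩ := outerPart_eq_one p hn (Or.inl (by rw [Prod.pow_snd, one_pow])) hk
  rw [GeneralLinearGroup.center_eq_range_scalar] at hcen
  obtain ⟨u, hu⟩ := hcen
  have hk2 := hiter k
  rw [← hu] at hk2
  have hsc : ((GeneralLinearGroup.scalar (Fin n) u : GLn) : Mat) = (u : F) • (1 : Mat) := by
    show Matrix.scalar (Fin n) (u : F) = _
    rw [Matrix.scalar_apply, Matrix.smul_one_eq_diagonal]
  rw [hsc, Matrix.smul_mul, one_mul, Matrix.mul_smul, mul_one, smul_smul] at hk2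
  have hc1 : c ^ k = 1 := by
    by_contra hne
    have hs0 : (s : Mat) = 0 := by
      ext i j
      have h2 := congrFun (congrFun hk2 i) j
      rw [Matrix.smul_apply, Matrix.smul_apply, smul_eq_mul, smul_eq_mul] at h2
      exact (mul_eq_zero.mp (show ((u : F) * (c ^ k - 1)) * (s : Mat) i j = 0 by linear_combination -h2)).resolve_left
        (mul_ne_zero u.ne_zero (sub_ne_zero.mpr hne))
    have h00 := congrFun (congrFun hs2 ⟨0, by omega⟩) ⟨0, by omega⟩
    rw [hs0, Matrix.zero_mul, Matrix.zero_apply, Matrix.one_apply_eq] at h00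
    exact zero_ne_one h00
  have : c = 1 := by
    rcases mul_self_eq_one_iff.mp hc2 with e | e
    · exact e
    · rw [e, hodd.neg_one_pow] at hc1
      exact e.trans hc1
  rw [hc, this, one_smul]

omit [Fintype F] in
theorem eq_id_of_fix_squares {τ : F ≃+* F} (h2 : (2 : F) ≠ 0) (h : ∀ t : F, τ (t * t) = t * t) : τ = 1 := by
  refine RingEquiv.ext fun x => ?_
  have hx : x = (x + 1) / 2 * ((x + 1) / 2) - (x - 1) / 2 * ((x - 1) / 2) := by field_simp; ring
  show τ x = x
  conv_lhs => rw [hx]
  rw [map_sub, h, h, ← hx]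

omit [Fintype F] in
theorem mem_gramStab {G : Mat} {g : GLn} : g ∈ gramStab G ↔ (g : Mat) * G * (g : Mat)ᵀ = G := Iff.rfl

omit [Fintype F] in
theorem gramStab_diagonal_eq (h2 : (2 : F) ≠ 0) (d : Fin n → Fˣ) :
    gramStab (Matrix.diagonal fun i => (d i : F)) =
      Cfsg.isometryGroup F (OddFree.diagForm fun i => (((d i)⁻¹ : Fˣ) : F)) := by
  ext g
  rw [OddFree.mem_diag, mem_gramStab]
  have hDD : Matrix.diagonal (fun i => (d i : F)) * Matrix.diagonal (fun i => (((d i)⁻¹ : Fˣ) : F)) = 1 := by
    rw [Matrix.diagonal_mul_diagonal, ← Matrix.diagonal_one]; congr 1; funext i; simp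
  set D := Matrix.diagonal (fun i => (d i : F)) with hD
  set D' := Matrix.diagonal (fun i => (((d i)⁻¹ : Fˣ) : F)) with hD'
  have hq : ∀ v, OddFree.diagForm (fun i => (((d i)⁻¹ : Fˣ) : F)) v = v ⬝ᵥ (D' *ᵥ v) := fun v => by
    simp only [OddFree.diagForm, dotProduct, hD', Matrix.mulVec_diagonal]
    exact Finset.sum_congr rfl fun i _ => by ring
  constructor
  · intro h v
    have h1 : (g : Mat) * (D * (g : Mat)ᵀ * D') = 1 := by
      rw [← mul_assoc, ← mul_assoc, h, hDD]
    have h2 : (g : Mat)ᵀ * D' * (g : Mat) = D' := by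
      have h3 := congrArg (D' * ·) (mul_eq_one_comm.mp h1)
      simp only [mul_one, ← mul_assoc, mul_eq_one_comm.mp hDD, one_mul] at h3
      exact h3
    rw [hq, hq, Matrix.mulVec_mulVec, Matrix.dotProduct_mulVec, Matrix.dotProduct_mulVec,
      ← Matrix.vecMul_transpose, Matrix.vecMul_vecMul, ← mul_assoc, h2]
  · intro h
    have hbil : ∀ u v, u ⬝ᵥ (((g : Mat)ᵀ * D' * (g : Mat)) *ᵥ v) + v ⬝ᵥ (((g : Mat)ᵀ * D' * (g : Mat)) *ᵥ u) =
        u ⬝ᵥ (D' *ᵥ v) + v ⬝ᵥ (D' *ᵥ u) := fun u v => by
      have e : ∀ w, w ⬝ᵥ (((g : Mat)ᵀ * D' * (g : Mat)) *ᵥ w) = w ⬝ᵥ (D' *ᵥ w) := fun w => by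
        rw [← hq, ← h w, hq, Matrix.mulVec_mulVec, Matrix.dotProduct_mulVec, Matrix.dotProduct_mulVec,
          ← Matrix.vecMul_transpose, Matrix.vecMul_vecMul, ← mul_assoc]
      have e1 := e (u + v)
      simp only [Matrix.mulVec_add, add_dotProduct, dotProduct_add, e u, e v] at e1
      linear_combination e1
    have hsym : ((g : Mat)ᵀ * D' * (g : Mat))ᵀ = (g : Mat)ᵀ * D' * (g : Mat) := by
      rw [Matrix.transpose_mul, Matrix.transpose_mul, Matrix.transpose_transpose, hD', Matrix.diagonal_transpose,
        mul_assoc]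
    have h3 : (g : Mat)ᵀ * D' * (g : Mat) = D' := by
      ext i j
      have h3 := hbil (Pi.single i 1) (Pi.single j 1)
      simp only [single_one_dotProduct, Matrix.mulVec_single_one, Matrix.col_apply] at h3
      have h4 : ((g : Mat)ᵀ * D' * (g : Mat)) j i = ((g : Mat)ᵀ * D' * (g : Mat)) i j := congrFun (congrFun hsym i) j
      have h5 : D' j i = D' i j := by
        rw [hD']; rcases eq_or_ne i j with rfl | hij
        · rfl
        · rw [Matrix.diagonal_apply_ne _ hij, Matrix.diagonal_apply_ne _ hij.symm]
      exact mul_left_cancel₀ h2 (by linear_combination h3 - h4 + h5)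
    have h6 : (D * (g : Mat)ᵀ * D') * (g : Mat) = 1 := by
      rw [mul_assoc, mul_assoc, ← mul_assoc (g : Mat)ᵀ, h3, hDD]
    have h7 := mul_eq_one_comm.mp h6
    have h8 := congrArg (· * D) h7
    simp only [one_mul, mul_assoc, mul_eq_one_comm.mp hDD, mul_one] at h8
    rwa [← mul_assoc] at h8

include p in
/-- Graph involutions of orthogonal kind. -/
theorem invProps_diagonal (hodd : Odd (Fintype.card F)) (hn : 3 ≤ n) (d : Fin n → Fˣ) :
    CoreCriterion.InvProps (dia (diagGL d) * invTr : MulAut PSLn) := by
  classical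
  have h2 : (2 : F) ≠ 0 := OddFree.two_ne_zero_of_odd hodd
  have hGv : ((diagGL d : GLn) : Mat) = Matrix.diagonal fun i => (d i : F) := rfl
  refine ⟨fun N hN hNn hN2 => odd_fixed_eq_bot p (by omega) _ ?_ N hN hNn hN2, fun γ hc hγodd hfix => ?_⟩
  · rw [hGv, gramStab_diagonal_eq h2]
    exact OddFree.oddFree_diag hodd n hn _ fun i => Units.ne_zero _
  obtain ⟨g, τ, hγ⟩ := odd_decomposition p (by omega) hγodd
  have hfix' : ∀ s : SLn, (s : Mat) * Matrix.diagonal (fun i => (d i : F)) * (s : Mat)ᵀ = Matrix.diagonal (fun i => (d i : F)) →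
      γ (proj s) = proj s := fun s hs => hfix _ (fix_of_gramStab _ (by rw [hGv]; exact hs))
  have hoff : ∀ i j, i ≠ j → (g : Mat) i j = 0 := by
    intro i j hij
    obtain ⟨l, hl⟩ : ∃ l : Fin n, l ∉ ({i, j} : Finset (Fin n)) := by
      by_contra hcon
      push Not at hcon
      have := (Finset.card_le_card (s := (Finset.univ : Finset (Fin n))) (t := {i, j}) fun a _ => hcon a).trans
        Finset.card_le_two
      simp at this
      omega
    simp only [Finset.mem_insert, Finset.mem_singleton, not_or] at hl
    let v : Fin n → F := fun k => if k = i ∨ k = l then -1 else 1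
    have hv : ∀ k, v k * v k = 1 := fun k => by simp only [v]; split_ifs <;> simp
    have hdet : (Matrix.diagonal v).det = 1 := by
      rw [Matrix.det_diagonal, Finset.prod_eq_mul i l (fun e => hl.1 e.symm)
        (fun k _ hk => by simp [v, hk.1, hk.2]) (fun h => absurd (Finset.mem_univ _) h)
        (fun h => absurd (Finset.mem_univ _) h)]
      simp [v]
    let s : SLn := ⟨Matrix.diagonal v, hdet⟩
    have h := sign_commute p (by omega) hγodd hγ (s := s)
      (by
        show (Matrix.diagonal v).map τ = Matrix.diagonal v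
        rw [Matrix.diagonal_map (map_zero τ)]
        congr 1
        funext k
        simp only [Function.comp_apply, v]
        split_ifs <;> simp)
      (by
        show Matrix.diagonal v * Matrix.diagonal v = 1
        rw [Matrix.diagonal_mul_diagonal, ← Matrix.diagonal_one]
        congr 1; funext k; exact hv k)
      (hfix' s (by
        show Matrix.diagonal v * _ * (Matrix.diagonal v)ᵀ = _
        rw [Matrix.diagonal_transpose, Matrix.diagonal_mul_diagonal, Matrix.diagonal_mul_diagonal]
        congr 1; funext k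
        linear_combination (d k : F) * hv k))
    have h' := congrFun (congrFun h i) j
    change ((g : Mat) * Matrix.diagonal v) i j = (Matrix.diagonal v * (g : Mat)) i j at h'
    rw [Matrix.mul_diagonal, Matrix.diagonal_mul, show v i = -1 by simp [v],
      show v j = 1 by simp [v, hij.symm, Ne.symm hl.2]] at h'
    exact (mul_eq_zero.mp (show (2 : F) * (g : Mat) i j = 0 by linear_combination h')).resolve_left h2
  have hg0 : ∀ i, (g : Mat) i i ≠ 0 := fun i e => by
    have h := congrFun (congrFun g.mul_inv i) i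
    rw [Matrix.mul_apply, Finset.sum_eq_zero (fun k _ => by
      rcases eq_or_ne i k with rfl | hik
      · rw [e, zero_mul]
      · rw [hoff i k hik, zero_mul]), Matrix.one_apply_eq] at h
    exact zero_ne_one h
  -- rotations in a coordinate plane
  let i : Fin n := ⟨0, by omega⟩
  let j : Fin n := ⟨1, by omega⟩
  have hij : i ≠ j := fun e => by simpa [i, j] using congrArg Fin.val e
  obtain ⟨δ, hδ⟩ : ∃ δ : F, δ = (d j : F) * ((d i : F))⁻¹ := ⟨_, rfl⟩
  have hδ0 : δ ≠ 0 := hδ ▸ mul_ne_zero (Units.ne_zero _) (inv_ne_zero (Units.ne_zero _))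
  have hdj : (d j : F) = δ * (d i : F) := by rw [hδ]; field_simp
  have hden : ∀ t : F, t ≠ 0 → 1 + δ * (t * t) ≠ 0 → τ (δ * (t * t)) = δ * (t * t) := by
    intro t ht hne
    obtain ⟨w, hw⟩ : ∃ w : F, w * (1 + δ * (t * t)) = 2 * δ * t := ⟨2 * δ * t / (1 + δ * (t * t)), div_mul_cancel₀ _ hne⟩
    let u : F := -t
    have hji : j ≠ i := hij.symm
    let s : SLn := Matrix.SpecialLinearGroup.transvection hij u * Matrix.SpecialLinearGroup.transvection hji w *
      Matrix.SpecialLinearGroup.transvection hij u
    let R : Mat := Matrix.of fun a b =>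
      if a = i then (if b = i then 1 + u * w else if b = j then u * (2 + u * w) else 0)
      else if a = j then (if b = i then w else if b = j then 1 + u * w else 0)
      else if a = b then 1 else 0
    have hs : (s : Mat) = R := by
      show Matrix.transvection i j u * Matrix.transvection j i w * Matrix.transvection i j u = R
      ext a b
      rcases eq_or_ne b j with rfl | hbj
      · rcases eq_or_ne a i with rfl | hai
        · simp [R, Matrix.transvection, Matrix.mul_apply, Matrix.add_apply, Matrix.one_apply, Matrix.single_apply, hij, hji,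
            add_mul, mul_add, Finset.sum_add_distrib]
          ring
        · rcases eq_or_ne a j with rfl | haj
          · simp [R, Matrix.transvection, Matrix.mul_apply, Matrix.add_apply, Matrix.one_apply, Matrix.single_apply, hij, hji,
              add_mul, mul_add, Finset.sum_add_distrib]
            ring
          · simp [R, Matrix.transvection, Matrix.mul_apply, Matrix.add_apply, Matrix.one_apply, Matrix.single_apply, hij, hji,
              hai, haj, Ne.symm hai, Ne.symm haj, add_mul, mul_add, Finset.sum_add_distrib]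
      · rcases eq_or_ne a i with rfl | hai
        · rcases eq_or_ne b i with rfl | hbi <;>
            simp [R, Matrix.transvection, Matrix.mul_apply, Matrix.add_apply, Matrix.one_apply, Matrix.single_apply, hij, hji,
              hbj, Ne.symm hbj, add_mul, mul_add, Finset.sum_add_distrib, *, Ne.symm]
        · rcases eq_or_ne a j with rfl | haj <;>
            rcases eq_or_ne b i with rfl | hbi <;>
              simp [R, Matrix.transvection, Matrix.mul_apply, Matrix.add_apply, Matrix.one_apply, Matrix.single_apply, hij, hji,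
                hbj, Ne.symm hbj, hai, Ne.symm hai, add_mul, mul_add, Finset.sum_add_distrib, *, Ne.symm]
    have hstab : R * Matrix.diagonal (fun k => (d k : F)) * Rᵀ = Matrix.diagonal (fun k => (d k : F)) := by
      have hRi : ∀ k, R i k = if k = i then 1 + u * w else if k = j then u * (2 + u * w) else 0 := fun k => by simp [R]
      have hRj : ∀ k, R j k = if k = i then w else if k = j then 1 + u * w else 0 := fun k => by simp [R, hji]
      have hRo : ∀ a, a ≠ i → a ≠ j → ∀ k, R a k = if a = k then 1 else 0 := fun a ha hb k => by simp [R, ha, hb]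
      ext a c
      have hsum : (R * Matrix.diagonal (fun k => (d k : F)) * Rᵀ) a c = ∑ k, R a k * (d k : F) * R c k := by
        rw [Matrix.mul_apply]
        simp [Matrix.mul_diagonal, Matrix.transpose_apply]
      rw [hsum]
      rcases eq_or_ne a i with rfl | hai
      · rw [Finset.sum_eq_add i j hij (fun k _ hk => by rw [hRi, if_neg hk.1, if_neg hk.2]; ring)
          (by simp) (by simp)]
        rcases eq_or_ne c i with rfl | hci
        · rw [Matrix.diagonal_apply_eq]
          simp only [hRi, if_pos, if_neg hji, hdj, u]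
          linear_combination (t * t * w - 2 * t) * (d i : F) * hw
        · rcases eq_or_ne c j with rfl | hcj
          · rw [Matrix.diagonal_apply_ne _ hij]
            simp only [hRi, hRj, if_pos, if_neg hji, hdj, u]
            linear_combination (1 - t * w) * (d i : F) * hw
          · simp [hRo c hci hcj, hci, hcj, Matrix.diagonal_apply_ne _ (Ne.symm hci)]
      · rcases eq_or_ne a j with rfl | haj
        · rw [Finset.sum_eq_add i j hij (fun k _ hk => by rw [hRj, if_neg hk.1, if_neg hk.2]; ring)
            (by simp) (by simp)]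
          rcases eq_or_ne c i with rfl | hci
          · rw [Matrix.diagonal_apply_ne _ hji]
            simp only [hRi, hRj, if_pos, if_neg hji, hdj, u]
            linear_combination (1 - t * w) * (d i : F) * hw
          · rcases eq_or_ne c j with rfl | hcj
            · rw [Matrix.diagonal_apply_eq]
              simp only [hRj, if_pos, if_neg hji, hdj, u]
              linear_combination w * (d i : F) * hw
            · simp [hRo c hci hcj, hci, hcj, Matrix.diagonal_apply_ne _ (Ne.symm hcj)]
        · rw [Finset.sum_eq_single a (fun k _ hk => by rw [hRo a hai haj, if_neg hk.symm]; ring) (by simp)]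
          rcases eq_or_ne a c with rfl | hac
          · simp [hRo a hai haj]
          · rcases eq_or_ne c i with rfl | hci
            · simp [hRi, hai, haj, Matrix.diagonal_apply_ne _ hac]
            · rcases eq_or_ne c j with rfl | hcj
              · simp [hRj, hai, haj, Matrix.diagonal_apply_ne _ hac]
              · simp [hRo c hci hcj, Ne.symm hac, Matrix.diagonal_apply_ne _ hac]
    obtain ⟨c, -, hc⟩ := scalar_rel (hγ ▸ hfix' s (hs ▸ hstab))
    obtain ⟨k, hk⟩ : ∃ k : Fin n, k ≠ i ∧ k ≠ j := ⟨⟨2, by omega⟩, by simp [i, Fin.ext_iff], by simp [j, Fin.ext_iff]⟩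
    have hentry : ∀ a b, (g : Mat) a a * τ (R a b) = c * (R a b * (g : Mat) b b) := fun a b => by
      have h := congrFun (congrFun hc a) b
      rw [hs, Matrix.smul_apply, smul_eq_mul, Matrix.mul_apply,
        Finset.sum_eq_single a (fun x _ hx => by rw [hoff a x hx.symm, zero_mul]) (by simp), Matrix.map_apply,
        Matrix.mul_apply, Finset.sum_eq_single b (fun x _ hx => by rw [hoff x b hx, mul_zero]) (by simp)] at h
      exact h
    have hkk := hentry k k
    have hRkk : R k k = 1 := by simp [R, hk.1, hk.2]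
    rw [hRkk, map_one, mul_one, one_mul] at hkk
    have hc1 : c = 1 := mul_right_cancel₀ (hg0 k) (by rw [one_mul]; exact hkk.symm)
    have hii := hentry i i
    have hRii : R i i = 1 + u * w := by simp [R]
    rw [hRii, hc1, one_mul] at hii
    have ha : τ (1 + u * w) = 1 + u * w := mul_left_cancel₀ (hg0 i) (by rw [hii]; ring)
    have e1 : 1 + u * w = 2 / (1 + δ * (t * t)) - 1 := by
      rw [eq_sub_iff_add_eq, eq_div_iff hne]
      simp only [u]
      linear_combination -t * hw
    rw [e1, map_sub, map_one, map_div₀, map_ofNat, map_add, map_one, sub_left_inj] at ha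
    have hne' : 1 + τ (δ * (t * t)) ≠ 0 := fun e => hne (by
      have := congrArg τ.symm e
      simpa using this)
    rw [div_eq_div_iff hne' hne] at ha
    exact mul_left_cancel₀ h2 (by linear_combination -ha)
  have hτ : τ = 1 := by
    have hδfix : τ δ = δ := by
      by_cases h1 : 1 + δ = 0
      · rw [eq_neg_of_add_eq_zero_right h1, map_neg, map_one]
      · have := hden 1 one_ne_zero (by rwa [mul_one, mul_one])
        rwa [mul_one, mul_one] at this
    refine eq_id_of_fix_squares h2 fun t => ?_
    rcases eq_or_ne t 0 with rfl | ht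
    · simp
    by_cases hne : 1 + δ * (t * t) = 0
    · have e : t * t = -δ⁻¹ := by field_simp; linear_combination hne
      rw [e, map_neg, map_inv₀, hδfix]
    · have := hden t ht hne
      rw [map_mul τ δ, hδfix] at this
      exact mul_left_cancel₀ hδ0 this
  subst hτ
  rw [map_one, mul_one] at hγ
  refine eq_one_of_diagonal p (by omega) (diagGL d) hγ hc hγodd hoff fun a => ⟨a, ?_, rfl⟩
  rw [hGv, Matrix.diagonal_apply_eq]
  exact Units.ne_zero _

include p in
/-- Graph involutions of symplectic kind. -/
theorem invProps_symplectic (hodd : Odd (Fintype.card F)) {m : ℕ} (hm : 2 ≤ m) (e : Fin m ⊕ Fin m ≃ Fin n)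
    (G : GLn) (hG : (G : Mat) = Matrix.reindex e e (Matrix.J (Fin m) F)) :
    CoreCriterion.InvProps (dia G * invTr : MulAut PSLn) := by
  classical
  have h2 : (2 : F) ≠ 0 := OddFree.two_ne_zero_of_odd hodd
  have hn : 2 ≤ n := by
    have := Fintype.card_congr e
    simp at this
    omega
  have hGxy : ∀ a b, (G : Mat) (e a) (e b) = Matrix.J (Fin m) F a b := fun a b => by
    rw [hG, Matrix.reindex_apply, Matrix.submatrix_apply, Equiv.symm_apply_apply, Equiv.symm_apply_apply]
  refine ⟨fun N hN hNn hN2 => odd_fixed_eq_bot p hn _ ?_ N hN hNn hN2, fun γ hc hγodd hfix => ?_⟩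
  · have hJ : Subsingleton (Fin m) → False := fun h => by
      have := h.elim (⟨0, by omega⟩ : Fin m) ⟨1, by omega⟩
      simp [Fin.ext_iff] at this
    let R : Matrix (Fin m ⊕ Fin m) (Fin m ⊕ Fin m) F ≃ₐ[F] Mat := Matrix.reindexAlgEquiv F F e
    let ι : Subtype (fun A => A ∈ Matrix.symplecticGroup (Fin m) F) →* GLn :=
      (Units.map (R : Matrix (Fin m ⊕ Fin m) (Fin m ⊕ Fin m) F →* Mat)).comp
        (MonoidHom.toHomUnits
          { toFun := fun A => (A.1 : Matrix (Fin m ⊕ Fin m) (Fin m ⊕ Fin m) F), map_one' := rfl, map_mul' := fun _ _ => rfl })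
    have hιc : ∀ A, (ι A : Mat) = R A.1 := fun A => rfl
    have hRt : ∀ X, R Xᵀ = (R X)ᵀ := fun X => by
      simp [R, Matrix.reindexAlgEquiv_apply, Matrix.reindex_apply, Matrix.transpose_submatrix]
    have hRJ : R (Matrix.J (Fin m) F) = (G : Mat) := by rw [hG]; simp [R, Matrix.reindexAlgEquiv_apply]
    have hmem : ∀ A, ι A ∈ gramStab (G : Mat) := fun A => by
      show (ι A : Mat) * G * (ι A : Mat)ᵀ = G
      rw [hιc, ← hRJ, ← hRt, ← map_mul, ← map_mul, SymplecticGroup.mem_iff.mp A.2]
    let θ := ι.codRestrict (gramStab (G : Mat)) hmem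
    have hθ : Function.Bijective θ := by
      refine ⟨fun A B h => Subtype.ext (R.injective ?_), fun g => ?_⟩
      · rw [← hιc, ← hιc]; exact congrArg (fun z : gramStab (G : Mat) => ((z.1 : GLn) : Mat)) h
      · have hAm : R.symm (g.1 : Mat) ∈ Matrix.symplecticGroup (Fin m) F := by
          rw [SymplecticGroup.mem_iff]
          refine R.injective ?_
          rw [map_mul, map_mul, hRt, R.apply_symm_apply, hRJ]
          exact g.2
        refine ⟨⟨_, hAm⟩, Subtype.ext (Units.ext ?_)⟩
        show R (R.symm (g.1 : Mat)) = _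
        rw [R.apply_symm_apply]
    refine OddFree.OddFree.congr ?_ (MulEquiv.ofBijective θ hθ)
    intro N hN hN2
    haveI := hN
    haveI : IsSimpleGroup (Cfsg.PSp m F) := isSimpleGroup_psp hm fun _ => by
      have := Fintype.one_lt_card (α := F)
      rw [Nat.odd_iff] at hodd
      omega
    let π : Subtype (fun A => A ∈ Matrix.symplecticGroup (Fin m) F) →* Cfsg.PSp m F := QuotientGroup.mk' _
    have hπ : Function.Surjective π := QuotientGroup.mk'_surjective _
    rcases (hN.map π hπ).eq_bot_or_eq_top with h | h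
    · rw [eq_bot_iff]
      intro x hx
      have hxc : x ∈ Subgroup.center _ := (QuotientGroup.eq_one_iff x).mp (by
        have : π x ∈ N.map π := ⟨x, hx, rfl⟩
        rwa [h, Subgroup.mem_bot] at this)
      refine Subgroup.mem_bot.mpr (OddFree.eq_one_of_sq hN2 hx (Subtype.ext ?_))
      show x.1 * x.1 = 1
      rcases (mem_center_sp_iff (by omega) x).mp hxc with e | e <;> rw [e] <;> simp
    · exfalso
      have hd := (Subgroup.card_map_dvd N π)
      rw [h, Subgroup.card_top] at hd
      have hev : 2 ∣ Nat.card (Cfsg.PSp m F) := by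
        let J₀ : Subtype (fun A => A ∈ Matrix.symplecticGroup (Fin m) F) := ⟨_, SymplecticGroup.J_mem (Fin m) F⟩
        have ho : orderOf (π J₀) = 2 := by
          refine orderOf_eq_prime ?_ fun e => ?_
          · rw [← map_pow]
            refine (QuotientGroup.eq_one_iff _).mpr ((mem_center_sp_iff (by omega) _).mpr (Or.inr ?_))
            rw [sq]
            exact Matrix.J_squared (Fin m) F
          · have h' := (mem_center_sp_iff (by omega) _).mp ((QuotientGroup.eq_one_iff J₀).mp e)
            have hne : (J₀.1) (Sum.inl ⟨0, by omega⟩) (Sum.inr ⟨0, by omega⟩) = -1 := by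
              show Matrix.J (Fin m) F _ _ = _
              simp [Matrix.J]
            rcases h' with h' | h' <;> rw [h'] at hne <;> simp at hne
        exact ho ▸ orderOf_dvd_natCard _
      exact (Nat.not_even_iff_odd.mpr hN2) (even_iff_two_dvd.mpr (hev.trans hd))
  obtain ⟨g, τ, hγ⟩ := odd_decomposition p hn hγodd
  have key : ∀ x y : Fin n, x ≠ y → (∀ z, z ≠ x → (G : Mat) y z = 0 ∧ (G : Mat) z y = 0) →
      (G : Mat) x y + (G : Mat) y x = 0 → (G : Mat) y y = 0 → (∃ z, z ≠ x ∧ z ≠ y) →
      (∀ z, z ≠ x → (g : Mat) z x = 0) ∧ (∀ z, z ≠ y → (g : Mat) y z = 0) ∧ (g : Mat) x x = (g : Mat) y y ∧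
        ∀ a : F, τ a * (g : Mat) x x = a * (g : Mat) x x := by
    intro x y hxy hGy hsum hGyy _
    have hst : ∀ a : F, (Matrix.transvection x y a) * (G : Mat) * (Matrix.transvection x y a)ᵀ = (G : Mat) := by
      intro a
      have hT : (Matrix.transvection x y a)ᵀ = Matrix.transvection y x a := by
        simp [Matrix.transvection, Matrix.transpose_add, Matrix.transpose_single]
      rw [hT]
      ext r c
      rcases eq_or_ne c x with rfl | hcx
      · rw [Matrix.mul_transvection_apply_same]
        rcases eq_or_ne r c with rfl | hrx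
        · rw [Matrix.transvection_mul_apply_same, Matrix.transvection_mul_apply_same, hGyy]
          linear_combination a * hsum
        · rw [Matrix.transvection_mul_apply_of_ne _ _ _ _ hrx, Matrix.transvection_mul_apply_of_ne _ _ _ _ hrx,
            (hGy r hrx).2]
          ring
      · rw [Matrix.mul_transvection_apply_of_ne _ _ _ _ hcx]
        rcases eq_or_ne r x with rfl | hrx
        · rw [Matrix.transvection_mul_apply_same, (hGy c hcx).1]
          ring
        · rw [Matrix.transvection_mul_apply_of_ne _ _ _ _ hrx]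
    have hrel : ∀ a : F, (g : Mat) * Matrix.transvection x y (τ a) = Matrix.transvection x y a * (g : Mat) := by
      intro a
      have hmap : (Matrix.transvection x y a).map τ = Matrix.transvection x y (τ a) := by
        ext r c
        simp [Matrix.transvection, Matrix.one_apply, Matrix.single_apply, apply_ite τ]
      obtain ⟨c, -, hc⟩ := scalar_rel (hγ ▸ hfix _ (fix_of_gramStab G
        (s := Matrix.SpecialLinearGroup.transvection hxy a) (hst a)))
      change (g : Mat) * (Matrix.transvection x y a).map τ = c • (Matrix.transvection x y a * (g : Mat)) at hc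
      rw [hmap] at hc
      suffices h : c = 1 by rw [hc, h, one_smul]
      have hE : ∀ b : F, (Matrix.transvection x y b - 1) * (Matrix.transvection x y b - 1) = 0 := fun b => by
        rw [Matrix.transvection, add_sub_cancel_left, Matrix.single_mul_single_of_ne _ _ _ _ hxy.symm]
      have hconj : c • Matrix.transvection x y a - 1 =
          (g : Mat) * (Matrix.transvection x y (τ a) - 1) * ((g⁻¹ : GLn) : Mat) := by
        rw [mul_sub, mul_one, sub_mul, Units.mul_inv, hc, Matrix.smul_mul, mul_assoc, Units.mul_inv, mul_one]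
      have hsq : (c • Matrix.transvection x y a - 1) * (c • Matrix.transvection x y a - 1) = 0 := by
        rw [hconj, show ∀ X : Mat, (g : Mat) * X * ((g⁻¹ : GLn) : Mat) * ((g : Mat) * X * ((g⁻¹ : GLn) : Mat)) =
          (g : Mat) * (X * (((g⁻¹ : GLn) : Mat) * (g : Mat)) * X) * ((g⁻¹ : GLn) : Mat) from fun X => by simp only [mul_assoc],
          Units.inv_mul, mul_one, hE, mul_zero, zero_mul]
      have h := congrFun (congrFun hsq y) y
      rw [Matrix.mul_apply, Finset.sum_eq_single y (fun k _ hk => by
        simp [Matrix.transvection, hxy, hxy.symm, Ne.symm hk]) (by simp)] at h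
      simp [Matrix.transvection, hxy, hxy.symm] at h
      exact sub_eq_zero.mp h
    have hent : ∀ (a : F) r c, (g : Mat) r x * (if c = y then τ a else 0) =
        (if r = x then a else 0) * (g : Mat) y c := by
      intro a r c
      have h := congrFun (congrFun (hrel a) r) c
      rw [Matrix.transvection, Matrix.transvection, mul_add, add_mul, mul_one, one_mul, Matrix.add_apply,
        Matrix.add_apply, add_right_inj] at h
      rw [Matrix.mul_apply, Matrix.mul_apply, Finset.sum_eq_single x
        (fun k _ hk => by simp [Ne.symm hk]) (by simp),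
        Finset.sum_eq_single y (fun k _ hk => by simp [Ne.symm hk]) (by simp)] at h
      rw [Matrix.single_apply, Matrix.single_apply] at h
      rcases eq_or_ne c y with hcy | hcy <;> rcases eq_or_ne r x with hrx | hrx <;>
        simp [hcy, hrx, Ne.symm] at h ⊢ <;> exact h
    refine ⟨fun z hz => ?_, fun z hz => ?_, ?_, fun a => ?_⟩
    · simpa [hz] using hent 1 z y
    · simpa [hz, eq_comm] using hent 1 x z
    · simpa using hent 1 x y
    · have h1 := hent 1 x y
      have ha := hent a x y
      simp only [if_pos] at h1 ha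
      rw [map_one, mul_one, one_mul] at h1
      rw [mul_comm, ha, h1]
  have hJ : ∀ a b, Matrix.J (Fin m) F a b = Sum.elim (fun i => Sum.elim (fun _ => (0 : F)) (fun j => if i = j then -1 else 0) b)
      (fun i => Sum.elim (fun j => if i = j then 1 else 0) (fun _ => (0 : F)) b) a := fun a b => by
    rcases a with a | a <;> rcases b with b | b <;> simp [Matrix.J, Matrix.one_apply, neg_ite]
  have hpairs : ∀ k : Fin m, ∀ b : Bool,
      let x := e (cond b (Sum.inl k) (Sum.inr k)); let y := e (cond b (Sum.inr k) (Sum.inl k))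
      (∀ z, z ≠ x → (g : Mat) z x = 0) ∧ (∀ z, z ≠ y → (g : Mat) y z = 0) ∧ (g : Mat) x x = (g : Mat) y y ∧
        ∀ a : F, τ a * (g : Mat) x x = a * (g : Mat) x x := by
    intro k b x y
    have hxy : x ≠ y := fun h => by cases b <;> simp [x, y] at h
    refine key x y hxy (fun z hz => ?_) ?_ ?_ ?_
    · obtain ⟨z, rfl⟩ := e.surjective z
      rw [Ne, e.injective.eq_iff] at hz
      rw [hGxy, hGxy, hJ, hJ]
      cases b <;> rcases z with z | z <;> simp at hz ⊢ <;> simp [hz, Ne.symm hz]
    · rw [hGxy, hGxy, hJ, hJ]; cases b <;> simp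
    · rw [hGxy, hJ]; cases b <;> simp
    · obtain ⟨k', hk'⟩ : ∃ k' : Fin m, k' ≠ k := by
        haveI : Nontrivial (Fin m) := Fin.nontrivial_iff_two_le.mpr hm
        exact exists_ne k
      refine ⟨e (Sum.inl k'), ?_, ?_⟩ <;> (cases b <;> simp [x, y, hk'])
  have hoff : ∀ a c, a ≠ c → (g : Mat) a c = 0 := by
    intro a c hac
    obtain ⟨c, rfl⟩ := e.surjective c
    rcases c with k | k
    · exact (hpairs k true).1 a hac
    · exact (hpairs k false).1 a hac
  have hτ : τ = 1 := by
    obtain ⟨-, -, -, ha⟩ := hpairs ⟨0, by omega⟩ true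
    refine RingEquiv.ext fun a => mul_right_cancel₀ (fun e0 => ?_) (ha a)
    set x := e (Sum.inl (⟨0, by omega⟩ : Fin m))
    have h := congrFun (congrFun g.mul_inv x) x
    rw [Matrix.mul_apply, Finset.sum_eq_zero (fun k _ => by
      rcases eq_or_ne x k with rfl | hik
      · rw [show (g : Mat) x x = 0 from e0, zero_mul]
      · rw [hoff x k hik, zero_mul]), Matrix.one_apply_eq] at h
    exact zero_ne_one h
  subst hτ
  rw [map_one, mul_one] at hγ
  refine eq_one_of_diagonal p hn G hγ hc hγodd hoff fun a => ?_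
  obtain ⟨a, rfl⟩ := e.surjective a
  rcases a with k | k
  · exact ⟨e (Sum.inr k), by rw [hGxy, hJ]; simp, (hpairs k true).2.2.1⟩
  · exact ⟨e (Sum.inl k), by rw [hGxy, hJ]; simp, (hpairs k false).2.2.1⟩

include p in
/-- Every involutory graph automorphism, up to a conjugation. -/
theorem invProps_graph (hodd : Odd (Fintype.card F)) (hn : 3 ≤ n) (g : GLn)
    (hg : (dia g * invTr : MulAut PSLn) * (dia g * invTr) = 1) :
    CoreCriterion.InvProps (dia g * invTr : MulAut PSLn) := by
  classical
  have h2 : (2 : F) ≠ 0 := OddFree.two_ne_zero_of_odd hodd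
  rw [mul_assoc, ← mul_assoc invTr, invTr_mul_dia, mul_assoc (dia (itGL g)), invTr_mul_self, mul_one, ← map_mul,
    ← MonoidHom.mem_ker, ker_dia (show 2 ≤ n by omega) p, GeneralLinearGroup.center_eq_range_scalar] at hg
  obtain ⟨c, hc⟩ := hg
  have hgT : (g : Mat) = (c : F) • (g : Mat)ᵀ := by
    have h : g = GeneralLinearGroup.scalar (Fin n) c * (itGL g)⁻¹ := by rw [hc]; group
    have h' := congrArg (fun x : GLn => (x : Mat)) h
    simp only [Units.val_mul, itGL_inv_coe] at h'
    refine h'.trans ?_
    show Matrix.scalar (Fin n) (c : F) * (g : Mat)ᵀ = _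
    simp [Matrix.scalar_apply, ← Matrix.smul_eq_diagonal_mul]
  have key : ∀ (G₀ : GLn) (P : GLn), (P : Mat)ᵀ * (g : Mat) * (P : Mat) = (G₀ : Mat) →
      CoreCriterion.InvProps (dia G₀ * invTr : MulAut PSLn) → CoreCriterion.InvProps (dia g * invTr : MulAut PSLn) := by
    intro G₀ P hP h
    have h' := CoreCriterion.invProps_conj (dia (itGL P)) h
    rwa [show dia (itGL P) * (dia G₀ * invTr) * (dia (itGL P))⁻¹ = dia g * (invTr : MulAut PSLn) by
      rw [← mul_assoc, ← map_mul, ← map_inv, mul_assoc, invTr_mul_dia, ← mul_assoc, ← map_mul]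
      congr 2
      refine Units.ext ?_
      have e1 : ((itGL ((itGL P)⁻¹) : GLn) : Mat) = ((P⁻¹ : GLn) : Mat) := by
        rw [map_inv, itGL_inv_coe, itGL_coe, Matrix.transpose_transpose]
      rw [Units.val_mul, Units.val_mul, e1, itGL_coe, ← hP]
      simp only [mul_assoc, Units.mul_inv, mul_one]
      rw [← mul_assoc, ← Matrix.transpose_mul, Units.mul_inv, Matrix.transpose_one, one_mul]] at h'
  let B : LinearMap.BilinForm F (Fin n → F) := Matrix.toBilin' (g : Mat)
  have hBnd : B.Nondegenerate := by
    refine LinearMap.BilinForm.nondegenerate_toBilin'_iff_det_ne_zero.mpr ?_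
    exact ((Matrix.isUnit_iff_isUnit_det _).mp g.isUnit).ne_zero
  have hc2 : (c : F) * c = 1 := by
    obtain ⟨i, j, hij⟩ : ∃ i j, (g : Mat) i j ≠ 0 := by
      by_contra hcon
      push Not at hcon
      have h := congrFun (congrFun g.mul_inv ⟨0, by omega⟩) ⟨0, by omega⟩
      simp [Matrix.mul_apply, hcon] at h
    have e1 := congrFun (congrFun hgT i) j
    have e2 := congrFun (congrFun hgT j) i
    rw [Matrix.smul_apply, Matrix.transpose_apply, smul_eq_mul] at e1 e2
    rw [e2, ← mul_assoc] at e1
    exact mul_right_cancel₀ hij (by rw [one_mul]; exact e1.symm)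
  rcases mul_self_eq_one_iff.mp hc2 with e | e
  · rw [e, one_smul] at hgT
    have hBS : B.IsSymm := ⟨fun u v => by
      simp only [B, Matrix.toBilin'_apply', Matrix.dotProduct_mulVec, RingHom.id_apply]
      conv_rhs => rw [hgT, Matrix.vecMul_transpose]
      rw [dotProduct_comm ((g : Mat) *ᵥ v), Matrix.dotProduct_mulVec]⟩
    obtain ⟨α, hα⟩ := FiniteField.exists_nonsquare (F := F) (fun hc => h2 (by
      haveI := (ringChar.eq_iff).mp hc; exact CharTwo.two_eq_zero))
    obtain ⟨n', rfl⟩ : ∃ n', n = n' + 1 := ⟨n - 1, by omega⟩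
    obtain ⟨b, hb0, hb1, hb2⟩ := Geometry.exists_orth_basis_one_or_nonsquare B hBS hBnd h2
      (n := n') (by simp) α hα
    have hne : ∀ i, B (b i) (b i) ≠ 0 := fun i e0 => by
      rcases eq_or_ne i (Fin.last n') with rfl | hi
      · rcases hb2 with h | h <;> rw [e0] at h
        · exact zero_ne_one h
        · exact hα (h ▸ IsSquare.zero)
      · rw [hb1 i hi] at e0; exact one_ne_zero e0
    haveI := (Pi.basisFun F (Fin (n' + 1))).invertibleToMatrix b
    let P : GL (Fin (n' + 1)) F := unitOfInvertible ((Pi.basisFun F (Fin (n' + 1))).toMatrix b)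
    refine key (diagGL fun i => Units.mk0 _ (hne i)) P ?_ (invProps_diagonal p hodd hn _)
    ext i j
    have hP : ∀ k i, (P : Matrix (Fin (n' + 1)) (Fin (n' + 1)) F) k i = b i k := fun k i => by
      show (Pi.basisFun F (Fin (n' + 1))).toMatrix b k i = _
      simp [Module.Basis.toMatrix_apply]
    have hB : ((P : Matrix (Fin (n' + 1)) (Fin (n' + 1)) F)ᵀ * (g : Matrix (Fin (n' + 1)) (Fin (n' + 1)) F) * (P : Matrix (Fin (n' + 1)) (Fin (n' + 1)) F)) i j = B (b i) (b j) := by
      simp only [B, Matrix.toBilin'_apply']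
      rw [Matrix.dotProduct_mulVec]
      simp only [Matrix.mul_apply, dotProduct, Matrix.vecMul, Matrix.transpose_apply, hP]
    rw [hB]
    show _ = Matrix.diagonal _ i j
    rcases eq_or_ne i j with rfl | hij
    · rw [Matrix.diagonal_apply_eq]; rfl
    · rw [Matrix.diagonal_apply_ne _ hij, hb0 i j hij]
  · rw [e] at hgT
    have hBA : B.IsAlt := fun u => by
      have h : u ⬝ᵥ ((g : Mat) *ᵥ u) = -(u ⬝ᵥ ((g : Mat) *ᵥ u)) := by
        conv_lhs => rw [hgT, neg_one_smul, Matrix.neg_mulVec, dotProduct_neg, Matrix.dotProduct_mulVec,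
          Matrix.vecMul_transpose, dotProduct_comm]
      simp only [B, Matrix.toBilin'_apply']
      exact (mul_eq_zero.mp (show (2 : F) * _ = 0 by linear_combination h)).resolve_left h2
    obtain ⟨m, k, b, h12, h11, h22, hrad⟩ := Geometry.exists_sympBasis B hBA
    have hk : k = 0 := by
      by_contra hk
      exact b.ne_zero (Sum.inr ⟨0, Nat.pos_of_ne_zero hk⟩) (hBnd.1 _ fun v => hrad _ v)
    subst hk
    let b' := b.reindex ((Equiv.sumEmpty _ _).trans (Equiv.sumComm _ _))
    have hnm : n = m + m := by
      have h := Module.finrank_eq_card_basis b'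
      simpa using h
    let ε : Fin m ⊕ Fin m ≃ Fin n := finSumFinEquiv.trans (finCongr hnm.symm)
    have hJu : IsUnit (Matrix.reindex ε ε (Matrix.J (Fin m) F)) := by
      rw [Matrix.isUnit_iff_isUnit_det, Matrix.det_reindex_self]
      exact Matrix.isUnit_det_J (Fin m) F
    let b'' := b'.reindex ε
    haveI := (Pi.basisFun F (Fin n)).invertibleToMatrix b''
    let P : GLn := unitOfInvertible ((Pi.basisFun F (Fin n)).toMatrix b'')
    refine key hJu.unit P ?_ (invProps_symplectic p hodd (by omega) ε _ hJu.unit_spec)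
    rw [hJu.unit_spec]
    ext i j
    have hP : ∀ k i, (P : Mat) k i = b'' i k := fun k i => by
      show (Pi.basisFun F (Fin n)).toMatrix b'' k i = _
      simp [Module.Basis.toMatrix_apply]
    have hB : ((P : Mat)ᵀ * (g : Mat) * (P : Mat)) i j = B (b'' i) (b'' j) := by
      simp only [B, Matrix.toBilin'_apply']
      rw [Matrix.dotProduct_mulVec]
      simp only [Matrix.mul_apply, dotProduct, Matrix.vecMul, Matrix.transpose_apply, hP]
    have h21 : ∀ a c : Fin m, B (b (Sum.inl (Sum.inr a))) (b (Sum.inl (Sum.inl c))) = if c = a then -1 else 0 := fun a c => by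
      rw [← hBA.neg_eq, h12]; split_ifs <;> simp
    rw [hB, Matrix.reindex_apply, Matrix.submatrix_apply]
    simp only [b'', b', Module.Basis.reindex_apply]
    rcases ε.symm i with a | a <;> rcases ε.symm j with a' | a' <;>
      simp [h12, h11, h22, h21, Matrix.J, Matrix.one_apply, neg_ite, eq_comm]

end Cfsg.Agent.Lib.Classical.AutPSL
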