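import Cfsg.Agent.Lib.Classical.AutPSL.Sylow

/-!
Automorphisms of `PSL_n(q)`, part 3: every automorphism is inner-diagonal times field times
(possibly) inverse transpose.
-/

set_option autoImplicit false

namespace Cfsg.Agent.Lib.Classical.AutPSL

open Matrix

variable {n : ℕ} {F : Type*} [Field F]

local notation "SLn" => Matrix.SpecialLinearGroup (Fin n) F
local notation "PSLn" => Matrix.ProjectiveSpecialLinearGroup (Fin n) F
local notation "Mat" => Matrix (Fin n) (Fin n) F

/-- Proportional vectors. -/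
def Par (v w : Fin n → F) : Prop := ∃ c : F, w = c • v

theorem Par.symm {v w : Fin n → F} (h : Par v w) (hw : w ≠ 0) : Par w v := by
  obtain ⟨c, rfl⟩ := h
  have hc : c ≠ 0 := fun e => hw (by rw [e, zero_smul])
  exact ⟨c⁻¹, by rw [smul_smul, inv_mul_cancel₀ hc, one_smul]⟩

theorem Par.trans {u v w : Fin n → F} (h : Par u v) (h' : Par v w) : Par u w := by
  obtain ⟨c, rfl⟩ := h
  obtain ⟨d, rfl⟩ := h'
  exact ⟨d * c, smul_smul d c u⟩

theorem par_of_cross_eq_zero {a b : Fin n → F} (ha : a ≠ 0)
    (h : ∀ k l, a k * b l = a l * b k) : Par a b := by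
  obtain ⟨k, hk⟩ := Function.ne_iff.mp ha
  refine ⟨b k / a k, funext fun l => ?_⟩
  have hk' : a k ≠ 0 := hk
  rw [Pi.smul_apply, smul_eq_mul, div_mul_eq_mul_div, eq_div_iff hk']
  linear_combination h k l

/-- A sum of two rank-one matrices of rank one. -/
theorem par_or_par {v a w b u d : Fin n → F} (hv : v ≠ 0) (ha : a ≠ 0)
    (h : vecMulVec v a + vecMulVec w b = vecMulVec u d) : Par v w ∨ Par a b := by
  by_cases hab : ∀ k l, a k * b l = a l * b k
  · exact Or.inr (par_of_cross_eq_zero ha hab)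
  push Not at hab
  obtain ⟨k, l, hkl⟩ := hab
  have hD : a k * b l - a l * b k ≠ 0 := sub_ne_zero.mpr hkl
  left
  have hcol : ∀ i m, v i * a m + w i * b m = u i * d m := fun i m => by
    simpa [vecMulVec_apply] using congrFun (congrFun h i) m
  have e1 : ∀ i, (a k * b l - a l * b k) * v i = (b l * d k - b k * d l) * u i := fun i => by
    linear_combination b l * hcol i k - b k * hcol i l
  have e2 : ∀ i, (a k * b l - a l * b k) * w i = (a k * d l - a l * d k) * u i := fun i => by
    linear_combination a k * hcol i l - a l * hcol i k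
  have hc : b l * d k - b k * d l ≠ 0 := fun h0 => hv (funext fun i => by
    have := e1 i
    rw [h0, zero_mul] at this
    exact (mul_eq_zero.mp this).resolve_left hD)
  refine ⟨(a k * d l - a l * d k) / (b l * d k - b k * d l), funext fun i => ?_⟩
  rw [Pi.smul_apply, smul_eq_mul, div_mul_eq_mul_div, eq_div_iff hc]
  refine mul_left_cancel₀ hD ?_
  linear_combination (b l * d k - b k * d l) * e2 i - (a k * d l - a l * d k) * e1 i

theorem tvs_mul_coe {v a w b : Fin n → F} (h : a ⬝ᵥ v = 0) (h' : b ⬝ᵥ w = 0) (c d : F) :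
    ((tvs v a h c * tvs w b h' d : SLn) : Mat) =
      1 + (c • vecMulVec v a + d • vecMulVec w b + (c * d * (a ⬝ᵥ w)) • vecMulVec v b) := by
  rw [Matrix.SpecialLinearGroup.coe_mul, tvs_coe, tvs_coe]
  simp only [add_mul, mul_add, one_mul, mul_one, Matrix.smul_mul, Matrix.mul_smul,
    vecMulVec_mul_vecMulVec, smul_smul]
  rw [vecMulVec_smul, smul_smul]
  rw [mul_comm c d]
  abel

theorem dot_eq_zero_of_commute {v a w b : Fin n → F} (hv : v ≠ 0) (hb : b ≠ 0) (h : a ⬝ᵥ v = 0)
    (h' : b ⬝ᵥ w = 0) (hc : tvs v a h 1 * tvs w b h' 1 = tvs w b h' 1 * tvs v a h 1) :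
    a ⬝ᵥ w = 0 := by
  have e := congrArg (fun M : SLn => (M : Mat)) hc
  simp only [tvs_mul_coe, one_smul, one_mul, add_right_inj] at e
  rw [add_comm (vecMulVec v a) (vecMulVec w b), add_right_inj] at e
  by_contra hne
  obtain ⟨i, hi⟩ := Function.ne_iff.mp hv
  obtain ⟨j, hj⟩ := Function.ne_iff.mp hb
  simp only [Pi.zero_apply] at hi hj
  -- `v` is a multiple of `w`
  have hvw : Par w v := by
    refine ⟨(b ⬝ᵥ v) / (a ⬝ᵥ w) * (a j / b j), funext fun k => ?_⟩
    have := congrFun (congrFun e k) j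
    simp [vecMulVec_apply] at this
    rw [Pi.smul_apply, smul_eq_mul]
    field_simp
    linear_combination this
  have hab : Par b a := by
    obtain ⟨s, hs⟩ := hvw
    have hs' : s ≠ 0 := fun h0 => hv (by rw [hs, h0, zero_smul])
    have hbv : b ⬝ᵥ v = 0 := by rw [hs, dotProduct_smul, h', smul_zero]
    have := congrFun (congrFun e i) j
    simp [vecMulVec_apply, hbv] at this
    exact absurd this (by simp [hne, hi, hj])
  exact absurd (show a ⬝ᵥ w = 0 by
    obtain ⟨t, rfl⟩ := hab
    rw [smul_dotProduct, h', smul_zero]) hne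

theorem commute_of_dot_eq_zero {v a w b : Fin n → F} (h : a ⬝ᵥ v = 0) (h' : b ⬝ᵥ w = 0)
    (h1 : a ⬝ᵥ w = 0) (h2 : b ⬝ᵥ v = 0) (c d : F) :
    tvs v a h c * tvs w b h' d = tvs w b h' d * tvs v a h c := by
  refine sl_ext ?_
  rw [tvs_mul_coe, tvs_mul_coe, h1, h2, mul_zero, mul_zero, zero_smul, zero_smul, add_zero,
    add_zero, add_comm (c • vecMulVec v a)]

theorem par_dot {v w a : Fin n → F} (h : a ⬝ᵥ v = 0) (hp : Par v w) : a ⬝ᵥ w = 0 := by
  obtain ⟨c, rfl⟩ := hp
  rw [dotProduct_smul, h, smul_zero]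

theorem par_dot' {a b v : Fin n → F} (h : a ⬝ᵥ v = 0) (hp : Par a b) : b ⬝ᵥ v = 0 := by
  obtain ⟨c, rfl⟩ := hp
  rw [smul_dotProduct, h, smul_zero]

/-- The images of the standard transvection groups under an automorphism. -/
structure Images (β : MulAut PSLn) where
  v : ∀ i j : Fin n, i ≠ j → Fin n → F
  a : ∀ i j : Fin n, i ≠ j → Fin n → F
  orth : ∀ i j h, a i j h ⬝ᵥ v i j h = 0
  f : ∀ i j : Fin n, i ≠ j → F → F
  bij : ∀ i j h, Function.Bijective (f i j h)
  v_ne : ∀ i j h, v i j h ≠ 0
  a_ne : ∀ i j h, a i j h ≠ 0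
  spec : ∀ i j h c, β (proj (et i j h c)) = proj (tvs (v i j h) (a i j h) (orth i j h) (f i j h c))

/-- All rows share their centre. -/
def RowPoint (β : MulAut PSLn) : Prop :=
  ∃ (D : Images β), (∀ i j k (hj : i ≠ j) (hk : i ≠ k), Par (D.v i j hj) (D.v i k hk)) ∧
    (∀ i k j (hi : i ≠ j) (hk : k ≠ j), Par (D.a i j hi) (D.a k j hk))

variable [Fintype F] (p : ℕ) [Fact p.Prime] [CharP F p]

include p in
theorem nonempty_images (β : MulAut PSLn) (hn : 2 ≤ n) : Nonempty (Images β) := by
  choose v a orth f bij v_ne a_ne spec using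
    fun (x : {x : Fin n × Fin n // x.1 ≠ x.2}) => exists_image p β hn x.2
  exact ⟨⟨fun i j h => v ⟨(i, j), h⟩, fun i j h => a ⟨(i, j), h⟩, fun i j h => orth ⟨(i, j), h⟩,
    fun i j h => f ⟨(i, j), h⟩, fun i j h => bij ⟨(i, j), h⟩, fun i j h => v_ne ⟨(i, j), h⟩, fun i j h => a_ne ⟨(i, j), h⟩,
    fun i j h => spec ⟨(i, j), h⟩⟩⟩

include p

theorem et_eq_of_image {β : MulAut PSLn} (D : Images β) {i j k l : Fin n} (hij : i ≠ j)
    (hkl : k ≠ l) {c d : F}
    (h : D.f i j hij c • vecMulVec (D.v i j hij) (D.a i j hij) =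
      D.f k l hkl d • vecMulVec (D.v k l hkl) (D.a k l hkl)) :
    et i j hij c = et k l hkl d := by
  have e : β (proj (et i j hij c)) = β (proj (et k l hkl d)) := by
    rw [D.spec, D.spec, tvs_congr h]
  exact eq_of_proj_eq p (tvs_pow_char p _ _) (tvs_pow_char p _ _) (β.injective e)

theorem proj_commute {x y : SLn} (hy : y ^ p = 1) (h : proj x * proj y = proj y * proj x) :
    x * y = y * x := by
  have hc : (x * y * x⁻¹) ^ p = 1 := by rw [conj_pow, hy]; simp
  have e : x * y * x⁻¹ = y := eq_of_proj_eq p hc hy (by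
    rw [map_mul, map_mul, h, mul_assoc, map_inv, mul_inv_cancel, mul_one])
  calc x * y = (x * y * x⁻¹) * x := by simp
    _ = y * x := by rw [e]

theorem not_par_both {β : MulAut PSLn} (D : Images β) {i j k l : Fin n} (hij : i ≠ j) (hkl : k ≠ l)
    (hne : ¬ (i = k ∧ j = l)) (hv : Par (D.v i j hij) (D.v k l hkl))
    (ha : Par (D.a i j hij) (D.a k l hkl)) : False := by
  obtain ⟨c, hc⟩ := hv
  obtain ⟨d, hd⟩ := ha
  obtain ⟨x, hx⟩ := (D.bij i j hij).2 (D.f k l hkl 1 * c * d)
  have e := et_eq_of_image p D hij hkl (c := x) (d := 1) (by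
    rw [hx, hc, hd, smul_vecMulVec, vecMulVec_smul, smul_smul, smul_smul])
  have h := congrArg (fun M : SLn => (M : Mat) k l) e
  simp [et_coe, hkl, Matrix.single_apply, hne] at h

theorem share {β : MulAut PSLn} (hn : 2 ≤ n) (D : Images β) {i j k l : Fin n} (hij : i ≠ j) (hkl : k ≠ l)
    (g : GL (Fin n) F)
    (hg : conjSL g (et i j hij 1) = et i j hij 1 * et k l hkl 1)
    (hcomm : et i j hij (1 : F) * et k l hkl 1 = et k l hkl 1 * et i j hij 1) :
    Par (D.v i j hij) (D.v k l hkl) ∨ Par (D.a i j hij) (D.a k l hkl) := by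
  obtain ⟨u, d, hud, f, -, -, -, hf⟩ := exists_image p (β * dia g) hn hij
  have hne : ∀ i j (h : i ≠ j), D.f i j h 1 ≠ 0 := by
    intro i j h e
    have e1 : β (proj (et i j h 1)) = β 1 := by rw [D.spec, e, tvs_zero, map_one, map_one]
    have e2 := eq_of_proj_eq p (x := et i j h (1 : F)) (y := 1) (tvs_pow_char p _ _) (one_pow _)
      (by rw [β.injective e1, map_one])
    have h3 := congrArg (fun M : SLn => (M : Mat) i j) e2
    simp [et_coe, h] at h3
  set v := D.f i j hij 1 • D.v i j hij with hv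
  set w := D.f k l hkl 1 • D.v k l hkl with hw
  have ov : D.a i j hij ⬝ᵥ v = 0 := by rw [hv, dotProduct_smul, D.orth, smul_zero]
  have ow : D.a k l hkl ⬝ᵥ w = 0 := by rw [hw, dotProduct_smul, D.orth, smul_zero]
  set X := tvs v (D.a i j hij) ov 1 with hX
  set Y := tvs w (D.a k l hkl) ow 1 with hY
  have eX : β (proj (et i j hij 1)) = proj X := by
    rw [D.spec]; exact congrArg proj (tvs_congr (by rw [one_smul, hv, smul_vecMulVec]))
  have eY : β (proj (et k l hkl 1)) = proj Y := by
    rw [D.spec]; exact congrArg proj (tvs_congr (by rw [one_smul, hw, smul_vecMulVec]))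
  have hXY : X * Y = Y * X := by
    refine proj_commute p (tvs_pow_char p _ _) ?_
    rw [← eX, ← eY, ← map_mul, ← map_mul, ← map_mul, ← map_mul, hcomm]
  have hdot : D.a i j hij ⬝ᵥ w = 0 :=
    dot_eq_zero_of_commute (smul_ne_zero (hne _ _ _) (D.v_ne _ _ _)) (D.a_ne _ _ _) ov ow hXY
  have hp : (X * Y) ^ p = 1 := by
    rw [(show Commute X Y from hXY).mul_pow, hX, hY, tvs_pow_char p, tvs_pow_char p, one_mul]
  have e : X * Y = tvs u d hud (f 1) := eq_of_proj_eq p hp (tvs_pow_char p _ _) (by
    rw [map_mul, ← eX, ← eY, ← map_mul, ← map_mul, ← hg, ← hf 1, MulAut.mul_apply, dia_proj])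
  have e' := congrArg (fun M : SLn => (M : Mat)) e
  simp only [hX, hY, tvs_mul_coe, tvs_coe, hdot, mul_zero, zero_smul, add_zero, one_smul,
    add_right_inj] at e'
  rw [← smul_vecMulVec] at e'
  rcases par_or_par (smul_ne_zero (hne _ _ _) (D.v_ne _ _ _)) (D.a_ne _ _ _) e' with h | h
  · left
    obtain ⟨c, hc⟩ := h
    refine ⟨(D.f k l hkl 1)⁻¹ * (c * D.f i j hij 1), ?_⟩
    rw [← smul_smul, ← smul_smul, ← hv, ← hc, hw, smul_smul, inv_mul_cancel₀ (hne _ _ _), one_smul]
  · exact Or.inr h

theorem share_row {β : MulAut PSLn} (hn : 2 ≤ n) (D : Images β) {i j k : Fin n} (hij : i ≠ j)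
    (hik : i ≠ k) (hjk : j ≠ k) :
    Par (D.v i j hij) (D.v i k hik) ∨ Par (D.a i j hij) (D.a i k hik) := by
  refine share p hn D hij hik (Matrix.SpecialLinearGroup.toGL (et j k hjk (-1))) ?_ ?_
  · refine sl_ext ?_
    rw [conjSL_coe, ← map_inv, Matrix.SpecialLinearGroup.coe_GL_coe_matrix,
      Matrix.SpecialLinearGroup.coe_GL_coe_matrix, et_eq_transvection (h := hjk),
      Matrix.SpecialLinearGroup.transvection_inv, ← et_eq_transvection, ← et_eq_transvection,
      Matrix.SpecialLinearGroup.coe_mul, et_coe, et_coe, et_coe, et_coe, neg_neg]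
    simp [mul_add, add_mul, Matrix.single_mul_single_of_ne, hij, hij.symm, hik, hik.symm, hjk, hjk.symm]
    ext a b
    simp [Matrix.single_apply]
    split_ifs <;> simp_all
  · exact commute_of_dot_eq_zero _ _ (by simp [hij.symm]) (by simp [hik.symm]) 1 1

theorem share_col {β : MulAut PSLn} (hn : 2 ≤ n) (D : Images β) {i j k : Fin n} (hij : i ≠ j)
    (hkj : k ≠ j) (hik : i ≠ k) :
    Par (D.v i j hij) (D.v k j hkj) ∨ Par (D.a i j hij) (D.a k j hkj) := by
  refine share p hn D hij hkj (Matrix.SpecialLinearGroup.toGL (et k i hik.symm 1)) ?_ ?_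
  · refine sl_ext ?_
    rw [conjSL_coe, ← map_inv, Matrix.SpecialLinearGroup.coe_GL_coe_matrix,
      Matrix.SpecialLinearGroup.coe_GL_coe_matrix, et_eq_transvection (h := hik.symm),
      Matrix.SpecialLinearGroup.transvection_inv, ← et_eq_transvection, ← et_eq_transvection,
      Matrix.SpecialLinearGroup.coe_mul, et_coe, et_coe, et_coe, et_coe]
    simp [mul_add, add_mul, Matrix.single_mul_single_of_ne, hij, hij.symm, hik, hik.symm, hkj, hkj.symm]
    ext a b
    simp [Matrix.single_apply]
    split_ifs <;> simp_all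
  · exact commute_of_dot_eq_zero _ _ (by simp [hkj.symm]) (by simp [hij.symm]) 1 1

/-- Images of a non-commuting pair are not orthogonal both ways. -/
theorem not_orth_adjacent {β : MulAut PSLn} (D : Images β) {i j k : Fin n} (hij : i ≠ j)
    (hjk : j ≠ k) (h1 : D.a i j hij ⬝ᵥ D.v j k hjk = 0) (h2 : D.a j k hjk ⬝ᵥ D.v i j hij = 0) :
    False := by
  have h := commute_of_dot_eq_zero (D.orth i j hij) (D.orth j k hjk) h1 h2
    (D.f i j hij 1) (D.f j k hjk 1)
  have hc : et i j hij (1 : F) * et j k hjk 1 = et j k hjk 1 * et i j hij 1 := by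
    refine proj_commute p (tvs_pow_char p _ _) ?_
    apply β.injective
    rw [map_mul, map_mul, D.spec, D.spec, ← map_mul, ← map_mul, h]
  have h3 := congrArg (fun M : SLn => (M : Mat) i k) hc
  simp [et_coe, mul_add, add_mul, Matrix.single_apply, hij, hij.symm, hjk, hjk.symm] at h3

theorem row_iff_col {β : MulAut PSLn} (hn : 2 ≤ n) (D : Images β) {i j k : Fin n} (hij : i ≠ j)
    (hik : i ≠ k) (hjk : j ≠ k) :
    Par (D.v i j hij) (D.v i k hik) ↔ Par (D.a i j hij) (D.a k j hjk.symm) := by
  constructor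
  · intro h
    refine (share_col p hn D hij hjk.symm hik).resolve_left fun h' => ?_
    have hp : Par (D.v i k hik) (D.v k j hjk.symm) := (h.symm (D.v_ne _ _ _)).trans h'
    exact not_orth_adjacent p D hik hjk.symm (par_dot (D.orth _ _ _) hp)
      (par_dot (D.orth _ _ _) (hp.symm (D.v_ne _ _ _)))
  · intro h
    refine (share_row p hn D hij hik hjk).resolve_right fun h' => ?_
    have hp : Par (D.a i k hik) (D.a k j hjk.symm) := (h'.symm (D.a_ne _ _ _)).trans h
    exact not_orth_adjacent p D hik hjk.symm (par_dot' (D.orth _ _ _) (hp.symm (D.a_ne _ _ _)))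
      (par_dot' (D.orth _ _ _) hp)

theorem row_rotate {β : MulAut PSLn} (hn : 2 ≤ n) (D : Images β) {i j k : Fin n} (hij : i ≠ j)
    (hik : i ≠ k) (hjk : j ≠ k) (h : Par (D.v i j hij) (D.v i k hik)) :
    Par (D.v k j hjk.symm) (D.v k i hik.symm) :=
  (row_iff_col p hn D hjk.symm hik.symm hij.symm).mpr
    (((row_iff_col p hn D hij hik hjk).mp h).symm (D.a_ne _ _ _))

theorem row_extend {β : MulAut PSLn} (hn : 2 ≤ n) (D : Images β) {i j k l : Fin n} (hij : i ≠ j)
    (hik : i ≠ k) (hil : i ≠ l) (hjk : j ≠ k) (h : Par (D.v i j hij) (D.v i k hik)) :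
    Par (D.v i j hij) (D.v i l hil) := by
  by_cases hlj : l = j
  · subst hlj; exact ⟨1, (one_smul _ _).symm⟩
  by_cases hlk : l = k
  · subst hlk; exact h
  refine (share_row p hn D hij hil (Ne.symm hlj)).resolve_right fun h' => ?_
  rcases share_row p hn D hik hil (Ne.symm hlk) with h2 | h2
  · exact not_par_both p D hij hil (fun e => hlj e.2.symm) (h.trans h2) h'
  · exact not_par_both p D hij hik (fun e => hjk e.2) h (h'.trans (h2.symm (D.a_ne _ _ _)))

theorem row_all {β : MulAut PSLn} (hn : 2 ≤ n) (D : Images β) {i j k : Fin n} (hij : i ≠ j)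
    (hik : i ≠ k) (hjk : j ≠ k) (h : Par (D.v i j hij) (D.v i k hik)) :
    ∀ i' l m (hl : i' ≠ l) (hm : i' ≠ m), Par (D.v i' l hl) (D.v i' m hm) := by
  have base : ∀ l m (hl : i ≠ l) (hm : i ≠ m), Par (D.v i l hl) (D.v i m hm) := fun l m hl hm =>
    ((row_extend p hn D hij hik hl hjk h).symm (D.v_ne _ _ _)).trans
      (row_extend p hn D hij hik hm hjk h)
  intro i' l m hl hm
  by_cases hi : i' = i
  · subst hi; exact base l m hl hm
  obtain ⟨t, hti, hti'⟩ : ∃ t, t ≠ i ∧ t ≠ i' := by
    rcases eq_or_ne j i' with rfl | hj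
    · exact ⟨k, hik.symm, hjk.symm⟩
    · exact ⟨j, hij.symm, hj⟩
  have h1 := row_rotate p hn D hti.symm (Ne.symm hi) hti' (base t i' hti.symm (Ne.symm hi))
  exact ((row_extend p hn D hti'.symm hi hl hti h1).symm (D.v_ne _ _ _)).trans
    (row_extend p hn D hti'.symm hi hm hti h1)

omit p in
theorem exists_ne_ne (hn : 3 ≤ n) (i : Fin n) : ∃ j k : Fin n, i ≠ j ∧ i ≠ k ∧ j ≠ k := by
  have h : 1 < (Finset.univ.erase i).card := by
    rw [Finset.card_erase_of_mem (Finset.mem_univ i), Finset.card_univ, Fintype.card_fin]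
    omega
  obtain ⟨j, hj, k, hk, hjk⟩ := Finset.one_lt_card.mp h
  exact ⟨j, k, (Finset.ne_of_mem_erase hj).symm, (Finset.ne_of_mem_erase hk).symm, hjk⟩

/-- After possibly composing with inverse transpose, rows share their centres. -/
theorem rowPoint_or (hn : 2 ≤ n) (β : MulAut PSLn) :
    RowPoint β ∨ (3 ≤ n ∧ RowPoint (β * invTr)) := by
  obtain ⟨D⟩ := nonempty_images p β hn
  by_cases h3 : 3 ≤ n
  swap
  · refine Or.inl ⟨D, fun i j k hj hk => ?_, fun i k j hi hk => ?_⟩
    · have : j = k := Fin.ext (by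
        have := Fin.val_ne_of_ne hj; have := Fin.val_ne_of_ne hk
        have := i.2; have := j.2; have := k.2; omega)
      subst this; exact ⟨1, (one_smul _ _).symm⟩
    · have : i = k := Fin.ext (by
        have := Fin.val_ne_of_ne hi; have := Fin.val_ne_of_ne hk
        have := i.2; have := j.2; have := k.2; omega)
      subst this; exact ⟨1, (one_smul _ _).symm⟩
  by_cases hP : ∀ i j k (hj : i ≠ j) (hk : i ≠ k), Par (D.v i j hj) (D.v i k hk)
  · refine Or.inl ⟨D, hP, fun i k j hi hk => ?_⟩
    by_cases hik : i = k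
    · subst hik; exact ⟨1, (one_smul _ _).symm⟩
    · exact (row_iff_col p hn D hi hik (Ne.symm hk)).mp (hP i j k hi hik)
  have hno : ∀ i j k (hij : i ≠ j) (hik : i ≠ k) (hjk : j ≠ k),
      ¬ Par (D.v i j hij) (D.v i k hik) := fun i j k hij hik hjk h => hP (row_all p hn D hij hik hjk h)
  refine Or.inr ⟨h3, ⟨fun i j h => D.v j i h.symm, fun i j h => D.a j i h.symm,
    fun i j h => D.orth j i h.symm, fun i j h c => D.f j i h.symm (-c),
    fun i j h => (D.bij j i h.symm).comp (Equiv.neg F).bijective, fun i j h => D.v_ne j i h.symm,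
    fun i j h => D.a_ne j i h.symm, fun i j h c => ?_⟩, fun i j k hj hk => ?_, fun i k j hi hk => ?_⟩
  · rw [MulAut.mul_apply, invTr_proj]
    exact (congrArg (fun x => β (proj x)) (invTrSL_tvs _ c)).trans (D.spec j i h.symm (-c))
  · show Par (D.v j i hj.symm) (D.v k i hk.symm)
    by_cases hjk : j = k
    · subst hjk; exact ⟨1, (one_smul _ _).symm⟩
    · exact (share_col p hn D hj.symm hk.symm hjk).resolve_right fun h' =>
        hno j i k hj.symm hjk hk ((row_iff_col p hn D hj.symm hjk hk).mpr h')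
  · show Par (D.a j i hi.symm) (D.a j k hk.symm)
    by_cases hik : i = k
    · subst hik; exact ⟨1, (one_smul _ _).symm⟩
    · exact (share_row p hn D hi.symm hk.symm hik).resolve_left
        (hno j i k hi.symm hk.symm hik)

theorem exists_diagonalise (hn : 2 ≤ n) {β : MulAut PSLn} (h : RowPoint β) :
    ∃ (g : GL (Fin n) F) (f : ∀ i j : Fin n, i ≠ j → F → F),
      (∀ i j h, Function.Bijective (f i j h)) ∧
      ∀ i j h c, (dia g * β) (proj (et i j h c)) = proj (et i j h (f i j h c)) := by
  obtain ⟨D, hv, ha⟩ := h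
  have : Nontrivial (Fin n) := Fin.nontrivial_iff_two_le.mpr hn
  choose o ho using fun i : Fin n => exists_ne i
  let v : Fin n → Fin n → F := fun i => D.v i (o i) (ho i).symm
  let a : Fin n → Fin n → F := fun j => D.a (o j) j (ho j)
  have pv : ∀ i j (h : i ≠ j), Par (v i) (D.v i j h) := fun i j h => hv i (o i) j _ h
  have pa : ∀ i j (h : i ≠ j), Par (a j) (D.a i j h) := fun i j h => ha (o j) i j _ h
  have h0 : ∀ i j, i ≠ j → a j ⬝ᵥ v i = 0 := fun i j h =>
    par_dot' (par_dot (D.orth i j h) ((pv i j h).symm (D.v_ne _ _ _))) ((pa i j h).symm (D.a_ne _ _ _))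
  have hor : ∀ j k, j ≠ k → a j ⬝ᵥ v j ≠ 0 ∨ a k ⬝ᵥ v k ≠ 0 := by
    intro j k hjk
    by_contra hc
    push Not at hc
    exact not_orth_adjacent p D hjk hjk.symm
      (par_dot (par_dot' hc.2 (pa j k hjk)) (pv k j hjk.symm))
      (par_dot (par_dot' hc.1 (pa k j hjk.symm)) (pv j k hjk))
  have hne : ∀ j, a j ⬝ᵥ v j ≠ 0 := by
    intro j hj
    by_cases h3 : 3 ≤ n
    · obtain ⟨i, k, hji, hjk, hik⟩ := exists_ne_ne h3 j
      exact not_orth_adjacent p D hji.symm hjk
        (par_dot (par_dot' hj (pa i j hji.symm)) (pv j k hjk))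
        (par_dot (par_dot' (h0 i k hik) (pa j k hjk)) (pv i j hji.symm))
    · obtain rfl : n = 2 := by omega
      have hk := (hor j (o j) (ho j).symm).resolve_left (not_not.mpr hj)
      set k := o j
      have hjk : j ≠ k := (ho j).symm
      have h01 : a j ⬝ᵥ v k = 0 := h0 k j hjk.symm
      have ha0 : a j ≠ 0 := D.a_ne _ _ _
      have hcr : ∀ l m, v j l * v k m = v j m * v k l := by
        rw [dotProduct, Fin.sum_univ_two] at hj h01
        have key : ∀ x y z w : F, a j 0 * x + a j 1 * y = 0 → a j 0 * z + a j 1 * w = 0 → x * w = y * z := by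
          intro x y z w e1 e2
          by_cases h0' : a j 0 = 0
          · have h1' : a j 1 ≠ 0 := fun h1' => ha0 (funext fun l => by fin_cases l <;> assumption)
            have hy : y = 0 := by simpa [h0', h1'] using e1
            have hw : w = 0 := by simpa [h0', h1'] using e2
            rw [hy, hw]; ring
          · refine mul_left_cancel₀ h0' ?_
            linear_combination w * e1 - y * e2
        have := key _ _ _ _ hj h01
        intro l m
        fin_cases l <;> fin_cases m <;> simp only [Fin.zero_eta, Fin.mk_one] <;>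
          first | rfl | linear_combination this | linear_combination -this
      have hp : Par (v j) (v k) := par_of_cross_eq_zero (D.v_ne _ _ _) hcr
      exact hk (par_dot (h0 j k hjk) hp)
  let A : Mat := Matrix.of a
  let G : Mat := (Matrix.of v).transpose
  have hAG : A * G = Matrix.diagonal (fun j => a j ⬝ᵥ v j) := by
    ext j i
    rw [Matrix.mul_apply]
    show a j ⬝ᵥ v i = _
    by_cases hji : j = i
    · subst hji; rw [Matrix.diagonal_apply_eq]
    · rw [Matrix.diagonal_apply_ne _ hji, h0 i j (Ne.symm hji)]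
  have hdet : G.det ≠ 0 := by
    intro h
    have := congrArg Matrix.det hAG
    rw [Matrix.det_mul, h, mul_zero, Matrix.det_diagonal, eq_comm, Finset.prod_eq_zero_iff] at this
    obtain ⟨j, -, hj⟩ := this
    exact hne j hj
  let g : GL (Fin n) F := Matrix.GeneralLinearGroup.mkOfDetNeZero G hdet
  have hge : ∀ i, (g : Mat) *ᵥ Pi.single i 1 = v i := fun i => by
    rw [Matrix.mulVec_single_one]; rfl
  have hinv : ∀ i, ((g⁻¹ : GL (Fin n) F) : Mat) *ᵥ v i = Pi.single i 1 := fun i => by
    rw [← hge i, Matrix.mulVec_mulVec, ← Units.val_mul, inv_mul_cancel, Units.val_one,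
      Matrix.one_mulVec]
  have hag : ∀ j, a j ᵥ* (g : Mat) = Pi.single j (a j ⬝ᵥ v j) := by
    intro j
    funext i
    have := congrFun (congrFun hAG j) i
    rw [Matrix.mul_apply] at this
    refine this.trans ?_
    simp [Matrix.diagonal_apply, Pi.single_apply, eq_comm]
  choose c hc using pv
  choose d hd using pa
  refine ⟨g⁻¹, fun i j h x => D.f i j h x * (c i j h * (d i j h * (a j ⬝ᵥ v j))),
    fun i j h => ?_, fun i j h x => ?_⟩
  · refine (mul_left_injective₀ (mul_ne_zero ?_ (mul_ne_zero ?_ (hne j)))).comp (D.bij i j h).1 |>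
      Finite.injective_iff_bijective.mp
    · intro e; exact D.v_ne i j h (by rw [hc i j h, e, zero_smul])
    · intro e; exact D.a_ne i j h (by rw [hd i j h, e, zero_smul])
  · rw [MulAut.mul_apply, D.spec, dia_proj, conjSL_tvs]
    refine congrArg proj (tvs_congr ?_)
    rw [inv_inv, hc, hd, Matrix.mulVec_smul, hinv, Matrix.smul_vecMul, hag, smul_vecMulVec,
      vecMulVec_smul, smul_smul, smul_smul]
    ext r s
    simp [vecMulVec_apply, Pi.single_apply]
    split_ifs <;> ring

omit p

/-- Diagonal elements of `GL`. -/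
def diagGL (d : Fin n → Fˣ) : GL (Fin n) F where
  val := Matrix.diagonal fun i => (d i : F)
  inv := Matrix.diagonal fun i => (((d i)⁻¹ : Fˣ) : F)
  val_inv := by rw [Matrix.diagonal_mul_diagonal, ← Matrix.diagonal_one]; congr 1; funext i; simp
  inv_val := by rw [Matrix.diagonal_mul_diagonal, ← Matrix.diagonal_one]; congr 1; funext i; simp

theorem conjSL_diagGL (d : Fin n → Fˣ) {i j : Fin n} (h : i ≠ j) (c : F) :
    conjSL (diagGL d) (et i j h c) = et i j h ((d i : F) * c * (((d j)⁻¹ : Fˣ) : F)) := by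
  refine sl_ext ?_
  rw [conjSL_coe, et_coe, et_coe]
  show Matrix.diagonal _ * _ * Matrix.diagonal _ = _
  rw [mul_add, add_mul, mul_one, Matrix.diagonal_mul_diagonal]
  congr 1
  · rw [← Matrix.diagonal_one]; congr 1; funext k; simp
  · ext k l
    simp [Matrix.single_apply]
    split_ifs with h' <;> simp_all

include p

theorem et_add_image {β : MulAut PSLn} {f : ∀ i j : Fin n, i ≠ j → F → F}
    (h : ∀ i j hij c, β (proj (et i j hij c)) = proj (et i j hij (f i j hij c))) (i j : Fin n)
    (hij : i ≠ j) (x y : F) : f i j hij (x + y) = f i j hij x + f i j hij y := by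
  refine et_injective hij (eq_of_proj_eq p (tvs_pow_char p _ _) (tvs_pow_char p _ _) ?_)
  rw [← h, et_add, map_mul, map_mul, h, h, ← map_mul, ← et_add]

theorem commutator_image {β : MulAut PSLn} {f : ∀ i j : Fin n, i ≠ j → F → F}
    (h : ∀ i j hij c, β (proj (et i j hij c)) = proj (et i j hij (f i j hij c))) {i j k : Fin n}
    (hij : i ≠ j) (hjk : j ≠ k) (hik : i ≠ k) (a b : F) :
    f i k hik (a * b) = f i j hij a * f j k hjk b := by
  have key : ∀ a b : F, et i j hij a * et j k hjk b * (et i j hij a)⁻¹ * (et j k hjk b)⁻¹ =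
      et i k hik (a * b) := by
    intro a b
    rw [et_eq_transvection, et_eq_transvection, et_eq_transvection]
    exact (commutatorElement_def _ _).symm.trans (Classical.commutator_transvection hij hjk hik a b)
  refine et_injective hik (eq_of_proj_eq p (tvs_pow_char p _ _) (tvs_pow_char p _ _) ?_)
  rw [← h, ← key a b, ← key (f i j hij a) (f j k hjk b)]
  simp only [map_mul, map_inv, h]

/-- Two-dimensional case: the two functions are tied together. -/
theorem two_dim_relation {β : MulAut PSLn} {f : ∀ i j : Fin n, i ≠ j → F → F}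
    (h : ∀ i j hij c, β (proj (et i j hij c)) = proj (et i j hij (f i j hij c))) (i j : Fin n)
    (hij : i ≠ j) (hb : Function.Bijective (f j i hij.symm)) {a y : F} (ha : a ≠ 0) (hy : y ≠ 0) :
    f i j hij (-(a ^ 2 * y)) = -(f i j hij a ^ 2 * f j i hij.symm y) := by
  have key : ∀ a y b x : F, et i j hij a * et j i hij.symm y * et i j hij (-a) =
      et j i hij.symm b * et i j hij x * et j i hij.symm (-b) →
      (1 + a * y = 1 - x * b ∧ -(a ^ 2 * y) = x) := by
    intro a y b x e
    have e' := congrArg (fun M : SLn => (M : Mat)) e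
    simp only [Matrix.SpecialLinearGroup.coe_mul, et_coe] at e'
    have h1 := congrFun (congrFun e' i) i
    have h2 := congrFun (congrFun e' i) j
    simp [mul_add, add_mul, Matrix.single_apply, hij, hij.symm] at h1 h2
    constructor
    · linear_combination h1
    · linear_combination h2
  have hrel : et i j hij a * et j i hij.symm y * et i j hij (-a) =
      et j i hij.symm a⁻¹ * et i j hij (-(a ^ 2 * y)) * et j i hij.symm (-a⁻¹) := by
    refine sl_ext ?_
    simp only [Matrix.SpecialLinearGroup.coe_mul, et_coe, add_mul, mul_add, one_mul, mul_one,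
      Matrix.single_mul_single_same, Matrix.single_mul_single_of_ne _ _ _ _ hij,
      Matrix.single_mul_single_of_ne _ _ _ _ hij.symm, zero_mul, mul_zero, add_zero, zero_add]
    ext r s
    simp only [Matrix.add_apply, Matrix.one_apply, Matrix.single_apply]
    rcases eq_or_ne r i with rfl | hri
    · rcases eq_or_ne s r with rfl | hsi
      · simp [hij, hij.symm]
        field_simp
      · rcases eq_or_ne s j with rfl | hsj
        · simp [hij, hij.symm]
          field_simp
        · simp [hij, hij.symm, hsi, hsj, hsi.symm, hsj.symm]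
    · rcases eq_or_ne r j with rfl | hrj
      · rcases eq_or_ne s i with rfl | hsi
        · simp [hij, hij.symm]
          field_simp
        · rcases eq_or_ne s r with rfl | hsj
          · simp [hij, hij.symm]
            field_simp
          · simp [hij, hij.symm, hsi, hsi.symm, hsj, hsj.symm]
      · simp [hri.symm, hrj.symm, Ne.symm]
  have himg := congrArg (fun z => β (proj z)) hrel
  simp only [map_mul, h] at himg
  have hneg : ∀ (k l : Fin n) (hkl : k ≠ l) (x : F), f k l hkl (-x) = -f k l hkl x := fun k l hkl x =>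
    map_neg (AddMonoidHom.mk' (f k l hkl) (et_add_image p h k l hkl)) x
  rw [← map_mul, ← map_mul, ← map_mul, ← map_mul, hneg i j hij a, hneg j i hij.symm a⁻¹] at himg
  have hp : ∀ (x : SLn) (c : F) (k l : Fin n) (hkl : k ≠ l), (x * et k l hkl c * x⁻¹) ^ p = 1 := by
    intro x c k l hkl
    rw [conj_pow, et, tvs_pow_char p]
    simp
  have hi : ∀ (k l : Fin n) (hkl : k ≠ l) (c : F), et k l hkl (-c) = (et k l hkl c)⁻¹ :=
    fun k l hkl c => (inv_eq_of_mul_eq_one_right (by rw [← et_add, add_neg_cancel, et, tvs_zero])).symm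
  have e := eq_of_proj_eq p (by rw [hi]; exact hp _ _ _ _ _) (by rw [hi]; exact hp _ _ _ _ _) himg
  exact (key _ _ _ _ e).2.symm

theorem exists_field (hn : 2 ≤ n) {β : MulAut PSLn} {f : ∀ i j : Fin n, i ≠ j → F → F}
    (hb : ∀ i j h, Function.Bijective (f i j h))
    (h : ∀ i j hij c, β (proj (et i j hij c)) = proj (et i j hij (f i j hij c))) :
    ∃ (d : Fin n → Fˣ) (σ : F ≃+* F), dia (diagGL d) * β = fld σ := by
  have hadd := et_add_image p h
  have hzero : ∀ i j hij, f i j hij 0 = 0 := fun i j hij =>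
    map_zero (AddMonoidHom.mk' (f i j hij) (hadd i j hij))
  have hne : ∀ i j hij, f i j hij 1 ≠ 0 := fun i j hij e =>
    one_ne_zero ((hb i j hij).1 (e.trans (hzero i j hij).symm))
  set z := fstIdx hn with hz
  set l := lastIdx hn with hl
  have hzl : z ≠ l := fstIdx_ne_lastIdx hn
  by_cases h3 : 3 ≤ n
  · let d : Fin n → Fˣ := fun i =>
      if e : i = z then 1 else (Units.mk0 _ (hne i z e))⁻¹
    let F' : ∀ i j : Fin n, i ≠ j → F → F := fun i j hij c =>
      (d i : F) * f i j hij c * (((d j)⁻¹ : Fˣ) : F)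
    have h' : ∀ i j hij c, (dia (diagGL d) * β) (proj (et i j hij c)) = proj (et i j hij (F' i j hij c)) :=
      fun i j hij c => by rw [MulAut.mul_apply, h, dia_proj, conjSL_diagGL]
    have h0 : ∀ i (hi : i ≠ z), F' i z hi 1 = 1 := fun i hi => by
      simp [F', d, dif_neg hi, inv_mul_cancel₀ (hne i z hi)]
    have hall : ∀ i k (hik : i ≠ k), F' i k hik 1 = 1 := by
      have hstep : ∀ i k (hik : i ≠ k), i ≠ z → k ≠ z → F' i k hik 1 = 1 := fun i k hik hi hk => by
        have := commutator_image p h' hik hk hi 1 1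
        rw [one_mul, h0 i hi, h0 k hk, mul_one] at this
        exact this.symm
      intro i k hik
      by_cases hk : k = z
      · subst hk; exact h0 i hik
      by_cases hi : i = z
      · subst hi
        obtain ⟨x, y, hzx, hzy, hxy⟩ := exists_ne_ne h3 z
        obtain ⟨w, hwz, hwk⟩ : ∃ w, w ≠ z ∧ w ≠ k := by
          rcases eq_or_ne x k with rfl | hx
          · exact ⟨y, hzy.symm, hxy.symm⟩
          · exact ⟨x, hzx.symm, hx⟩
        have := commutator_image p h' hwz hik hwk 1 1
        rw [one_mul, hstep w k hwk hwz hk, h0 w hwz, one_mul] at this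
        exact this.symm
      · exact hstep i k hik hi hk
    have hrow : ∀ i j k (hij : i ≠ j) (hik : i ≠ k) a, F' i j hij a = F' i k hik a := by
      intro i j k hij hik a
      by_cases hjk : j = k
      · subst hjk; rfl
      · have := commutator_image p h' hij hjk hik a 1
        rw [mul_one, hall j k hjk, mul_one] at this
        exact this.symm
    have hcol : ∀ i j k (hij : i ≠ j) (hkj : k ≠ j) a, F' i j hij a = F' k j hkj a := by
      intro i j k hij hkj a
      by_cases hik : i = k
      · subst hik; rfl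
      · have := commutator_image p h' hik hkj hij 1 a
        rwa [one_mul, hall i k hik, one_mul] at this
    let σ₀ := F' z l hzl
    have heq : ∀ i j (hij : i ≠ j) a, F' i j hij a = σ₀ a := by
      intro i j hij a
      obtain ⟨m, -, hmi, hmz⟩ : ∃ m, True ∧ m ≠ i ∧ m ≠ z := by
        obtain ⟨x, y, hix, hiy, hxy⟩ := exists_ne_ne h3 i
        rcases eq_or_ne x z with rfl | hx
        · exact ⟨y, trivial, hiy.symm, hxy.symm⟩
        · exact ⟨x, trivial, hix.symm, hx⟩
      rw [hrow i j m hij hmi.symm, hcol i m z hmi.symm hmz.symm, hrow z m l hmz.symm hzl]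
    have hmul : ∀ a b, σ₀ (a * b) = σ₀ a * σ₀ b := by
      intro a b
      obtain ⟨x, y, hzx, hzy, hxy⟩ := exists_ne_ne h3 z
      rw [← heq z y hzy, commutator_image p h' hzx hxy hzy, heq, heq]
    have hσb : Function.Bijective σ₀ := by
      refine Finite.injective_iff_bijective.mp fun a b e => (hb z l hzl).1 ?_
      have hd := mul_right_cancel₀ (Units.ne_zero (d l)⁻¹) e
      exact mul_left_cancel₀ (Units.ne_zero (d z)) hd
    let σ : F ≃+* F :=
      { Equiv.ofBijective σ₀ hσb with
        map_mul' := hmul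
        map_add' := et_add_image p h' z l hzl }
    refine ⟨d, σ, ?_⟩
    rw [← inv_mul_eq_one]
    refine eq_one_of_fix_et fun i j hij c => ?_
    rw [MulAut.mul_apply]
    have e : (dia (diagGL d) * β) (proj (et i j hij c)) = fld σ (proj (et i j hij c)) := by
      rw [h', heq, fld_proj]
      refine congrArg proj (sl_ext ?_)
      rw [et_coe, slCongr_coe, et_coe]
      ext r s
      simp [Matrix.one_apply, Matrix.single_apply, apply_ite σ]
      rfl
    rw [← e]
    exact (MulEquiv.symm_apply_apply _ _)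
  · obtain rfl : n = 2 := by omega
    let u := Units.mk0 _ (hne z l hzl)
    let d : Fin 2 → Fˣ := fun i => if i = z then 1 else u
    let F' : ∀ i j : Fin 2, i ≠ j → F → F := fun i j hij c =>
      (d i : F) * f i j hij c * (((d j)⁻¹ : Fˣ) : F)
    have h' : ∀ i j hij c, (dia (diagGL d) * β) (proj (et i j hij c)) = proj (et i j hij (F' i j hij c)) :=
      fun i j hij c => by rw [MulAut.mul_apply, h, dia_proj, conjSL_diagGL]
    have hb' : Function.Bijective (F' l z hzl.symm) := Finite.injective_iff_bijective.mp fun a b e =>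
      (hb l z hzl.symm).1 (mul_left_cancel₀ (Units.ne_zero (d l)) (mul_right_cancel₀ (Units.ne_zero (d z)⁻¹) e))
    set σ₀ := F' z l hzl with hσ₀
    set τ := F' l z hzl.symm with hτ
    have h1 : σ₀ 1 = 1 := by simp [hσ₀, F', d, hzl.symm, u, mul_inv_cancel₀ (hne z l hzl)]
    have hadd0 : ∀ a b, σ₀ (a + b) = σ₀ a + σ₀ b := et_add_image p h' z l hzl
    have hneg : ∀ a, σ₀ (-a) = -σ₀ a := map_neg (AddMonoidHom.mk' σ₀ hadd0)
    have h00 : σ₀ 0 = 0 := map_zero (AddMonoidHom.mk' σ₀ hadd0)
    have hrel : ∀ a y, a ≠ 0 → y ≠ 0 → σ₀ (a ^ 2 * y) = σ₀ a ^ 2 * τ y := by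
      intro a y ha hy
      have := two_dim_relation p h' z l hzl hb' ha hy
      rw [← hσ₀, ← hτ, hneg] at this
      exact neg_injective this
    have hτσ : ∀ y, τ y = σ₀ y := by
      intro y
      by_cases hy : y = 0
      · rw [hy, h00]; exact map_zero (AddMonoidHom.mk' τ (et_add_image p h' l z hzl.symm))
      · have := hrel 1 y one_ne_zero hy
        rwa [one_pow, one_mul, h1, one_pow, one_mul, eq_comm] at this
    have hsq : ∀ a y, σ₀ (a ^ 2 * y) = σ₀ a ^ 2 * σ₀ y := by
      intro a y
      by_cases ha : a = 0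
      · subst ha; simp [h00]
      by_cases hy : y = 0
      · subst hy; simp [h00]
      rw [hrel a y ha hy, hτσ]
    have hmul : ∀ a b, σ₀ (a * b) = σ₀ a * σ₀ b := by
      intro a b
      by_cases h2 : (2 : F) = 0
      · haveI : CharP F 2 := CharTwo.of_one_ne_zero_of_two_eq_zero one_ne_zero h2
        obtain ⟨r, rfl⟩ : IsSquare a := FiniteField.isSquare_of_char_two (ringChar.eq F 2) a
        have hr := hsq r 1
        rw [h1, mul_one, mul_one, sq, sq] at hr
        have := hsq r b
        rw [sq, sq] at this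
        rw [this, hr]
      · have e := hsq (a + b) 1
        have ea := hsq a 1
        have eb := hsq b 1
        rw [h1, mul_one, mul_one] at e ea eb
        rw [add_sq, hadd0, hadd0, hadd0, show 2 * a * b = a * b + a * b by ring, hadd0, ea, eb] at e
        refine mul_left_cancel₀ h2 ?_
        linear_combination e
    have hσb : Function.Bijective σ₀ := by
      refine Finite.injective_iff_bijective.mp fun a b e => (hb z l hzl).1 ?_
      exact mul_left_cancel₀ (Units.ne_zero (d z)) (mul_right_cancel₀ (Units.ne_zero (d l)⁻¹) e)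
    let σ : F ≃+* F :=
      { Equiv.ofBijective σ₀ hσb with
        map_mul' := hmul
        map_add' := hadd0 }
    refine ⟨d, σ, ?_⟩
    rw [← inv_mul_eq_one]
    refine eq_one_of_fix_et fun i j hij c => ?_
    rw [MulAut.mul_apply]
    have e : (dia (diagGL d) * β) (proj (et i j hij c)) = fld σ (proj (et i j hij c)) := by
      have hF : F' i j hij c = σ₀ c := by
        fin_cases i <;> fin_cases j <;> first | exact absurd rfl hij | rfl | exact hτσ c
      rw [h', hF, fld_proj]
      refine congrArg proj (sl_ext ?_)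
      rw [et_coe, slCongr_coe, et_coe]
      ext r s
      simp [Matrix.one_apply, Matrix.single_apply, apply_ite σ]
      rfl
    rw [← e]
    exact (MulEquiv.symm_apply_apply _ _)

/-- **The automorphism theorem for `PSL_n(q)`.** -/
theorem decomposition (hn : 2 ≤ n) (β : MulAut PSLn) :
    ∃ (g : GL (Fin n) F) (σ : F ≃+* F),
      β = dia g * fld σ ∨ (3 ≤ n ∧ β = dia g * fld σ * invTr) := by
  have main : ∀ α : MulAut PSLn, RowPoint α → ∃ g σ, α = dia g * fld σ := by
    intro α hα
    obtain ⟨g, f, hb, hf⟩ := exists_diagonalise p hn hα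
    obtain ⟨d, σ, hσ⟩ := exists_field p hn hb hf
    refine ⟨(diagGL d * g)⁻¹, σ, ?_⟩
    rw [map_inv, eq_inv_mul_iff_mul_eq, map_mul, mul_assoc, hσ]
  rcases rowPoint_or p hn β with h | ⟨h3, h⟩
  · obtain ⟨g, σ, e⟩ := main β h
    exact ⟨g, σ, Or.inl e⟩
  · obtain ⟨g, σ, e⟩ := main _ h
    exact ⟨g, σ, Or.inr ⟨h3, by rw [← e, mul_assoc, invTr_mul_self, mul_one]⟩⟩

end Cfsg.Agent.Lib.Classical.AutPSL
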