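import Cfsg.Agent.Lib.Classical.AutPSL.FieldClass
import Cfsg.Agent.Lib.KnownA.Singer

/-!
Automorphisms of `PSL_n(q)`, part 8: the largest element order in `Aut(PSL_n(q))`.
-/

set_option autoImplicit false

namespace Cfsg.Agent.Lib.Classical.AutPSL

open Matrix

variable {n : ℕ} {F : Type*} [Field F] [Fintype F]

local notation "PSLn" => Matrix.ProjectiveSpecialLinearGroup (Fin n) F
local notation "Mat" => Matrix (Fin n) (Fin n) F

theorem scalar_coe (a : Fˣ) :
    ((GeneralLinearGroup.scalar (Fin n) a : GL (Fin n) F) : Mat) = algebraMap F Mat (a : F) := rfl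

theorem scalar_mul_coe (a : Fˣ) (u : GL (Fin n) F) :
    ((GeneralLinearGroup.scalar (Fin n) a * u : GL (Fin n) F) : Mat) = (a : F) • (u : Mat) := by
  rw [Units.val_mul, scalar_coe, Algebra.smul_def]

/-- An element killed by a monic polynomial of degree `m` over a subfield `K`. -/
theorem bound_of_poly (p : ℕ) [Fact p.Prime] [CharP F p] (hn : 2 ≤ n) (P : GL (Fin n) F)
    (K : Subfield F) (f : Polynomial K) (hf : f.Monic) {m : ℕ} (hfm : f.natDegree ≤ m)
    (h0 : Polynomial.aeval (P : Mat) f = 0) :
    (Nat.card K - 1) * orderOf (dia (n := n) P : MulAut PSLn) ≤ Nat.card K ^ m - 1 := by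
  classical
  haveI := Fintype.ofFinite K
  set N := orderOf (dia (n := n) P : MulAut PSLn) with hN
  let r : ℕ → Polynomial K := fun i => Polynomial.X ^ i %ₘ f
  have hr : ∀ i, Polynomial.aeval (P : Mat) (r i) = ((P ^ i : GL (Fin n) F) : Mat) := fun i => by
    have := congrArg (Polynomial.aeval (P : Mat)) (Polynomial.modByMonic_add_div (Polynomial.X ^ i) f)
    simp only [map_add, map_mul, h0, zero_mul, add_zero, map_pow, Polynomial.aeval_X] at this
    rw [Units.val_pow_eq_pow_val]; exact this
  have hn0 : NeZero n := ⟨by omega⟩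
  have hM0 : ∀ u : GL (Fin n) F, (u : Mat) ≠ 0 := fun u => u.ne_zero
  have hm0 : ∀ i, r i ≠ 0 := fun i h => hM0 (P ^ i) (by rw [← hr i, h, map_zero])
  have hf0 : f ≠ 1 := fun h => by
    rw [h, map_one] at h0; exact hM0 1 h0
  have hdeg : ∀ i, (r i).natDegree < m := fun i =>
    lt_of_lt_of_le (Polynomial.natDegree_modByMonic_lt _ hf hf0) hfm
  let c : Fin N × Kˣ → {v : Fin m → K // v ≠ 0} := fun x =>
    ⟨fun j => (x.2 : K) * (r x.1).coeff j, fun h => hm0 x.1 (Polynomial.ext fun j => by
      by_cases hj : j < m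
      · simpa using congrFun h ⟨j, hj⟩
      · rw [Polynomial.coeff_zero]
        exact Polynomial.coeff_eq_zero_of_natDegree_lt (lt_of_lt_of_le (hdeg _) (by omega)))⟩
  have hc : Function.Injective c := by
    rintro ⟨i, a⟩ ⟨j, b⟩ h
    have h' := congrArg Subtype.val h
    have hpoly : Polynomial.C (a : K) * r i = Polynomial.C (b : K) * r j := Polynomial.ext fun k => by
      rw [Polynomial.coeff_C_mul, Polynomial.coeff_C_mul]
      by_cases hk : k < m
      · exact congrFun h' ⟨k, hk⟩
      · rw [Polynomial.coeff_eq_zero_of_natDegree_lt (lt_of_lt_of_le (hdeg i) (by omega)),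
          Polynomial.coeff_eq_zero_of_natDegree_lt (lt_of_lt_of_le (hdeg j) (by omega)), mul_zero, mul_zero]
    have hu : GeneralLinearGroup.scalar (Fin n) (Units.map (K.subtype : K →* F) a) * P ^ (i : ℕ) =
        GeneralLinearGroup.scalar (Fin n) (Units.map (K.subtype : K →* F) b) * P ^ (j : ℕ) := by
      refine Units.ext ?_
      have := congrArg (Polynomial.aeval (P : Mat)) hpoly
      rw [map_mul, map_mul, Polynomial.aeval_C, Polynomial.aeval_C, hr, hr] at this
      rw [Units.val_mul, Units.val_mul, scalar_coe, scalar_coe]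
      exact this
    have hd := congrArg (dia (n := n)) hu
    rw [map_mul, map_mul, dia_center (scalar_mem_center _), dia_center (scalar_mem_center _),
      one_mul, one_mul, map_pow, map_pow] at hd
    obtain rfl : i = j := Fin.ext (pow_injOn_Iio_orderOf i.2 j.2 hd)
    have ha : Units.map (K.subtype : K →* F) a = Units.map (K.subtype : K →* F) b :=
      scalar_injective (show 1 ≤ n by omega) (mul_right_cancel hu)
    rw [Units.map_injective (f := (K.subtype : K →* F)) Subtype.val_injective ha]
  have h := Nat.card_le_card_of_injective c hc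
  rw [Nat.card_prod, Nat.card_fin, Nat.card_units, Nat.card_eq_fintype_card (α := {v : Fin m → K // v ≠ 0}),
    Fintype.card_subtype_compl, Fintype.card_subtype_eq, Fintype.card_fun, Fintype.card_fin,
    ← Nat.card_eq_fintype_card, mul_comm] at h
  exact h

theorem le_geom {s N d : ℕ} (hs : 2 ≤ s) (h : (s - 1) * N ≤ s ^ d - 1) :
    N ≤ ∑ i ∈ Finset.range d, s ^ i := by
  have e := geom_sum_mul_add (s - 1) d
  rw [show s - 1 + 1 = s by omega] at e
  refine Nat.le_of_mul_le_mul_left (h.trans (le_of_eq ?_)) (show 0 < s - 1 by omega)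
  rw [mul_comm]
  omega

theorem orderOf_le_mul {G : Type*} [Group G] [Finite G] (x : G) {k : ℕ} (hk : 0 < k) {y : G}
    (h : x ^ k = y) : orderOf x ≤ k * orderOf y := by
  refine Nat.le_of_dvd (Nat.mul_pos hk (orderOf_pos y)) (orderOf_dvd_of_pow_eq_one ?_)
  rw [pow_mul, h, pow_orderOf_eq_one]

theorem four_mul_le_two_pow {m : ℕ} (hm : 4 ≤ m) : 4 * m ≤ 2 ^ m := by
  induction m, hm using Nat.le_induction with
  | base => norm_num
  | succ k hk ih => rw [pow_succ]; omega

theorem galProd_succ' (σ : F ≃+* F) (g : GL (Fin n) F) (k : ℕ) :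
    galProd σ g (k + 1) = galProd σ g k * galGL (σ ^ k) g := by
  induction k with
  | zero =>
    show g * galGL σ 1 = 1 * _
    rw [map_one, mul_one, one_mul]
    exact Units.ext (Matrix.ext fun a b => rfl)
  | succ k ih =>
    show g * galGL σ (galProd σ g (k + 1)) = g * galGL σ (galProd σ g k) * _
    conv_lhs => rw [ih, map_mul, ← mul_assoc]
    congr 1
    refine Units.ext (Matrix.ext fun a b => ?_)
    rw [pow_succ']; rfl

theorem exists_fixed_subfield (σ : F ≃+* F) :
    ∃ K : Subfield F, (∀ a, a ∈ K ↔ σ a = a) ∧ Nat.card K ^ orderOf σ = Fintype.card F := by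
  classical
  let H := Subgroup.zpowers σ
  haveI : Finite (F ≃+* F) := Finite.of_injective (fun e : F ≃+* F => (e : F → F)) DFunLike.coe_injective
  haveI : Fintype H := Fintype.ofFinite _
  refine ⟨FixedPoints.subfield H F, fun a => ⟨fun h => h ⟨σ, Subgroup.mem_zpowers σ⟩, fun h τ => ?_⟩, ?_⟩
  · exact (Subgroup.zpowers_le.mpr (show σ ∈ MulAction.stabilizer (F ≃+* F) a from h)) τ.2
  · have hrank : Module.finrank (FixedPoints.subfield H F) F = orderOf σ := by
      rw [FixedPoints.finrank_eq_card H F, ← Nat.card_eq_fintype_card, Nat.card_zpowers]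
    rw [← hrank, ← Nat.card_eq_fintype_card (α := F)]
    exact (Module.natCard_eq_pow_finrank (K := FixedPoints.subfield H F) (V := F)).symm

/-- Field type: the element is bounded over the fixed field. -/
theorem bound_field (p : ℕ) [Fact p.Prime] [CharP F p] (hn : 2 ≤ n) (σ : F ≃+* F) (g : GL (Fin n) F) :
    ∃ s : ℕ, 2 ≤ s ∧ s ^ orderOf σ = Fintype.card F ∧
      orderOf (dia g * outerPart (σ, 1) : MulAut PSLn) ≤ orderOf σ * ∑ i ∈ Finset.range n, s ^ i := by
  classical
  haveI : Finite (F ≃+* F) := Finite.of_injective (fun e : F ≃+* F => (e : F → F)) DFunLike.coe_injective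
  obtain ⟨K, hK, hcard⟩ := exists_fixed_subfield σ
  have hs2 : 2 ≤ Nat.card K := Finite.one_lt_card
  refine ⟨Nat.card K, hs2, hcard, ?_⟩
  set k := orderOf σ
  have hσk : σ ^ k = 1 := pow_orderOf_eq_one σ
  set P := galProd σ g k
  have hx : (dia g * outerPart (σ, 1) : MulAut PSLn) ^ k = dia P := by
    rw [dia_mul_outerPart_pow, galProd_eq_twistProd,
      show ((σ, 1) : (F ≃+* F) × Multiplicative (ZMod 2)) ^ k = 1 from Prod.ext hσk (one_pow k),
      map_one, mul_one]
  have hcomm : g * galGL σ P = P * g := by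
    show galProd σ g (k + 1) = _
    rw [galProd_succ', hσk]
    congr 1
  have hconj : (P : Mat).map σ = ((g⁻¹ : GL (Fin n) F) : Mat) * (P : Mat) * ((g : GL (Fin n) F) : Mat) := by
    rw [← Units.val_mul, ← Units.val_mul, mul_assoc, ← hcomm, inv_mul_cancel_left, galGL_coe]
  have hfix : ∀ i, σ ((P : Mat).charpoly.coeff i) = (P : Mat).charpoly.coeff i := by
    intro i
    have h := Matrix.charpoly_map (P : Mat) σ.toRingHom
    rw [show ((P : Mat).map σ.toRingHom) = (P : Mat).map σ from rfl, hconj, Matrix.coe_units_inv, Matrix.charpoly_units_conj'] at h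
    have h2 := congrArg (fun q : Polynomial F => q.coeff i) h
    simp only [Polynomial.coeff_map] at h2
    exact h2.symm
  have hco : ((P : Mat).charpoly.coeffs : Set F) ⊆ K.toSubring := by
    intro a ha
    obtain ⟨i, -, rfl⟩ := Polynomial.mem_coeffs_iff.mp ha
    exact (hK _).mpr (hfix i)
  set f : Polynomial K.toSubring := (P : Mat).charpoly.toSubring K.toSubring hco
  have hb := bound_of_poly p hn P K f ((Polynomial.monic_toSubring _ _ _).mpr (Matrix.charpoly_monic _))
    (m := n) (by
      rw [Polynomial.natDegree_toSubring, Matrix.charpoly_natDegree_eq_dim, Fintype.card_fin]) (by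
      rw [← Polynomial.aeval_map_algebraMap F]
      rw [show f.map (algebraMap K F) = (P : Mat).charpoly from Polynomial.map_toSubring _ _ _]
      exact Matrix.aeval_self_charpoly _)
  have hN := le_geom hs2 hb
  have hxk : orderOf (dia g * outerPart (σ, 1) : MulAut PSLn) ≤ k * orderOf (dia (n := n) P : MulAut PSLn) :=
    orderOf_le_mul _ (orderOf_pos σ) hx
  exact hxk.trans (Nat.mul_le_mul_left k hN)

theorem pred_pow_bound (j : ℕ) (hj : 1 ≤ j) :
    2 * j ^ j + (if j = 1 then 0 else 1) ≤ (j + 1) ^ j := by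
  split_ifs with h
  · subst h; norm_num
  · have hjj : 2 ≤ j := by omega
    have h4 : (({j - 1, j} : Finset ℕ).sum fun m => j ^ m * 1 ^ (j - m) * j.choose m) + 1 ≤
        (j + 1) ^ j := by
      rw [add_pow (R := ℕ) j 1 j]
      simp only [Nat.cast_id]
      refine le_trans ?_ (Finset.sum_le_sum_of_subset (s := {0, j - 1, j}) fun x hx => ?_)
      · rw [Finset.sum_insert (a := 0) (by simp; omega)]
        simp [add_comm]
      · simp only [Finset.mem_insert, Finset.mem_singleton] at hx
        rw [Finset.mem_range]; omega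
    rw [Finset.sum_pair (by omega)] at h4
    have hc : j.choose (j - 1) = j := by
      rw [Nat.choose_symm (show 1 ≤ j by omega), Nat.choose_one_right]
    simp only [one_pow, mul_one, Nat.choose_self, hc] at h4
    rw [← pow_succ, show j - 1 + 1 = j by omega] at h4
    omega

/-- Graph type with field part of order at most two. -/
theorem bound_gra_two (p : ℕ) [Fact p.Prime] [CharP F p] (hn : 3 ≤ n)
    (h32 : ¬ (n = 3 ∧ Fintype.card F = 2)) {σ : F ≃+* F} (hσ : σ ^ 2 = 1) (g : GL (Fin n) F) :
    2 * orderOf (dia (g * twist (σ, gra) g) : MulAut PSLn) ≤ ∑ i ∈ Finset.range n, Fintype.card F ^ i := by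
  classical
  have hn2 : 2 ≤ n := by omega
  set q := Fintype.card F with hqd
  have hq2 : 2 ≤ q := Fintype.one_lt_card
  set τ := twist (n := n) (σ, gra)
  set P := g * τ g with hP
  set N := orderOf (dia (n := n) P : MulAut PSLn) with hN
  have hτP : τ P = g⁻¹ * P * g := by
    rw [hP, map_mul, show τ (τ g) = g from twist_gra_gra hσ g]; group
  -- it is enough to bound `(q - 1) * N`
  suffices hmain : 2 * ((q - 1) * N) ≤ q ^ n - 1 by
    refine le_geom hq2 (le_trans (le_of_eq ?_) hmain)
    ring
  haveI : Nonempty (Fin n) := ⟨⟨0, by omega⟩⟩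
  set Z := Subgroup.center (GL (Fin n) F)
  set A := Algebra.adjoin F ({(P : Mat)} : Set Mat)
  let S : Subgroup (GL (Fin n) F) :=
    { carrier := {u | (u : Mat) ∈ A}
      mul_mem' := fun {a b} ha hb => by
        show ((a * b : GL (Fin n) F) : Mat) ∈ A
        rw [Units.val_mul]; exact mul_mem ha hb
      one_mem' := by
        show ((1 : GL (Fin n) F) : Mat) ∈ A
        rw [Units.val_one]; exact one_mem A
      inv_mem' := fun {a} ha => by
        show ((a⁻¹ : GL (Fin n) F) : Mat) ∈ A
        have e : a⁻¹ = a ^ (orderOf a - 1) := by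
          refine inv_eq_of_mul_eq_one_left ?_
          rw [← pow_succ, Nat.sub_add_cancel (orderOf_pos a), pow_orderOf_eq_one]
        rw [e, Units.val_pow_eq_pow_val]; exact pow_mem ha _ }
  have hS : ∀ u : GL (Fin n) F, u ∈ S ↔ (u : Mat) ∈ A := fun u => Iff.rfl
  haveI : Z.Normal := by infer_instance
  set H := Subgroup.zpowers P ⊔ Z with hH
  have hHS : H ≤ S := by
    refine sup_le (Subgroup.zpowers_le.mpr ((hS _).mpr (Algebra.self_mem_adjoin_singleton F _))) ?_
    intro u hu
    simp only [Z, GeneralLinearGroup.center_eq_range_scalar] at hu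
    obtain ⟨c, rfl⟩ := hu
    exact (hS _).mpr (by rw [scalar_coe]; exact Subalgebra.algebraMap_mem A _)
  have hNH : (q - 1) * N ≤ Nat.card H := by
    let ι : Fˣ × Fin N → H := fun x => ⟨GeneralLinearGroup.scalar (Fin n) x.1 * P ^ (x.2 : ℕ),
      mul_mem (Subgroup.mem_sup_right (scalar_mem_center _))
        (Subgroup.mem_sup_left (Subgroup.npow_mem_zpowers P _))⟩
    have hι : Function.Injective ι := by
      rintro ⟨a, i⟩ ⟨b, j⟩ h
      have hu := congrArg Subtype.val h
      have hd := congrArg (dia (n := n)) hu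
      simp only [ι] at hu hd
      rw [map_mul, map_mul, dia_center (scalar_mem_center _), dia_center (scalar_mem_center _),
        one_mul, one_mul, map_pow, map_pow] at hd
      obtain rfl : i = j := Fin.ext (pow_injOn_Iio_orderOf i.2 j.2 hd)
      rw [scalar_injective (show 1 ≤ n by omega) (mul_right_cancel hu)]
    have h := Nat.card_le_card_of_injective ι hι
    rwa [Nat.card_prod, Nat.card_fin, Nat.card_units, Nat.card_eq_fintype_card (α := F)] at h
  -- polynomial representatives in the algebra
  set χ := (P : Mat).charpoly with hχ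
  have hrep : ∀ u ∈ S, ∃ r : Polynomial F, r.natDegree < n ∧ Polynomial.aeval (P : Mat) r = (u : Mat) := by
    intro u hu
    have hu' := (hS u).mp hu
    rw [show A = (Polynomial.aeval (R := F) (P : Mat)).range from
      Algebra.adjoin_singleton_eq_range_aeval F _] at hu'
    obtain ⟨f, hf⟩ := hu'
    refine ⟨f %ₘ χ, ?_, ?_⟩
    · have hd : χ.natDegree = n := by rw [hχ, Matrix.charpoly_natDegree_eq_dim, Fintype.card_fin]
      refine lt_of_lt_of_eq (Polynomial.natDegree_modByMonic_lt _ (Matrix.charpoly_monic _) ?_) hd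
      intro h; rw [hχ] at hd; rw [hχ] at h; rw [h, Polynomial.natDegree_one] at hd; omega
    · have := congrArg (Polynomial.aeval (P : Mat)) (Polynomial.modByMonic_add_div f χ)
      rw [map_add, map_mul, Matrix.aeval_self_charpoly, zero_mul, add_zero] at this
      rw [this]; exact hf
  have hSle : Nat.card S + 1 ≤ q ^ n := by
    choose r hr hrM using hrep
    let c : S → {v : Fin n → F // v ≠ 0} := fun u => ⟨fun j => (r u.1 u.2).coeff j, fun h => by
      have h0 : r u.1 u.2 = 0 := Polynomial.ext fun j => by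
        by_cases hj : j < n
        · simpa using congrFun h ⟨j, hj⟩
        · rw [Polynomial.coeff_zero]
          exact Polynomial.coeff_eq_zero_of_natDegree_lt (lt_of_lt_of_le (hr _ _) (by omega))
      exact u.1.ne_zero (by rw [← hrM u.1 u.2, h0, map_zero])⟩
    have hc : Function.Injective c := by
      intro u v h
      have h' := congrArg Subtype.val h
      have e : r u.1 u.2 = r v.1 v.2 := Polynomial.ext fun j => by
        by_cases hj : j < n
        · exact congrFun h' ⟨j, hj⟩
        · rw [Polynomial.coeff_eq_zero_of_natDegree_lt (lt_of_lt_of_le (hr u.1 u.2) (by omega)),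
            Polynomial.coeff_eq_zero_of_natDegree_lt (lt_of_lt_of_le (hr v.1 v.2) (by omega))]
      exact Subtype.ext (Units.ext (by rw [← hrM u.1 u.2, e, hrM v.1 v.2]))
    have h := Nat.card_le_card_of_injective c hc
    rw [Nat.card_eq_fintype_card (α := {v : Fin n → F // v ≠ 0}), Fintype.card_subtype_compl,
      Fintype.card_subtype_eq, Fintype.card_fun, Fintype.card_fin, ← hqd] at h
    have : 0 < q ^ n := pow_pos (by omega) n
    omega
  rcases eq_or_lt_of_le hHS with heq | hlt
  swap
  · have hdvd := Subgroup.card_dvd_of_le hlt.le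
    have hne : Nat.card H ≠ Nat.card S := fun e => hlt.ne (Subgroup.eq_of_le_of_card_ge hlt.le e.ge)
    obtain ⟨t, ht⟩ := hdvd
    have hSpos : 0 < Nat.card S := Nat.card_pos
    have ht2 : 2 ≤ t := by
      rcases t with _ | _ | t
      · omega
      · exact absurd (by rw [ht]; ring) hne
      · omega
    have := Nat.mul_le_mul_left (Nat.card H) ht2
    omega
  by_cases hc : ∃ c : Fˣ, ((P : Mat) + algebraMap F Mat (c : F)).det ≠ 0
  · -- a translate is a unit, hence a scalar times a power of `P`
    obtain ⟨c, hc⟩ := hc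
    set u := GeneralLinearGroup.mkOfDetNeZero _ hc
    have hu : u ∈ H := by
      rw [heq, hS]
      exact add_mem (Algebra.self_mem_adjoin_singleton F _) (Subalgebra.algebraMap_mem A _)
    obtain ⟨v, ⟨z, rfl⟩, w, hw, huv⟩ := Subgroup.mem_sup_of_normal_right.mp hu
    simp only [Z, GeneralLinearGroup.center_eq_range_scalar] at hw
    obtain ⟨a, rfl⟩ := hw
    simp only at huv
    have hcent : ∀ (d : Fˣ) (x : GL (Fin n) F), x * GeneralLinearGroup.scalar (Fin n) d =
        GeneralLinearGroup.scalar (Fin n) d * x := fun d x =>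
      Subgroup.mem_center_iff.mp (scalar_mem_center d) x
    set b := Units.map (σ : F →* F) a
    have hJ : g * (τ u)⁻¹ * g⁻¹ = GeneralLinearGroup.scalar (Fin n) b * (P ^ z)⁻¹ := by
      rw [← huv, map_mul, map_zpow, hτP, show τ (GeneralLinearGroup.scalar (Fin n) a) = _ from
        twist_gra_scalar σ a, show g⁻¹ * P * g = MulAut.conj g⁻¹ P by simp [MulAut.conj_apply],
        ← map_zpow, _root_.mul_inv_rev, map_inv, inv_inv]
      simp only [MulAut.conj_apply, inv_inv, _root_.mul_inv_rev]
      calc g * (GeneralLinearGroup.scalar (Fin n) b * (g⁻¹ * ((P ^ z)⁻¹ * g))) * g⁻¹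
          = g * GeneralLinearGroup.scalar (Fin n) b * g⁻¹ * (P ^ z)⁻¹ := by group
        _ = _ := by rw [hcent b g, mul_inv_cancel_right]
    have hprod : u * (g * (τ u)⁻¹ * g⁻¹) = GeneralLinearGroup.scalar (Fin n) (a * b) := by
      rw [hJ, ← huv, hcent a, map_mul]
      calc GeneralLinearGroup.scalar (Fin n) a * P ^ z * (GeneralLinearGroup.scalar (Fin n) b * (P ^ z)⁻¹)
          = GeneralLinearGroup.scalar (Fin n) a * (P ^ z * GeneralLinearGroup.scalar (Fin n) b) * (P ^ z)⁻¹ := by
            group
        _ = _ := by rw [hcent b, ← mul_assoc, mul_assoc, mul_inv_cancel, mul_one]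
    have hinv : ∀ x : GL (Fin n) F, (((τ x)⁻¹ : GL (Fin n) F) : Mat) = ((x : Mat)ᵀ).map σ := by
      intro x
      show (((twist (σ, gra) x)⁻¹ : GL (Fin n) F) : Mat) = _
      rw [twist_gra, ← map_inv (galGL σ), galGL_coe, itGL_inv_coe]
    have hJP : (g : Mat) * ((P : Mat)ᵀ).map σ * ((g⁻¹ : GL (Fin n) F) : Mat) =
        ((P⁻¹ : GL (Fin n) F) : Mat) := by
      rw [← hinv, ← Units.val_mul, ← Units.val_mul, hτP]
      congr 1
      group
    set σc := σ (c : F)
    have hJu : ((g * (τ u)⁻¹ * g⁻¹ : GL (Fin n) F) : Mat) =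
        ((P⁻¹ : GL (Fin n) F) : Mat) + algebraMap F Mat σc := by
      rw [Units.val_mul, Units.val_mul, hinv, ← hJP]
      show (g : Mat) * (((P : Mat) + algebraMap F Mat (c : F))ᵀ.map σ) * _ = _
      rw [Matrix.transpose_add, Matrix.map_add σ (map_add σ),
        show (((algebraMap F Mat (c : F))ᵀ).map σ) = algebraMap F Mat σc by
          rw [Matrix.algebraMap_eq_diagonal, Matrix.diagonal_transpose, Matrix.diagonal_map (map_zero σ),
            Matrix.algebraMap_eq_diagonal]
          rfl,
        mul_add, add_mul, ← Algebra.commutes σc (g : Mat), mul_assoc (algebraMap F Mat σc),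
        ← Units.val_mul, mul_inv_cancel, Units.val_one, mul_one]
    have hq' := congrArg (fun x : GL (Fin n) F => (x : Mat) * (P : Mat)) hprod
    simp only [Units.val_mul u, hJu, scalar_coe] at hq'
    rw [show (u : Mat) = (P : Mat) + algebraMap F Mat (c : F) from rfl, mul_assoc, add_mul _ (algebraMap F Mat σc),
      ← Units.val_mul, inv_mul_cancel, Units.val_one] at hq'
    have hσc : σc ≠ 0 := fun h => c.ne_zero (σ.injective (h.trans (map_zero σ).symm))
    let f : Polynomial F := Polynomial.C σc⁻¹ * ((Polynomial.X + Polynomial.C (c : F)) *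
        (1 + Polynomial.C σc * Polynomial.X) - Polynomial.C (((a * b : Fˣ) : F)) * Polynomial.X)
    have hf0 : Polynomial.aeval (P : Mat) f = 0 := by
      simp only [f, map_mul, map_sub, map_add, Polynomial.aeval_X, Polynomial.aeval_C, map_one]
      rw [hq', Units.val_mul, map_mul, sub_self, mul_zero]
    have hfe : f = Polynomial.X ^ 2 + Polynomial.C (σc⁻¹ * (1 + (c : F) * σc - ((a * b : Fˣ) : F))) * Polynomial.X +
        Polynomial.C (σc⁻¹ * (c : F)) := by
      have h1 : Polynomial.C σc⁻¹ * Polynomial.C σc = 1 := by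
        rw [← map_mul, inv_mul_cancel₀ hσc, map_one]
      simp only [f, map_mul, map_sub, map_add, map_one]
      linear_combination (Polynomial.X ^ 2) * h1
    have hfm : f.Monic := by rw [hfe]; monicity!
    have hfd : f.natDegree ≤ 2 := by rw [hfe]; compute_degree!
    have hb := bound_of_poly p hn2 P ⊤ (f.map (Subfield.topEquiv (K := F)).symm.toRingHom)
      (hfm.map _) (m := 2) (Polynomial.natDegree_map_le.trans hfd) (by
        rw [← Polynomial.aeval_map_algebraMap F, Polynomial.map_map]
        convert hf0 using 2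
        refine Polynomial.ext fun i => ?_
        rw [Polynomial.coeff_map]; rfl)
    rw [Nat.card_congr (Subfield.topEquiv (K := F)).toEquiv, Nat.card_eq_fintype_card, ← hqd, ← hN] at hb
    have h3 : q ^ 3 ≤ q ^ n := Nat.pow_le_pow_right (by omega) hn
    have h4 : 2 * q ^ 2 ≤ q ^ 3 := by
      rw [show q ^ 3 = q * q ^ 2 by ring]
      exact Nat.mul_le_mul_right _ hq2
    have : 0 < q ^ 2 := pow_pos (by omega) 2
    omega
  · -- every non-zero scalar is an eigenvalue
    push Not at hc
    have hroot : ∀ x : Fˣ, Polynomial.eval (x : F) χ = 0 := by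
      intro x
      rw [hχ, Matrix.eval_charpoly]
      have h := hc (-x)
      rw [Units.val_neg, map_neg, ← sub_eq_add_neg] at h
      rw [← neg_sub, Matrix.det_neg]
      rw [show Matrix.scalar (Fin n) (x : F) = algebraMap F Mat (x : F) from rfl, h, mul_zero]
    set j := q - 1 with hj
    have hjcard : (Finset.univ : Finset Fˣ).card = j := by
      rw [Finset.card_univ, Fintype.card_units]
    have hjn : j ≤ n := by
      have h := Polynomial.card_le_degree_of_subset_roots (p := χ)
        (Z := Finset.univ.map ⟨fun x : Fˣ => (x : F), Units.val_injective⟩) (by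
          intro x hx
          rw [Finset.mem_val, Finset.mem_map] at hx
          obtain ⟨y, -, rfl⟩ := hx
          rw [Polynomial.mem_roots (Matrix.charpoly_monic _).ne_zero]
          exact hroot y)
      rwa [Finset.card_map, hjcard, hχ, Matrix.charpoly_natDegree_eq_dim, Fintype.card_fin] at h
    have hne : ∀ (r : Polynomial F) (u : GL (Fin n) F) (x : Fˣ),
        Polynomial.aeval (P : Mat) r = (u : Mat) → r.eval (x : F) ≠ 0 := by
      intro r u x h h0
      obtain ⟨s, rfl⟩ := Polynomial.dvd_iff_isRoot.mpr h0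
      have h1 := congrArg Matrix.det h
      rw [map_mul, map_sub, Polynomial.aeval_X, Polynomial.aeval_C, Matrix.det_mul] at h1
      have h2 := hc (-x)
      rw [Units.val_neg, map_neg, ← sub_eq_add_neg] at h2
      rw [h2, zero_mul] at h1
      exact (GeneralLinearGroup.det u).ne_zero h1.symm
    set π : Polynomial F := Polynomial.X ^ j - 1
    have hj0 : j ≠ 0 := by omega
    have hπm : π.Monic := Polynomial.monic_X_pow_sub_C 1 hj0
    have hπd : π.natDegree = j := Polynomial.natDegree_X_pow_sub_C
    have hπ : ∀ x : Fˣ, π.eval (x : F) = 0 := fun x => by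
      rw [Polynomial.eval_sub, Polynomial.eval_pow, Polynomial.eval_X, Polynomial.eval_one, sub_eq_zero]
      exact FiniteField.pow_card_sub_one_eq_one _ x.ne_zero
    have hScard : Nat.card S ≤ j ^ j * q ^ (n - j) := by
      choose r hr hrM using hrep
      let c : S → (Fˣ → Fˣ) × (Fin (n - j) → F) := fun u =>
        (fun x => Units.mk0 _ (hne _ _ x (hrM u.1 u.2)), fun i => (r u.1 u.2 /ₘ π).coeff i)
      have hcinj : Function.Injective c := by
        intro u v h
        have h1 := congrArg Prod.fst h
        have h2 := congrArg Prod.snd h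
        have hquo : r u.1 u.2 /ₘ π = r v.1 v.2 /ₘ π := Polynomial.ext fun i => by
          by_cases hi : i < n - j
          · exact congrFun h2 ⟨i, hi⟩
          · have hb : ∀ w : S, (r w.1 w.2 /ₘ π).coeff i = 0 := fun w => by
              by_cases hz : r w.1 w.2 /ₘ π = 0
              · rw [hz, Polynomial.coeff_zero]
              · refine Polynomial.coeff_eq_zero_of_natDegree_lt ?_
                rw [Polynomial.natDegree_divByMonic _ hπm, hπd]
                have := hr w.1 w.2
                have hjle : π.natDegree ≤ (r w.1 w.2).natDegree := by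
                  by_contra hlt'
                  exact hz ((Polynomial.divByMonic_eq_zero_iff hπm).mpr
                    (Polynomial.degree_lt_degree (by omega)))
                omega
            rw [hb u, hb v]
        have hsub : r u.1 u.2 - r v.1 v.2 = r u.1 u.2 %ₘ π - r v.1 v.2 %ₘ π := by
          conv_lhs => rw [← Polynomial.modByMonic_add_div (r u.1 u.2) π,
            ← Polynomial.modByMonic_add_div (r v.1 v.2) π, hquo]
          abel
        have hd : (r u.1 u.2 - r v.1 v.2).natDegree < j := by
          rw [hsub]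
          have hπ1 : π ≠ 1 := fun e => by rw [e, Polynomial.natDegree_one] at hπd; omega
          exact lt_of_le_of_lt (Polynomial.natDegree_sub_le _ _)
            (max_lt (hπd ▸ Polynomial.natDegree_modByMonic_lt _ hπm hπ1)
              (hπd ▸ Polynomial.natDegree_modByMonic_lt _ hπm hπ1))
        have h0 : r u.1 u.2 - r v.1 v.2 = 0 := by
          refine Polynomial.eq_zero_of_natDegree_lt_card_of_eval_eq_zero _ (f := fun x : Fˣ => (x : F))
            Units.val_injective (fun x => ?_) (by rw [Fintype.card_units]; exact hd)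
          have := congrArg Units.val (congrFun h1 x)
          simp only [c, Units.val_mk0] at this
          rw [Polynomial.eval_sub, this, sub_self]
        exact Subtype.ext (Units.ext (by rw [← hrM u.1 u.2, sub_eq_zero.mp h0, hrM v.1 v.2]))
      have h := Nat.card_le_card_of_injective c hcinj
      rwa [Nat.card_prod, Nat.card_fun, Nat.card_fun, Nat.card_units, Nat.card_fin,
        Nat.card_eq_fintype_card (α := F), ← hqd] at h
    have hqn : q ^ j * q ^ (n - j) = q ^ n := by rw [← pow_add, Nat.add_sub_cancel' hjn]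
    have hHS' : Nat.card H = Nat.card S := by rw [heq]
    have hqpos : 0 < q ^ (n - j) := pow_pos (by omega) _
    have hpb := pred_pow_bound j (by omega)
    rw [show j + 1 = q by omega] at hpb
    by_cases hq : q = 2
    · -- over the field of two elements
      have hj1 : j = 1 := by omega
      rw [hj1, one_pow, one_mul, hq] at hScard
      rw [hj1, one_mul] at hNH
      rw [hj1, one_mul, hq]
      have hn1 : 2 * 2 ^ (n - 1) = 2 ^ n := by rw [← pow_succ', show n - 1 + 1 = n by omega]
      by_cases hlt : Nat.card S < 2 ^ (n - 1)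
      · omega
      have hcS : Nat.card S = 2 ^ (n - 1) := by omega
      have hPS : P ∈ S := (hS _).mpr (Algebra.self_mem_adjoin_singleton F _)
      have hdvd : orderOf P ∣ 2 ^ (n - 1) := by
        rw [← hcS, ← Subgroup.orderOf_mk P hPS]
        exact orderOf_dvd_natCard _
      haveI : CharP F 2 := charP_of_card_eq_prime_pow (f := 1) (by rw [pow_one, ← hqd, hq])
      haveI : Nonempty (Fin n) := ⟨⟨0, by omega⟩⟩
      have hpow : (P : Mat) ^ 2 ^ (n - 1) = 1 := by
        rw [← Units.val_pow_eq_pow_val, orderOf_dvd_iff_pow_eq_one.mp hdvd, Units.val_one]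
      have hnil : IsNilpotent ((P : Mat) - 1) := ⟨2 ^ (n - 1), by
        rw [sub_pow_char_pow_of_commute _ _ (Commute.one_right _), one_pow, hpow, sub_self]⟩
      have hnn : ((P : Mat) - 1) ^ n = 0 := by
        obtain ⟨m, hm⟩ := hnil
        have h := (Matrix.isNilpotent_charpoly_sub_pow_of_isNilpotent (⟨m, hm⟩ : IsNilpotent ((P : Mat) - 1)))
        have h2 := Matrix.aeval_self_charpoly ((P : Mat) - 1)
        rw [sub_eq_zero.mp h.eq_zero, map_pow, Polynomial.aeval_X, Fintype.card_fin] at h2
        exact h2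
      set t := Nat.clog 2 n with ht
      have hnt : n ≤ 2 ^ t := Nat.le_pow_clog one_lt_two n
      have htn : 2 ^ (t - 1) < n := Nat.pow_pred_clog_lt_self one_lt_two (by omega)
      have ht1 : 1 ≤ t := Nat.clog_pos one_lt_two (by omega)
      have hPt : P ^ 2 ^ t = 1 := by
        refine Units.ext ?_
        rw [Units.val_pow_eq_pow_val, Units.val_one, ← sub_eq_zero]
        have h := pow_eq_zero_of_le hnt hnn
        rw [sub_pow_char_pow_of_commute _ _ (Commute.one_right _), one_pow] at h
        exact h
      have hNt : N ≤ 2 ^ t := by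
        refine Nat.le_of_dvd (pow_pos two_pos t) (orderOf_dvd_of_pow_eq_one ?_)
        rw [← map_pow, hPt, map_one]
      have h2t : 2 ^ t = 2 * 2 ^ (t - 1) := by rw [← pow_succ', show t - 1 + 1 = t by omega]
      have h4 : 4 ≤ n := by
        by_contra h
        exact h32 ⟨by omega, hq⟩
      have h4n : 4 * n ≤ 2 ^ n := four_mul_le_two_pow h4
      omega
    · rw [if_neg (show j ≠ 1 by omega)] at hpb
      have h1 := Nat.mul_le_mul_right (q ^ (n - j)) hpb
      rw [add_mul, one_mul, mul_assoc, hqn] at h1
      omega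

theorem sum_ineq_field {s e n : ℕ} (hs : 2 ≤ s) (he : 1 ≤ e) (hn : 2 ≤ n)
    (hx : ¬ (s = 2 ∧ e = 2 ∧ n = 2)) :
    e * ∑ i ∈ Finset.range n, s ^ i ≤ ∑ i ∈ Finset.range n, (s ^ e) ^ i := by
  rcases Nat.eq_or_lt_of_le he with rfl | he2
  · simp
  obtain ⟨m, rfl⟩ : ∃ m, n = m + 2 := ⟨n - 2, by omega⟩
  have hbig : ∀ i, 2 ≤ i → e * s ^ i + e ≤ (s ^ e) ^ i := by
    intro i hi
    have h1 : s ^ e = s * s ^ (e - 1) := by rw [← pow_succ', show e - 1 + 1 = e by omega]
    have h2 : e ≤ 2 ^ (e - 1) := by
      have := Nat.lt_two_pow_self (n := e - 1)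
      omega
    have h3 : 2 ^ (e - 1) ≤ s ^ (e - 1) := Nat.pow_le_pow_left hs _
    have h4 : 2 * s ^ (e - 1) ≤ (s ^ (e - 1)) ^ i := by
      refine le_trans ?_ (Nat.pow_le_pow_right (by omega) hi)
      rw [sq]
      exact Nat.mul_le_mul_right _ (le_trans (by omega) (h2.trans h3))
    have hsi : 1 ≤ s ^ i := Nat.one_le_pow _ _ (by omega)
    rw [h1, mul_pow]
    calc e * s ^ i + e ≤ e * s ^ i + e * s ^ i := by nlinarith
      _ = s ^ i * (2 * e) := by ring
      _ ≤ _ := Nat.mul_le_mul_left _ (le_trans (Nat.mul_le_mul_left 2 (h2.trans h3)) h4)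
  have hlin : e * s ≤ s ^ e := by
    have h2 : e ≤ 2 ^ (e - 1) := by
      have := Nat.lt_two_pow_self (n := e - 1)
      omega
    calc e * s ≤ s ^ (e - 1) * s := Nat.mul_le_mul_right s (h2.trans (Nat.pow_le_pow_left hs _))
      _ = s ^ e := by rw [← pow_succ, show e - 1 + 1 = e by omega]
  rcases m with _ | m
  · simp only [Finset.sum_range_succ, Finset.sum_range_zero, pow_zero, pow_one, zero_add]
    rcases Nat.lt_or_ge 2 e with he3 | he3
    · have h3e : 3 * e ≤ 2 ^ e + 1 := by
        clear hlin hbig hx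
        induction e, he3 using Nat.le_induction with
        | base => norm_num
        | succ k hk ih =>
          have := ih (by omega) (by omega)
          rw [pow_succ]; omega
      have h1 : 2 ^ (e - 1) ≤ s ^ (e - 1) := Nat.pow_le_pow_left hs _
      have h2 : s ^ e = s * s ^ (e - 1) := by rw [← pow_succ', show e - 1 + 1 = e by omega]
      have h4 : 2 ^ e = 2 * 2 ^ (e - 1) := by rw [← pow_succ', show e - 1 + 1 = e by omega]
      have h5 := Nat.mul_le_mul_left s h1
      obtain ⟨t, rfl⟩ : ∃ t, s = t + 2 := ⟨s - 2, by omega⟩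
      have h6 : e ≤ 2 ^ (e - 1) := by omega
      have h7 := Nat.mul_le_mul_left t h6
      nlinarith
    · obtain rfl : e = 2 := by omega
      have : 3 ≤ s := by
        by_contra hh
        exact hx ⟨by omega, rfl, rfl⟩
      nlinarith
  · clear hx hn
    induction m with
    | zero =>
      norm_num [Finset.sum_range_succ]
      have := hbig 2 le_rfl
      rw [mul_add, mul_add, mul_one]
      omega
    | succ m ih =>
      rw [Finset.sum_range_succ, Finset.sum_range_succ (n := m + 1 + 2), mul_add]
      have := hbig (m + 1 + 2) (by omega)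
      simp only [show m + 1 + 2 = m + 3 from rfl] at *
      omega

theorem sum_ineq_gra {s k n : ℕ} (hs : 2 ≤ s) (hk : 2 ≤ k) (hn : 3 ≤ n) (hx : k = 2 → 3 ≤ s) :
    2 * (k * ∑ i ∈ Finset.range n, s ^ i) ≤ ∑ i ∈ Finset.range n, (s ^ k) ^ i := by
  have hk4 : 4 * k ≤ (s ^ (k - 1)) ^ 2 := by
    rcases Nat.eq_or_lt_of_le hk with rfl | hk3
    · have := hx rfl
      norm_num
      nlinarith
    · have h : 4 * k ≤ (2 ^ (k - 1)) ^ 2 := by
        clear hx hk hs
        induction k, hk3 using Nat.le_induction with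
        | base => norm_num
        | succ j hj ih =>
          rw [show j + 1 - 1 = (j - 1) + 1 by omega, pow_succ 2 (j - 1), mul_pow]
          omega
      exact h.trans (Nat.pow_le_pow_left (Nat.pow_le_pow_left hs _) 2)
  have hsk : s ^ k = s * s ^ (k - 1) := by rw [← pow_succ', show k - 1 + 1 = k by omega]
  have hstep : ∀ i, 2 ≤ i → 4 * k * s ^ i ≤ (s ^ k) ^ i := fun i hi => by
    rw [hsk, mul_pow, mul_comm]
    exact Nat.mul_le_mul_left _ (hk4.trans (Nat.pow_le_pow_right (Nat.one_le_pow _ _ (by omega)) hi))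
  induction n, hn using Nat.le_induction with
  | base =>
    simp only [Finset.sum_range_succ, Finset.sum_range_zero, pow_zero, pow_one, zero_add]
    have h2 := hstep 2 le_rfl
    have h1 : 1 + s ≤ s ^ 2 := by nlinarith
    have h1' := Nat.mul_le_mul_left (2 * k) h1
    have e : 2 * (k * (1 + s + s ^ 2)) = 2 * k * (1 + s) + 2 * k * s ^ 2 := by ring
    have e2 : 4 * k * s ^ 2 = 2 * k * s ^ 2 + 2 * k * s ^ 2 := by ring
    omega
  | succ j hj ih =>
    rw [Finset.sum_range_succ, Finset.sum_range_succ, mul_add, mul_add]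
    have h2 := hstep j (by omega)
    have : 2 * (k * s ^ j) ≤ 4 * k * s ^ j := by
      rw [← mul_assoc]; exact Nat.mul_le_mul_right _ (by omega)
    omega

theorem max_order (p : ℕ) [Fact p.Prime] [CharP F p] (hn : 2 ≤ n)
    (h24 : ¬ (n = 2 ∧ Fintype.card F = 4)) (h32 : ¬ (n = 3 ∧ Fintype.card F = 2)) :
    (∀ φ : MulAut PSLn, (Fintype.card F - 1) * orderOf φ ≤ Fintype.card F ^ n - 1) ∧
    ∃ φ : MulAut PSLn, (Fintype.card F - 1) * orderOf φ = Fintype.card F ^ n - 1 := by
  classical
  haveI : Finite (F ≃+* F) := Finite.of_injective (fun e : F ≃+* F => (e : F → F)) DFunLike.coe_injective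
  set q := Fintype.card F with hqd
  have hq2 : 2 ≤ q := Fintype.one_lt_card
  have hgeom : ∀ N, N ≤ ∑ i ∈ Finset.range n, q ^ i → (q - 1) * N ≤ q ^ n - 1 := by
    intro N h
    have e := geom_sum_mul_add (q - 1) n
    rw [show q - 1 + 1 = q by omega] at e
    refine (Nat.mul_le_mul_left _ h).trans (le_of_eq ?_)
    rw [mul_comm]; omega
  refine ⟨fun φ => hgeom _ ?_, ?_⟩
  · have key : ∀ (σ : F ≃+* F) (g : GL (Fin n) F),
        orderOf (dia g * outerPart (σ, 1) : MulAut PSLn) ≤ ∑ i ∈ Finset.range n, q ^ i := by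
      intro σ g
      obtain ⟨s, hs, hsq, h⟩ := bound_field p hn σ g
      rw [← hsq] at hqd
      rw [hqd]
      refine h.trans (sum_ineq_field hs (orderOf_pos σ) hn fun ⟨a, b, c⟩ => h24 ⟨c, ?_⟩)
      rw [hqd, a, b]; rfl
    obtain ⟨g, σ, e | ⟨h3, e⟩⟩ := decomposition p hn φ
    · rw [e, ← outerPart_one]; exact key σ g
    · rw [e, mul_assoc, ← outerPart_gra]
      have hx2 : (dia g * outerPart (σ, gra) : MulAut PSLn) ^ 2 =
          dia (g * twist (σ, gra) g) * outerPart (σ ^ 2, 1) := by
        rw [dia_mul_outerPart_pow]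
        congr 3
        · show g * twist _ (g * twist _ 1) = _
          rw [map_one, mul_one]
        · exact Prod.ext rfl (by show gra ^ 2 = 1; rw [sq, gra_mul_gra])
      by_cases hσ : σ ^ 2 = 1
      · rw [hσ, outerPart_one] at hx2
        have h1 : fld (n := n) (1 : F ≃+* F) = 1 := map_one _
        rw [h1, mul_one] at hx2
        exact (orderOf_le_mul _ two_pos hx2).trans (bound_gra_two p h3 h32 hσ g)
      · obtain ⟨s, hs, hsq, h⟩ := bound_field p hn (σ ^ 2) (g * twist (σ, gra) g)
        refine (orderOf_le_mul _ two_pos hx2).trans ((Nat.mul_le_mul_left 2 h).trans ?_)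
        rw [show q = s ^ orderOf (σ ^ 2) by rw [hsq]]
        set k := orderOf (σ ^ 2) with hk
        have hk1 : k ≠ 1 := fun e => hσ (orderOf_eq_one_iff.mp e)
        have hk0 : 0 < k := orderOf_pos _
        refine sum_ineq_gra hs (by omega) h3 fun hk2 => ?_
        by_contra hs3
        obtain rfl : s = 2 := by omega
        obtain ⟨f, hf⟩ : ∃ f, q = p ^ f := by
          obtain ⟨f, -, hf⟩ := FiniteField.card F p
          exact ⟨f, hf⟩
        rw [hk2] at hsq
        obtain ⟨rfl, rfl⟩ : p = 2 ∧ f = 2 := by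
          have hp : p.Prime := Fact.out
          have he : 2 ^ 2 = p ^ f := hsq.trans hf
          have hpd : p ∣ 2 ^ 2 := by
            refine he ▸ dvd_pow_self p ?_
            rintro rfl; simp at he
          have : p = 2 := (Nat.prime_dvd_prime_iff_eq hp Nat.prime_two).mp (hp.dvd_of_dvd_pow hpd)
          subst this
          exact ⟨rfl, (Nat.pow_right_injective le_rfl he).symm⟩
        have hgal := (gal_cyclic_card (F := F) (p := 2) (f := 2) hf).2
        have : σ ^ 2 = 1 := by rw [← hgal]; exact pow_card_eq_one'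
        exact hσ this
  · obtain ⟨-, x, hx⟩ := Cfsg.Agent.Lib.KnownA.maxOrder_PGL (F := F) n (by omega)
    obtain ⟨g, rfl⟩ := QuotientGroup.mk_surjective x
    refine ⟨dia g, ?_⟩
    rw [← hx]
    congr 1
    set Z := Subgroup.center (GL (Fin n) F)
    have hker : Z ≤ (dia (n := n) (F := F)).ker := (ker_dia hn p).ge
    have hinj : Function.Injective (QuotientGroup.lift Z (dia (n := n) (F := F)) hker) := by
      rw [← MonoidHom.ker_eq_bot_iff, QuotientGroup.ker_lift, ker_dia hn p]
      exact QuotientGroup.map_mk'_self _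
    exact orderOf_injective _ hinj (QuotientGroup.mk g)

end Cfsg.Agent.Lib.Classical.AutPSL
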