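import Cfsg.Agent.Lib.Classical.AutPSL.Elements
import Cfsg.Agent.Lib.Classical.GLTwo

/-!
Automorphisms of `PSL_n(q)`, part 2: the upper unitriangular Sylow subgroup has as centre a
transvection group, hence every automorphism maps transvection groups to transvection groups.
-/

set_option autoImplicit false

namespace Cfsg.Agent.Lib.Classical.AutPSL

open Matrix
open scoped Pointwise

variable {n : ℕ} {F : Type*} [Field F]

local notation "SLn" => Matrix.SpecialLinearGroup (Fin n) F
local notation "PSLn" => Matrix.ProjectiveSpecialLinearGroup (Fin n) F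
local notation "Mat" => Matrix (Fin n) (Fin n) F

/-- Upper unitriangular elements. -/
def IsUni (A : Mat) : Prop := ∀ i j : Fin n, j ≤ i → A i j = if i = j then 1 else 0

theorem IsUni.mul {A B : Mat} (hA : IsUni A) (hB : IsUni B) : IsUni (A * B) := by
  intro i j hij
  rw [Matrix.mul_apply, Finset.sum_eq_single i]
  · rw [hA i i le_rfl, if_pos rfl, one_mul, hB i j hij]
  · intro k _ hk
    rcases lt_or_gt_of_ne hk with h | h
    · rw [hA i k h.le, if_neg (fun e => hk e.symm), zero_mul]
    · rw [hB k j (hij.trans h.le), if_neg (fun e : k = j => absurd hij (not_le.mpr (e ▸ h))), mul_zero]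
  · simp

theorem isUni_one : IsUni (1 : Mat) := fun i j _ => Matrix.one_apply

theorem IsUni.det {A : Mat} (hA : IsUni A) : A.det = 1 := by
  rw [Matrix.det_of_upperTriangular (fun i j (h : j < i) => by
    rw [hA i j h.le, if_neg (fun e => (ne_of_lt h) e.symm)])]
  exact Finset.prod_eq_one fun i _ => by rw [hA i i le_rfl, if_pos rfl]

theorem isUni_pow {x : SLn} (hx : IsUni (x : Mat)) : ∀ k : ℕ, IsUni ((x ^ k : SLn) : Mat) := by
  intro k
  induction k with
  | zero => rw [pow_zero, Matrix.SpecialLinearGroup.coe_one]; exact isUni_one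
  | succ k ih => rw [pow_succ, Matrix.SpecialLinearGroup.coe_mul]; exact ih.mul hx

/-- The upper unitriangular subgroup. -/
def upperUni (n : ℕ) (F : Type*) [Field F] [Finite F] :
    Subgroup (Matrix.SpecialLinearGroup (Fin n) F) where
  carrier := {s | IsUni (s : Matrix (Fin n) (Fin n) F)}
  one_mem' := by
    show IsUni ((1 : Matrix.SpecialLinearGroup (Fin n) F) : Matrix (Fin n) (Fin n) F)
    rw [Matrix.SpecialLinearGroup.coe_one]
    exact isUni_one
  mul_mem' := fun {a b} ha hb => by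
    show IsUni ((a * b : Matrix.SpecialLinearGroup (Fin n) F) : Matrix (Fin n) (Fin n) F)
    rw [Matrix.SpecialLinearGroup.coe_mul]
    exact IsUni.mul ha hb
  inv_mem' := fun {x} hx => by
    have h : x⁻¹ = x ^ (orderOf x - 1) := by
      refine inv_eq_of_mul_eq_one_right ?_
      rw [← pow_succ', Nat.sub_add_cancel (orderOf_pos x), pow_orderOf_eq_one]
    rw [h]
    exact isUni_pow hx _

variable [Fintype F]

theorem mem_upperUni {s : SLn} : s ∈ upperUni n F ↔ IsUni (s : Mat) := Iff.rfl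

/-- Filling in the strictly upper entries. -/
def uniOf (f : (Σ j : Fin n, Fin j) → F) : Mat :=
  Matrix.of fun i j => if h : i < j then f ⟨j, ⟨i, h⟩⟩ else if i = j then 1 else 0

theorem isUni_uniOf (f : (Σ j : Fin n, Fin j) → F) : IsUni (uniOf f) := fun i j h => by
  rw [uniOf, Matrix.of_apply, dif_neg (not_lt.mpr h)]

theorem card_upperUni :
    Nat.card (upperUni n F) = ∏ j : Fin n, Fintype.card F ^ (j : ℕ) := by
  have e : upperUni n F ≃ ((Σ j : Fin n, Fin j) → F) :=
    { toFun := fun s p => (s.1 : Mat) ⟨p.2.1, p.2.2.trans p.1.2⟩ p.1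
      invFun := fun f => ⟨⟨uniOf f, (isUni_uniOf f).det⟩, isUni_uniOf f⟩
      left_inv := fun s => Subtype.ext (sl_ext (F := F) (n := n) (Matrix.ext fun i j => by
        show (if h : i < j then (s.1 : Mat) i j else if i = j then (1 : F) else 0) = _
        split_ifs with h h'
        · rfl
        · rw [s.2 i j (not_lt.mp h), if_pos h']
        · rw [s.2 i j (not_lt.mp h), if_neg h']))
      right_inv := fun f => funext fun p => by
        show uniOf f _ _ = f p
        obtain ⟨j, i, hi⟩ := p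
        rw [uniOf, Matrix.of_apply, dif_pos (show (⟨i, _⟩ : Fin n) < j from hi)] }
  rw [Nat.card_congr e, Nat.card_fun, Nat.card_eq_fintype_card (α := F), Nat.card_sigma,
    ← Finset.prod_pow_eq_pow_sum]
  exact Finset.prod_congr rfl fun j _ => by rw [Nat.card_fin]

theorem eq_one_of_uni_center {s : SLn} (hs : s ∈ upperUni n F) (hc : s ∈ Subgroup.center SLn) :
    s = 1 := by
  rcases isEmpty_or_nonempty (Fin n) with hn | ⟨⟨i⟩⟩
  · exact sl_ext (Matrix.ext fun i => hn.elim i)
  obtain ⟨r, -, hr⟩ := Matrix.SpecialLinearGroup.mem_center_iff.mp hc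
  have h := hs i i le_rfl
  rw [if_pos rfl, ← hr, Matrix.scalar_apply, Matrix.diagonal_apply_eq] at h
  exact sl_ext (by rw [← hr, h, map_one]; rfl)

variable (p : ℕ) [Fact p.Prime] [CharP F p]

theorem isPGroup_upperUni : IsPGroup p (upperUni n F) := by
  obtain ⟨k, hp, hk⟩ := FiniteField.card F p
  refine IsPGroup.of_card (n := (k : ℕ) * ∑ j : Fin n, (j : ℕ)) ?_
  rw [card_upperUni, Finset.prod_pow_eq_pow_sum, hk, ← pow_mul]

theorem not_dvd_index_upperUni (hn : 1 ≤ n) : ¬ p ∣ (upperUni n F).index := by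
  intro hdvd
  have h := card_SL_mul (F := F) hn
  rw [← (upperUni n F).index_mul_card, card_upperUni] at h
  have hfac : (∏ i : Fin n, (Fintype.card F ^ n - Fintype.card F ^ (i : ℕ))) =
      (∏ i : Fin n, Fintype.card F ^ (i : ℕ)) * ∏ i : Fin n, (Fintype.card F ^ (n - i) - 1) := by
    rw [← Finset.prod_mul_distrib]
    refine Finset.prod_congr rfl fun i _ => ?_
    rw [Nat.mul_sub_one, ← pow_add, Nat.add_sub_cancel' i.2.le]
  rw [hfac] at h
  have hpos : 0 < ∏ i : Fin n, Fintype.card F ^ (i : ℕ) :=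
    Finset.prod_pos fun i _ => pow_pos Fintype.card_pos _
  have h' : (Fintype.card F - 1) * (upperUni n F).index =
      ∏ i : Fin n, (Fintype.card F ^ (n - i) - 1) := by
    refine Nat.eq_of_mul_eq_mul_right hpos ?_
    rw [mul_assoc, h, mul_comm]
  have hd : p ∣ ∏ i : Fin n, (Fintype.card F ^ (n - i) - 1) := h' ▸ Dvd.dvd.mul_left hdvd _
  obtain ⟨i, -, hi⟩ := (Nat.prime_iff.mp (Fact.out : p.Prime)).exists_mem_finset_dvd hd
  exact not_dvd_card_pow_sub_one (p := p) (F := F) (k := n - i) (by omega) hi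

/-- The Sylow subgroup given by the unitriangular matrices. -/
noncomputable def uniSylow (hn : 1 ≤ n) : Sylow p PSLn :=
  IsPGroup.toSylow ((isPGroup_upperUni (n := n) (F := F) p).map proj) fun hdvd => by
    refine not_dvd_index_upperUni (F := F) p hn (hdvd.trans ?_)
    exact Subgroup.index_map_dvd (upperUni n F) proj_surjective

theorem coe_uniSylow (hn : 1 ≤ n) :
    (uniSylow (n := n) (F := F) p hn : Subgroup PSLn) = (upperUni n F).map proj := rfl

/-- The first index. -/
def fstIdx (hn : 2 ≤ n) : Fin n := ⟨0, by omega⟩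

/-- The last index. -/
def lastIdx (hn : 2 ≤ n) : Fin n := ⟨n - 1, by omega⟩

theorem fstIdx_ne_lastIdx (hn : 2 ≤ n) : fstIdx hn ≠ lastIdx hn :=
  fun e => by simp [fstIdx, lastIdx, Fin.ext_iff] at e; omega

theorem et_mem_upperUni {i j : Fin n} (hij : i < j) (c : F) :
    et i j hij.ne c ∈ upperUni n F := by
  intro k l hkl
  rw [et_coe, Matrix.add_apply, Matrix.one_apply, Matrix.single_apply,
    if_neg (fun h : i = k ∧ j = l => absurd hij (not_lt.mpr (h.1 ▸ h.2 ▸ hkl))), add_zero]

/-- The centre of the unitriangular group. -/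
theorem center_upperUni (hn : 2 ≤ n) {s : SLn} (hs : s ∈ upperUni n F)
    (hc : ∀ t ∈ upperUni n F, s * t = t * s) :
    s = et (fstIdx hn) (lastIdx hn) (fstIdx_ne_lastIdx hn) ((s : Mat) (fstIdx hn) (lastIdx hn)) := by
  have hcomm : ∀ i j : Fin n, i < j → ∀ k l : Fin n,
      ((s : Mat) * Matrix.single i j (1 : F)) k l = (Matrix.single i j (1 : F) * (s : Mat)) k l := by
    intro i j hij k l
    have h := congrArg (fun M : SLn => (M : Mat)) (hc _ (et_mem_upperUni hij 1))
    simp only [Matrix.SpecialLinearGroup.coe_mul, et_coe, mul_add, add_mul, mul_one, one_mul] at h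
    exact congrFun (congrFun (add_left_cancel (G := Mat) h) k) l
  set i₀ := fstIdx hn with hi₀
  set j₀ := lastIdx hn with hj₀
  refine sl_ext (Matrix.ext fun k l => ?_)
  rw [et_coe, Matrix.add_apply, Matrix.one_apply, Matrix.single_apply]
  by_cases h0 : i₀ = k ∧ j₀ = l
  · obtain ⟨rfl, rfl⟩ := h0
    rw [if_neg (fstIdx_ne_lastIdx hn), if_pos ⟨rfl, rfl⟩, zero_add]
  rw [if_neg h0, add_zero]
  by_cases hkl : l ≤ k
  · exact hs k l hkl
  rw [if_neg (fun e : k = l => hkl (e ▸ le_rfl))]
  push Not at hkl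
  by_cases hl : l = j₀
  · subst hl
    have hk : i₀ < k := by
      have hne : k ≠ i₀ := fun e => h0 ⟨e.symm, rfl⟩
      rw [Ne, Fin.ext_iff] at hne
      simp only [Fin.lt_def, hi₀, fstIdx] at hne ⊢
      omega
    have h := hcomm i₀ k hk i₀ j₀
    rw [Matrix.mul_single_apply_of_ne _ _ _ _ _ hkl.ne', Matrix.single_mul_apply_same, one_mul] at h
    exact h.symm
  · have hl' : l < j₀ := by
      rw [Fin.ext_iff] at hl
      have := l.2
      simp only [Fin.lt_def, hj₀, lastIdx] at hl ⊢
      omega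
    have h := hcomm l j₀ hl' k j₀
    rw [Matrix.mul_single_apply_same, mul_one, Matrix.single_mul_apply_of_ne _ _ _ _ _ hkl.ne] at h
    exact h

theorem et_central_upperUni (hn : 2 ≤ n) (c : F) {t : SLn} (ht : t ∈ upperUni n F) :
    et (fstIdx hn) (lastIdx hn) (fstIdx_ne_lastIdx hn) c * t =
      t * et (fstIdx hn) (lastIdx hn) (fstIdx_ne_lastIdx hn) c := by
  refine sl_ext ?_
  rw [Matrix.SpecialLinearGroup.coe_mul, Matrix.SpecialLinearGroup.coe_mul, et_coe, add_mul,
    mul_add, one_mul, mul_one]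
  congr 1
  ext k l
  have hrow : ∀ l, (t : Mat) (lastIdx hn) l = if lastIdx hn = l then 1 else 0 := fun l =>
    ht _ _ (by simp [Fin.le_def, lastIdx]; omega)
  have hcol : ∀ k, (t : Mat) k (fstIdx hn) = if k = fstIdx hn then 1 else 0 := fun k =>
    ht _ _ (by simp [Fin.le_def, fstIdx])
  by_cases hk : k = fstIdx hn
  · subst hk
    by_cases hl : l = lastIdx hn
    · subst hl
      rw [Matrix.single_mul_apply_same, Matrix.mul_single_apply_same, hrow, hcol]
      simp
    · rw [Matrix.single_mul_apply_same, Matrix.mul_single_apply_of_ne _ _ _ _ _ hl, hrow,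
        if_neg (fun e => hl e.symm), mul_zero]
  · rw [Matrix.single_mul_apply_of_ne _ _ _ _ _ hk]
    by_cases hl : l = lastIdx hn
    · subst hl
      rw [Matrix.mul_single_apply_same, hcol, if_neg hk, zero_mul]
    · rw [Matrix.mul_single_apply_of_ne _ _ _ _ _ hl]

omit [Fintype F] in
theorem permGL_aux (σ : Equiv.Perm (Fin n)) : (σ.permMatrix F).det ≠ 0 := by
  rw [Matrix.det_permutation]
  rcases Int.units_eq_one_or (Equiv.Perm.sign σ) with h | h <;> simp [h]

omit [Fintype F] in
/-- A monomial conjugation moving the extreme transvection group to any other. -/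
theorem exists_gl_conj_et (hn : 2 ≤ n) {i j : Fin n} (hij : i ≠ j) :
    ∃ g : GL (Fin n) F, ∀ c, conjSL g (et (fstIdx hn) (lastIdx hn) (fstIdx_ne_lastIdx hn) c) =
      et i j hij c := by
  obtain ⟨σ, hσi, hσj⟩ : ∃ σ : Equiv.Perm (Fin n), σ (fstIdx hn) = i ∧ σ (lastIdx hn) = j := by
    let s₁ := Equiv.swap (fstIdx hn) i
    refine ⟨Equiv.swap (s₁ (lastIdx hn)) j * s₁, ?_, ?_⟩
    · rw [Equiv.Perm.mul_apply, Equiv.swap_apply_left]
      refine Equiv.swap_apply_of_ne_of_ne ?_ hij
      intro e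
      refine fstIdx_ne_lastIdx hn (s₁.injective ?_)
      rw [Equiv.swap_apply_left, ← e]
    · rw [Equiv.Perm.mul_apply, Equiv.swap_apply_left]
  let g : GL (Fin n) F := Matrix.GeneralLinearGroup.mkOfDetNeZero (σ⁻¹.permMatrix F) (permGL_aux _)
  have hg : ∀ k, (g : Mat) *ᵥ Pi.single k 1 = Pi.single (σ k) 1 := by
    intro k
    funext l
    rw [show (g : Mat) = σ⁻¹.permMatrix F from rfl, Matrix.permMatrix_mulVec]
    simp only [Function.comp_apply, Pi.single_apply]
    exact if_congr (by rw [Equiv.Perm.inv_eq_iff_eq, eq_comm]) rfl rfl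
  refine ⟨g, fun c => ?_⟩
  rw [et, conjSL_tvs, et]
  refine tvs_congr (congrArg (c • ·) ?_)
  have h2 : (Pi.single (lastIdx hn) (1 : F)) ᵥ* ((g⁻¹ : GL (Fin n) F) : Mat) = Pi.single j 1 := by
    have e : (Pi.single j (1 : F)) ᵥ* (g : Mat) = Pi.single (lastIdx hn) 1 := by
      funext k
      have h3 : (Pi.single j (1 : F)) ⬝ᵥ ((g : Mat) *ᵥ Pi.single k 1) =
          ((Pi.single j (1 : F)) ᵥ* (g : Mat)) ⬝ᵥ Pi.single k 1 := Matrix.dotProduct_mulVec _ _ _
      rw [hg, dotProduct_single, dotProduct_single, mul_one, mul_one] at h3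
      rw [← h3]
      simp only [Pi.single_apply]
      exact if_congr (by rw [← hσj, σ.injective.eq_iff]) rfl rfl
    rw [← e, Matrix.vecMul_vecMul, ← Units.val_mul, mul_inv_cancel, Units.val_one, Matrix.vecMul_one]
  rw [hg, hσi, h2]

include p in
/-- **Automorphisms permute transvection groups.** -/
theorem exists_image (β : MulAut PSLn) (hn : 2 ≤ n) {i j : Fin n} (hij : i ≠ j) :
    ∃ (v a : Fin n → F) (h : a ⬝ᵥ v = 0) (f : F → F), Function.Bijective f ∧ v ≠ 0 ∧ a ≠ 0 ∧
      ∀ c, β (proj (et i j hij c)) = proj (tvs v a h (f c)) := by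
  obtain ⟨g, hg⟩ := exists_gl_conj_et (F := F) hn hij
  let α : MulAut PSLn := β * dia g
  have hα : ∀ c, α (proj (et (fstIdx hn) (lastIdx hn) (fstIdx_ne_lastIdx hn) c)) =
      β (proj (et i j hij c)) := fun c => by rw [MulAut.mul_apply, dia_proj, hg]
  let P : Sylow p PSLn := uniSylow p (by omega)
  obtain ⟨x, hx⟩ := MulAction.exists_smul_eq PSLn P (α • P)
  obtain ⟨s, rfl⟩ := proj_surjective x
  have hmem : ∀ y, y ∈ (α • P : Sylow p PSLn) ↔ ∃ u ∈ upperUni n F, y = proj (s * u * s⁻¹) := by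
    intro y
    rw [← hx]
    show y ∈ MulAut.conj (proj s) • (P : Subgroup PSLn) ↔ _
    rw [Subgroup.mem_pointwise_smul_iff_inv_smul_mem]
    show _ ∈ (upperUni n F).map proj ↔ _
    constructor
    · rintro ⟨u, hu, e⟩
      refine ⟨u, hu, ?_⟩
      rw [map_mul, map_mul, map_inv, e]
      simp [MulAut.smul_def, mul_assoc]
    · rintro ⟨u, hu, rfl⟩
      exact ⟨u, hu, by simp [MulAut.smul_def, mul_assoc]⟩
  have hmemP : ∀ u ∈ upperUni n F, α (proj u) ∈ (α • P : Sylow p PSLn) := by
    intro u hu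
    exact Subgroup.mem_map_of_mem α.toMonoidHom (Subgroup.mem_map_of_mem proj hu)
  set v := (s : Mat) *ᵥ Pi.single (fstIdx hn) 1 with hv
  set a := (Pi.single (lastIdx hn) 1) ᵥ* ((s⁻¹ : SLn) : Mat) with ha
  have hinv : ((s⁻¹ : SLn) : Mat) * (s : Mat) = 1 := by
    rw [← Matrix.SpecialLinearGroup.coe_mul, inv_mul_cancel, Matrix.SpecialLinearGroup.coe_one]
  have hinv' : (s : Mat) * ((s⁻¹ : SLn) : Mat) = 1 := by
    rw [← Matrix.SpecialLinearGroup.coe_mul, mul_inv_cancel, Matrix.SpecialLinearGroup.coe_one]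
  have hva : a ⬝ᵥ v = 0 := by
    rw [hv, ha, ← Matrix.dotProduct_mulVec, Matrix.mulVec_mulVec, hinv, Matrix.one_mulVec]
    simp [fstIdx_ne_lastIdx hn]
  have himg : ∀ c, ∃ c', β (proj (et i j hij c)) = proj (tvs v a hva c') := by
    intro c
    set e := et (fstIdx hn) (lastIdx hn) (fstIdx_ne_lastIdx hn) c with he
    have heU : e ∈ upperUni n F := et_mem_upperUni (by
      have := fstIdx_ne_lastIdx hn
      simp only [Fin.lt_def, fstIdx, lastIdx, Ne, Fin.ext_iff] at this ⊢
      omega) c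
    obtain ⟨u, hu, hue⟩ := (hmem _).mp (hmemP e heU)
    have hcu : ∀ t ∈ upperUni n F, u * t = t * u := by
      intro t ht
      have hy := (hmem (proj (s * t * s⁻¹))).mpr ⟨t, ht, rfl⟩
      obtain ⟨y, ⟨r, hr, rfl⟩, hy'⟩ := hy
      have hcomm : proj (s * u * s⁻¹) * proj (s * t * s⁻¹) =
          proj (s * t * s⁻¹) * proj (s * u * s⁻¹) := by
        rw [← hue, ← hy']
        show α (proj e) * α (proj r) = α (proj r) * α (proj e)
        rw [← map_mul, ← map_mul, ← map_mul, ← map_mul, he, et_central_upperUni hn c hr]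
      simp only [map_mul, map_inv] at hcomm
      have hc2 : proj (u * t) = proj (t * u) := by
        rw [map_mul, map_mul]
        have h3 := congrArg (fun z => z * proj s) hcomm
        simpa [mul_assoc] using h3
      have hz : (u * t)⁻¹ * (t * u) ∈ Subgroup.center SLn := QuotientGroup.eq.mp hc2
      exact inv_mul_eq_one.mp (eq_one_of_uni_center
        (mul_mem (inv_mem (mul_mem hu ht)) (mul_mem ht hu)) hz)
    refine ⟨(u : Mat) (fstIdx hn) (lastIdx hn), ?_⟩
    rw [← hα, ← he, hue]
    refine congrArg proj (sl_ext ?_)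
    conv_lhs => rw [center_upperUni hn hu hcu]
    rw [Matrix.SpecialLinearGroup.coe_mul, Matrix.SpecialLinearGroup.coe_mul, et, tvs_coe, tvs_coe,
      mul_add, add_mul, mul_one, hinv', Matrix.mul_smul, Matrix.smul_mul, Matrix.mul_vecMulVec,
      Matrix.vecMulVec_mul]
  choose f hf using himg
  refine ⟨v, a, hva, f, Finite.injective_iff_bijective.mp ?_, ?_, ?_, hf⟩
  · intro c d h
    have e := β.injective ((hf c).trans (by rw [h, ← hf d]))
    exact et_injective hij (eq_of_proj_eq p (tvs_pow_char p _ _) (tvs_pow_char p _ _) e)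
  · intro h0
    have := congrArg (((s⁻¹ : SLn) : Mat) *ᵥ ·) h0
    simp only [hv, Matrix.mulVec_mulVec, hinv, Matrix.one_mulVec, Matrix.mulVec_zero] at this
    simpa using congrFun this (fstIdx hn)
  · intro h0
    have := congrArg (· ᵥ* (s : Mat)) h0
    simp only [ha, Matrix.vecMul_vecMul, hinv, Matrix.vecMul_one, Matrix.zero_vecMul] at this
    simpa using congrFun this (lastIdx hn)

end Cfsg.Agent.Lib.Classical.AutPSL
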