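import Cfsg.Agent.Lib.Classical.AutPSL.Count
import Cfsg.Agent.Lib.Classical.AutPSL.Descent

/-!
Automorphisms of `PSL_n(q)`, part 6: field and graph-field automorphisms as classes, their
centralisers in the inner-diagonal group and the splitting of their classes.
-/

set_option autoImplicit false

namespace Cfsg.Agent.Lib.Classical.AutPSL

open Matrix

variable {n : ℕ} {F : Type*} [Field F]

local notation "SLn" => Matrix.SpecialLinearGroup (Fin n) F
local notation "PSLn" => Matrix.ProjectiveSpecialLinearGroup (Fin n) F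
local notation "Mat" => Matrix (Fin n) (Fin n) F
local notation "Outer" => (F ≃+* F) × Multiplicative (ZMod 2)

/-- The non-trivial graph parameter. -/
def gra : Multiplicative (ZMod 2) := Multiplicative.ofAdd 1

theorem gra_ne_one : gra ≠ 1 := by decide

theorem eq_gra_of_ne_one {e : Multiplicative (ZMod 2)} (h : e ≠ 1) : e = gra := by
  revert e; decide

theorem gra_mul_gra : gra * gra = 1 := by decide

theorem outerPart_one (σ : F ≃+* F) : outerPart (n := n) (σ, (1 : Multiplicative (ZMod 2))) = fld σ := by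
  show fld σ * (if (1 : Multiplicative (ZMod 2)) = 1 then 1 else invTr) = _
  rw [if_pos rfl, mul_one]

theorem outerPart_gra (σ : F ≃+* F) : outerPart (n := n) (σ, gra) = fld σ * invTr := by
  show fld σ * (if gra = 1 then 1 else invTr) = _
  rw [if_neg gra_ne_one]

theorem eq_fld_of_isStdField {σ : F ≃+* F} {β : MulAut PSLn} (h : Cfsg.IsStdFieldAutPSL σ β) :
    β = fld σ := by
  ext x
  obtain ⟨s, rfl⟩ := proj_surjective x
  rw [fld_proj]
  exact h s (slCongr σ s) rfl

theorem eq_invTr_of_isInverseTranspose {β : MulAut PSLn} (h : Cfsg.IsInverseTransposeAutPSL β) :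
    β = invTr := by
  ext x
  obtain ⟨s, rfl⟩ := proj_surjective x
  rw [invTr_proj]
  exact h s _ rfl

theorem inndiag_eq : Cfsg.inndiagPSL n F = (dia (n := n) (F := F)).range := by
  refine le_antisymm ?_ ?_
  · rw [Cfsg.inndiagPSL, Cfsg.autSubgroupOf, Subgroup.closure_le]
    rintro β ⟨g, hg⟩
    refine ⟨g, ?_⟩
    ext x
    obtain ⟨s, rfl⟩ := proj_surjective x
    rw [dia_proj]
    exact (hg s (conjSL g s) rfl).symm
  · rintro _ ⟨g, rfl⟩
    exact Subgroup.subset_closure (isInnerDiagonal_dia g)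

/-- Inverse transpose on `GL`. -/
def itGL : GL (Fin n) F →* GL (Fin n) F where
  toFun g :=
    ⟨((g⁻¹ : GL (Fin n) F) : Mat)ᵀ, (g : Mat)ᵀ,
      by rw [← Matrix.transpose_mul, ← Units.val_mul, mul_inv_cancel, Units.val_one, Matrix.transpose_one],
      by rw [← Matrix.transpose_mul, ← Units.val_mul, inv_mul_cancel, Units.val_one, Matrix.transpose_one]⟩
  map_one' := Units.ext (by simp)
  map_mul' g h := Units.ext (by simp [Matrix.transpose_mul])

theorem itGL_coe (g : GL (Fin n) F) : (itGL g : Mat) = ((g⁻¹ : GL (Fin n) F) : Mat)ᵀ := rfl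

theorem itGL_inv_coe (g : GL (Fin n) F) : (((itGL g)⁻¹ : GL (Fin n) F) : Mat) = (g : Mat)ᵀ := rfl

theorem fld_mul_dia (σ : F ≃+* F) (g : GL (Fin n) F) :
    fld σ * dia g = dia (galGL σ g) * fld (n := n) σ := by
  ext x
  obtain ⟨s, rfl⟩ := proj_surjective x
  rw [MulAut.mul_apply, MulAut.mul_apply, fld_proj, dia_proj, dia_proj, fld_proj]
  refine congrArg proj (sl_ext ?_)
  rw [conjSL_coe, slCongr_coe, slCongr_coe, conjSL_coe, ← map_inv, galGL_coe, galGL_coe,
    Matrix.map_mul, Matrix.map_mul]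

theorem invTr_mul_dia (g : GL (Fin n) F) :
    (invTr : MulAut PSLn) * dia g = dia (itGL g) * invTr := by
  ext x
  obtain ⟨s, rfl⟩ := proj_surjective x
  rw [MulAut.mul_apply, MulAut.mul_apply, invTr_proj, dia_proj, dia_proj, invTr_proj,
    ← map_inv (conjSL g)]
  refine congrArg proj (sl_ext ?_)
  rw [Matrix.SpecialLinearGroup.coe_transpose, conjSL_coe, conjSL_coe,
    Matrix.SpecialLinearGroup.coe_transpose, Matrix.transpose_mul, Matrix.transpose_mul, mul_assoc,
    itGL_coe, itGL_inv_coe]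

/-- The action of the outer part on `GL`. -/
def twist (d : Outer) : GL (Fin n) F →* GL (Fin n) F :=
  if d.2 = 1 then galGL d.1 else (galGL d.1).comp itGL

theorem twist_one (σ : F ≃+* F) (g : GL (Fin n) F) :
    twist (n := n) (σ, (1 : Multiplicative (ZMod 2))) g = galGL σ g := by
  rw [twist, if_pos rfl]

theorem twist_gra (σ : F ≃+* F) (g : GL (Fin n) F) :
    twist (n := n) (σ, gra) g = galGL σ (itGL g) := by
  rw [twist, if_neg gra_ne_one, MonoidHom.comp_apply]

theorem outerPart_mul_dia (d : Outer) (g : GL (Fin n) F) :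
    outerPart d * dia g = dia (twist d g) * outerPart (n := n) d := by
  obtain ⟨σ, e⟩ := d
  by_cases he : e = 1
  · subst he; rw [outerPart_one, twist_one, fld_mul_dia]
  · obtain rfl := eq_gra_of_ne_one he
    rw [outerPart_gra, twist_gra, mul_assoc, invTr_mul_dia, ← mul_assoc, fld_mul_dia, mul_assoc]

/-- The twisted product. -/
def twistProd (d : Outer) (g : GL (Fin n) F) : ℕ → GL (Fin n) F
  | 0 => 1
  | k + 1 => g * twist d (twistProd d g k)

theorem dia_mul_outerPart_pow (d : Outer) (g : GL (Fin n) F) (k : ℕ) :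
    (dia g * outerPart d) ^ k = dia (twistProd d g k) * outerPart (n := n) (d ^ k) := by
  induction k with
  | zero => rw [pow_zero, pow_zero, twistProd, map_one, map_one, mul_one]
  | succ k ih =>
    rw [pow_succ', ih, twistProd, mul_assoc, ← mul_assoc (outerPart d), outerPart_mul_dia,
      map_mul, pow_succ' d, map_mul, mul_assoc, mul_assoc]

theorem conj_outerPart (d : Outer) (h : GL (Fin n) F) :
    dia h * outerPart d * (dia h)⁻¹ = dia (h * (twist d h)⁻¹) * outerPart (n := n) d := by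
  rw [mul_assoc, ← map_inv, outerPart_mul_dia, map_inv, map_inv, ← mul_assoc, map_mul, map_inv]

theorem galProd_eq_twistProd (σ : F ≃+* F) (g : GL (Fin n) F) (k : ℕ) :
    twistProd (σ, (1 : Multiplicative (ZMod 2))) g k = galProd σ g k := by
  induction k with
  | zero => rfl
  | succ k ih => rw [twistProd, galProd, ih, twist_one]

/-! ### The splitting count -/

theorem card_quot_conj {X : Type*} [Group X] (N K : Subgroup X) (hKN : K ≤ N)
    (hK : ∀ a ∈ N, ∀ k ∈ K, a * k * a⁻¹ ∈ K) (x : X) :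
    Cfsg.splitClassCount N K x = ((N ⊓ Subgroup.centralizer {x}) ⊔ K).relIndex N := by
  classical
  set C := N ⊓ Subgroup.centralizer {x} with hC
  set M := (C ⊔ K).subgroupOf N
  have hcx : ∀ c : X, c ∈ Subgroup.centralizer ({x} : Set X) → c * x * c⁻¹ = x := fun c hc => by
    rw [Subgroup.mem_centralizer_singleton_iff] at hc
    rw [hc, mul_inv_cancel_right]
  let P : Type _ := {y : X // Cfsg.IsConjUnder N x y}
  let R : P → P → Prop := fun y z => Cfsg.IsConjUnder K y.1 z.1
  let pt : N → P := fun a => ⟨a.1 * x * a.1⁻¹, a.1, a.2, rfl⟩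
  let f₀ : N → Quot R := fun a => Quot.mk R (pt a)
  have hinv : ∀ a b : N, a⁻¹ * b ∈ M → f₀ a = f₀ b := by
    intro a b hab
    have hm : ((a : X))⁻¹ * b ∈ C ⊔ K := hab
    obtain ⟨c, hc, k, hk, hck⟩ : ∃ c ∈ C, ∃ k ∈ K, c * k = (a : X)⁻¹ * b := by
      have hnorm : C ≤ Subgroup.normalizer (K : Set X) := fun c hc => by
        rw [Subgroup.mem_normalizer_iff]
        intro h
        refine ⟨fun hh => hK c hc.1 h hh, fun hh => ?_⟩
        have := hK c⁻¹ (inv_mem hc.1) _ hh
        simpa [mul_assoc] using this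
      rw [← SetLike.mem_coe, Subgroup.coe_mul_of_left_le_normalizer_right C K hnorm] at hm
      obtain ⟨c, hc, k, hk, e⟩ := Set.mem_mul.mp hm
      exact ⟨c, hc, k, hk, e⟩
    refine Quot.sound ⟨(a : X) * c * k * c⁻¹ * (a : X)⁻¹, ?_, ?_⟩
    · have h1 := hK ((a : X) * c) (mul_mem a.2 hc.1) k hk
      simpa [mul_assoc] using h1
    · have hb : (b : X) = a * c * k := by rw [mul_assoc, hck, mul_inv_cancel_left]
      show (b : X) * x * (b : X)⁻¹ = _ * ((a : X) * x * (a : X)⁻¹) * _⁻¹
      rw [hb]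
      calc (a : X) * c * k * x * ((a : X) * c * k)⁻¹ = (a : X) * c * k * x * k⁻¹ * c⁻¹ * (a : X)⁻¹ := by group
        _ = (a : X) * c * k * (c⁻¹ * (c * x * c⁻¹) * c) * k⁻¹ * c⁻¹ * (a : X)⁻¹ := by group
        _ = (a : X) * c * k * (c⁻¹ * x * c) * k⁻¹ * c⁻¹ * (a : X)⁻¹ := by rw [hcx c hc.2]
        _ = _ := by group
  let f : N ⧸ M → Quot R := Quotient.lift f₀ fun a b h => hinv a b (QuotientGroup.leftRel_apply.mp h)
  let gsel : P → N := fun y => ⟨y.2.choose, y.2.choose_spec.1⟩
  have hsel : ∀ y : P, y.1 = (gsel y : X) * x * (gsel y : X)⁻¹ := fun y => y.2.choose_spec.2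
  have hclass : ∀ a b : N, Cfsg.IsConjUnder K ((a : X) * x * (a : X)⁻¹) ((b : X) * x * (b : X)⁻¹) →
      (QuotientGroup.mk a : N ⧸ M) = QuotientGroup.mk b := by
    rintro a b ⟨k, hk, e⟩
    rw [QuotientGroup.eq]
    show (a : X)⁻¹ * b ∈ C ⊔ K
    have h1 : (a : X)⁻¹ * k * a ∈ K := by simpa using hK _ (inv_mem a.2) k hk
    have h2 : (k * (a : X))⁻¹ * b ∈ C := by
      refine ⟨N.mul_mem (N.inv_mem (N.mul_mem (hKN hk) a.2)) b.2, ?_⟩
      show _ ∈ Subgroup.centralizer ({x} : Set X)
      rw [Subgroup.mem_centralizer_singleton_iff]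
      calc (k * (a : X))⁻¹ * b * x = (k * (a : X))⁻¹ * ((b : X) * x * (b : X)⁻¹) * b := by group
        _ = (k * (a : X))⁻¹ * (k * ((a : X) * x * (a : X)⁻¹) * k⁻¹) * b := by rw [e]
        _ = x * ((k * (a : X))⁻¹ * b) := by group
    have := mul_mem ((le_sup_right : K ≤ C ⊔ K) h1) ((le_sup_left : C ≤ C ⊔ K) h2)
    simpa [mul_assoc] using this
  let g : Quot R → N ⧸ M := Quot.lift (fun y => QuotientGroup.mk (gsel y)) fun y z h =>
    hclass _ _ (by rw [← hsel y, ← hsel z]; exact h)
  show Nat.card (Quot R) = Nat.card (N ⧸ M)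
  refine Nat.card_congr ⟨g, f, fun y => ?_, fun a => ?_⟩
  · induction y using Quot.ind with
    | mk y =>
      show f₀ (gsel y) = Quot.mk R y
      exact congrArg (Quot.mk R) (Subtype.ext (hsel y).symm)
  · induction a using QuotientGroup.induction_on with
    | H a =>
      show QuotientGroup.mk (gsel (pt a)) = QuotientGroup.mk a
      refine hclass _ _ ⟨1, one_mem K, ?_⟩
      rw [← hsel (pt a), one_mul, inv_one, mul_one]

theorem splitClassCount_conj {X : Type*} [Group X] (N K : Subgroup X) {a : X} (ha : a ∈ N) (x : X) :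
    Cfsg.splitClassCount N K (a * x * a⁻¹) = Cfsg.splitClassCount N K x := by
  have hiff : ∀ y, Cfsg.IsConjUnder N (a * x * a⁻¹) y ↔ Cfsg.IsConjUnder N x y := by
    intro y
    constructor
    · rintro ⟨h, hh, rfl⟩; exact ⟨h * a, mul_mem hh ha, by group⟩
    · rintro ⟨h, hh, rfl⟩; exact ⟨h * a⁻¹, mul_mem hh (inv_mem ha), by group⟩
  let E : {y // Cfsg.IsConjUnder N (a * x * a⁻¹) y} ≃ {y // Cfsg.IsConjUnder N x y} :=
    Equiv.subtypeEquivRight hiff
  exact Nat.card_congr (Quot.congr E fun _ _ => Iff.rfl)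

/-- Centralisers of conjugate elements in a subgroup. -/
noncomputable def centralizerConj {X : Type*} [Group X] (N : Subgroup X) {a : X} (ha : a ∈ N) (x : X) :
    ↥(N ⊓ Subgroup.centralizer {x}) ≃* ↥(N ⊓ Subgroup.centralizer {a * x * a⁻¹}) :=
  ((MulAut.conj a).subgroupMap _).trans (MulEquiv.subgroupCongr (by
    ext y
    rw [Subgroup.mem_map, Subgroup.mem_inf, Subgroup.mem_centralizer_singleton_iff]
    constructor
    · rintro ⟨z, hz, rfl⟩
      rw [Subgroup.mem_inf, Subgroup.mem_centralizer_singleton_iff] at hz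
      refine ⟨mul_mem (mul_mem ha hz.1) (inv_mem ha), ?_⟩
      show a * z * a⁻¹ * (a * x * a⁻¹) = a * x * a⁻¹ * (a * z * a⁻¹)
      calc a * z * a⁻¹ * (a * x * a⁻¹) = a * (z * x) * a⁻¹ := by group
        _ = a * (x * z) * a⁻¹ := by rw [hz.2]
        _ = _ := by group
    · rintro ⟨hy, hc⟩
      refine ⟨a⁻¹ * y * a, ?_, by show a * (a⁻¹ * y * a) * a⁻¹ = y; group⟩
      rw [Subgroup.mem_inf, Subgroup.mem_centralizer_singleton_iff]
      refine ⟨mul_mem (mul_mem (inv_mem ha) hy) ha, ?_⟩
      calc a⁻¹ * y * a * x = a⁻¹ * (y * (a * x * a⁻¹)) * a := by group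
        _ = a⁻¹ * (a * x * a⁻¹ * y) * a := by rw [hc]
        _ = _ := by group))

/-- In a finite cyclic group the join with the `n`-th powers. -/
theorem index_sup_range_pow {G : Type*} [CommGroup G] [IsCyclic G] [Finite G] (A : Subgroup G) (k : ℕ) :
    (A ⊔ (powMonoidHom k : G →* G).range).index = Nat.gcd k (Nat.card G / Nat.card A) := by
  set B := (powMonoidHom k : G →* G).range with hB
  set m := Nat.card G with hm
  set a := Nat.card A with ha
  have hmpos : 0 < m := Nat.card_pos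
  have hapos : 0 < a := Nat.card_pos
  have hadvd : a ∣ m := A.card_subgroup_dvd_card
  have hgB : Nat.card (powMonoidHom k : G →* G).ker = Nat.gcd m k := IsCyclic.card_powMonoidHom_ker G k
  have hBidx : B.index = Nat.gcd m k := by
    rw [← hgB]
    have h1 := B.index_mul_card
    have h2 := (powMonoidHom k : G →* G).ker.card_mul_index
    rw [Subgroup.index_ker, ← hB] at h2
    exact Nat.eq_of_mul_eq_mul_right Nat.card_pos (h1.trans h2.symm)
  have hAidx : A.index = m / a := by
    rw [hm, ← A.index_mul_card, ← ha, Nat.mul_div_cancel _ hapos]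
  set g := Nat.gcd k (m / a) with hg
  have hgd : g ∣ m / a := Nat.gcd_dvd_right _ _
  have hgm : g ∣ m := hgd.trans (Nat.div_dvd_of_dvd hadvd)
  refine Nat.dvd_antisymm ?_ ?_
  · refine Nat.dvd_gcd ?_ ?_
    · exact (Subgroup.index_dvd_of_le le_sup_right).trans (hBidx ▸ Nat.gcd_dvd_right m k)
    · exact hAidx ▸ Subgroup.index_dvd_of_le le_sup_left
  · set D := (powMonoidHom (m / g) : G →* G).ker with hD
    have hmem : ∀ (S : Subgroup G), Nat.card S ∣ m / g → S ≤ D := fun S hS x hx => by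
      rw [hD, MonoidHom.mem_ker, powMonoidHom_apply, ← orderOf_dvd_iff_pow_eq_one]
      exact (S.orderOf_dvd_natCard hx).trans hS
    have hgpos : 0 < g := Nat.pos_of_ne_zero fun h0 => by
      rw [h0, zero_dvd_iff] at hgm; omega
    have hDcard : Nat.card D = m / g := by
      rw [hD, IsCyclic.card_powMonoidHom_ker, Nat.gcd_eq_right (Nat.div_dvd_of_dvd hgm)]
    have hDidx : D.index = g := by
      have := D.index_mul_card
      rw [hDcard, ← hm] at this
      have hmg : 0 < m / g := Nat.div_pos (Nat.le_of_dvd hmpos hgm) hgpos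
      exact Nat.eq_of_mul_eq_mul_right hmg (this.trans (Nat.mul_div_cancel' hgm).symm)
    rw [← hDidx]
    refine Subgroup.index_dvd_of_le (sup_le (hmem A ?_) (hmem B ?_))
    · rw [Nat.dvd_div_iff_mul_dvd hgm]
      exact (Nat.mul_dvd_mul_right hgd a).trans (dvd_of_eq (Nat.div_mul_cancel hadvd))
    · rw [Nat.dvd_div_iff_mul_dvd hgm]
      have h1 := B.index_mul_card
      rw [hBidx] at h1
      refine dvd_trans (Nat.mul_dvd_mul_right ?_ _) (dvd_of_eq h1)
      exact Nat.dvd_gcd hgm (Nat.gcd_dvd_left _ _)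

/-! ### Reduction to standard automorphisms -/

variable [Fintype F]

theorem outer_comm (p : ℕ) [Fact p.Prime] [CharP F p] (d d' : Outer) : d * d' = d' * d := by
  obtain ⟨k, hp, hk⟩ := FiniteField.card F p
  obtain ⟨hc, -⟩ := gal_cyclic_card (F := F) hk
  refine Prod.ext ?_ (mul_comm _ _)
  exact (IsCyclic.commGroup).mul_comm _ _

theorem decomposition_outer (p : ℕ) [Fact p.Prime] [CharP F p] (hn : 2 ≤ n) (β : MulAut PSLn) :
    ∃ (g : GL (Fin n) F) (d : Outer), β = dia g * outerPart d := by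
  obtain ⟨g, σ, e | ⟨-, e⟩⟩ := decomposition p hn β
  · exact ⟨g, (σ, 1), by rw [outerPart_one, e]⟩
  · exact ⟨g, (σ, gra), by rw [outerPart_gra, e, mul_assoc]⟩

/-- An automorphism conjugate to an outer parameter is conjugate to it by an inner-diagonal one. -/
theorem exists_inndiag_conj (p : ℕ) [Fact p.Prime] [CharP F p] (hn : 2 ≤ n) {α x : MulAut PSLn}
    {d₀ : Outer} (h : α * x * α⁻¹ = outerPart d₀) :
    ∃ g : GL (Fin n) F, x = dia g * outerPart d₀ * (dia g)⁻¹ := by
  obtain ⟨g, d, hg⟩ := decomposition_outer p hn α⁻¹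
  refine ⟨g, ?_⟩
  calc x = α⁻¹ * (α * x * α⁻¹) * (α⁻¹)⁻¹ := by group
    _ = dia g * (outerPart d * outerPart d₀ * (outerPart d)⁻¹) * (dia g)⁻¹ := by rw [h, hg]; group
    _ = _ := by rw [← map_mul, outer_comm p d d₀, map_mul, mul_inv_cancel_right]

theorem outerPart_eq_one (p : ℕ) [Fact p.Prime] [CharP F p] (hn : 2 ≤ n) {d : Outer}
    (he : d.2 = 1 ∨ 3 ≤ n) {g : GL (Fin n) F} (h : dia g * outerPart d = 1) :
    d = 1 ∧ g ∈ Subgroup.center (GL (Fin n) F) := by
  obtain ⟨h1, h2, h3⟩ := eq_one_of_param hn (σ := d.1) (e := d.2) he p h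
  exact ⟨Prod.ext h1 h2, h3⟩

theorem orderOf_outerPart (p : ℕ) [Fact p.Prime] [CharP F p] (hn : 2 ≤ n) {d : Outer}
    (he : d.2 = 1 ∨ 3 ≤ n) : orderOf (outerPart (n := n) d) = orderOf d := by
  refine orderOf_eq_orderOf_iff.mpr fun k => ⟨fun h => ?_, fun h => ?_⟩
  · rw [← map_pow] at h
    refine (outerPart_eq_one p hn (g := 1) ?_ (by rw [map_one, one_mul, h])).1
    rcases he with he | he
    · left; rw [Prod.pow_snd, he, one_pow]
    · exact Or.inr he
  · rw [← map_pow, h, map_one]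

theorem mem_centralizer_outerPart (p : ℕ) [Fact p.Prime] [CharP F p] (hn : 2 ≤ n) (d : Outer)
    (g : GL (Fin n) F) :
    dia g ∈ Subgroup.centralizer {outerPart (n := n) d} ↔ g⁻¹ * twist d g ∈ Subgroup.center (GL (Fin n) F) := by
  rw [Subgroup.mem_centralizer_singleton_iff, ← ker_dia hn p, MonoidHom.mem_ker, map_mul, map_inv,
    inv_mul_eq_one]
  rw [outerPart_mul_dia]
  constructor
  · intro h
    exact mul_right_cancel h
  · intro h
    rw [h]

theorem exists_gl_det (hn : 1 ≤ n) (u : Fˣ) :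
    ∃ g : GL (Fin n) F, GeneralLinearGroup.det g = u := by
  refine ⟨diag1n ⟨0, hn⟩ u, Units.ext ?_⟩
  show (Matrix.diagonal fun k : Fin n => if k = ⟨0, hn⟩ then (u : F) else 1).det = u
  simp [Matrix.det_diagonal]

theorem det_center {g : GL (Fin n) F} (hg : g ∈ Subgroup.center (GL (Fin n) F)) :
    GeneralLinearGroup.det g ∈ (powMonoidHom n : Fˣ →* Fˣ).range := by
  rw [GeneralLinearGroup.center_eq_range_scalar] at hg
  obtain ⟨u, rfl⟩ := hg
  refine ⟨u, Units.ext ?_⟩
  simp [Matrix.scalar_apply, Matrix.det_diagonal]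

/-- The split count of a standard automorphism whose centraliser is the image of `H`. -/
theorem splitClassCount_outerPart (p : ℕ) [Fact p.Prime] [CharP F p] (hn : 2 ≤ n) (d : Outer)
    (H : Subgroup (GL (Fin n) F)) (hfix : ∀ g ∈ H, twist d g = g)
    (hsurj : ∀ g, g⁻¹ * twist d g ∈ Subgroup.center (GL (Fin n) F) →
      ∃ h ∈ H, g⁻¹ * h ∈ Subgroup.center (GL (Fin n) F))
    (A : Subgroup Fˣ) (hA : H.map GeneralLinearGroup.det = A) :
    Cfsg.splitClassCount (Cfsg.inndiagPSL n F) (Cfsg.Inn PSLn) (outerPart d) =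
      Nat.gcd n ((Fintype.card F - 1) / Nat.card A) := by
  have hnorm : ∀ a ∈ (dia (n := n) (F := F)).range, ∀ k ∈ Cfsg.Inn PSLn, a * k * a⁻¹ ∈ Cfsg.Inn PSLn := by
    rintro a - _ ⟨y, rfl⟩
    exact ⟨a y, MulEquiv.ext fun z => by simp [MulAut.conj_apply]⟩
  rw [inndiag_eq, card_quot_conj _ _ inn_le_range hnorm]
  set C := (dia (n := n) (F := F)).range ⊓ Subgroup.centralizer {outerPart (n := n) d}
  set S := A ⊔ (powMonoidHom n : Fˣ →* Fˣ).range
  have hcomap : (C ⊔ Cfsg.Inn PSLn).comap dia = S.comap GeneralLinearGroup.det := by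
    apply le_antisymm
    · intro g hg
      have hle : C ⊔ Cfsg.Inn PSLn ≤ (S.comap GeneralLinearGroup.det).map dia := by
        refine sup_le ?_ ?_
        · rintro y ⟨⟨g, rfl⟩, hc⟩
          obtain ⟨h, hh, hz⟩ := hsurj g ((mem_centralizer_outerPart p hn d g).mp hc)
          refine ⟨g, ?_, rfl⟩
          show GeneralLinearGroup.det g ∈ S
          have hd : GeneralLinearGroup.det g = GeneralLinearGroup.det h *
              (GeneralLinearGroup.det (g⁻¹ * h))⁻¹ := by
            rw [map_mul, map_inv, _root_.mul_inv_rev, inv_inv, mul_inv_cancel_left]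
          rw [hd]
          exact mul_mem (Subgroup.mem_sup_left (hA ▸ Subgroup.mem_map_of_mem _ hh))
            (inv_mem (Subgroup.mem_sup_right (det_center hz)))
        · rintro _ ⟨y, rfl⟩
          obtain ⟨s, rfl⟩ := proj_surjective y
          refine ⟨Matrix.SpecialLinearGroup.toGL s, ?_, (conj_eq_dia s).symm⟩
          show GeneralLinearGroup.det (Matrix.SpecialLinearGroup.toGL s) ∈ S
          rw [show GeneralLinearGroup.det (Matrix.SpecialLinearGroup.toGL s) = 1 from Units.ext s.2]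
          exact one_mem S
      obtain ⟨g', hg', e⟩ := hle hg
      have hk : g'⁻¹ * g ∈ (dia (n := n) (F := F)).ker := by
        rw [MonoidHom.mem_ker, map_mul, map_inv, e, inv_mul_cancel]
      rw [ker_dia hn p] at hk
      show GeneralLinearGroup.det g ∈ S
      rw [show g = g' * (g'⁻¹ * g) by group, map_mul]
      exact mul_mem hg' (Subgroup.mem_sup_right (det_center hk))
    · intro g hg
      obtain ⟨a, ha, b, hb, hab⟩ := Subgroup.mem_sup.mp (show GeneralLinearGroup.det g ∈ S from hg)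
      rw [← hA] at ha
      obtain ⟨h, hh, rfl⟩ := ha
      obtain ⟨u, rfl⟩ := hb
      set z := GeneralLinearGroup.scalar (Fin n) u
      have hzc : z ∈ Subgroup.center (GL (Fin n) F) := by
        rw [GeneralLinearGroup.center_eq_range_scalar]; exact ⟨u, rfl⟩
      have hdz : GeneralLinearGroup.det z = powMonoidHom n u := Units.ext (by
        simp [z, Matrix.scalar_apply, Matrix.det_diagonal])
      obtain ⟨s, hs⟩ : (h * z)⁻¹ * g ∈ (Matrix.SpecialLinearGroup.toGL (n := Fin n) (R := F)).range := by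
        rw [range_toGL_eq_ker_det, MonoidHom.mem_ker, map_mul, map_inv, inv_mul_eq_one, map_mul, hdz, hab]
      show dia g ∈ C ⊔ Cfsg.Inn PSLn
      rw [show g = h * z * Matrix.SpecialLinearGroup.toGL s by rw [hs, mul_inv_cancel_left], map_mul, map_mul,
        dia_center hzc, mul_one]
      refine Subgroup.mul_mem_sup ⟨⟨h, rfl⟩, ?_⟩ ⟨proj s, conj_eq_dia s⟩
      show dia h ∈ Subgroup.centralizer {outerPart (n := n) d}
      rw [mem_centralizer_outerPart p hn, hfix h hh, inv_mul_cancel]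
      exact one_mem _
  have hdet : Function.Surjective (GeneralLinearGroup.det : GL (Fin n) F →* Fˣ) :=
    fun u => exists_gl_det (by omega) u
  rw [← Subgroup.index_comap, hcomap, Subgroup.index_comap_of_surjective _ hdet, index_sup_range_pow,
    natCard_units]

/-- The centraliser of a standard automorphism. -/
theorem nonempty_centralizer_iso (p : ℕ) [Fact p.Prime] [CharP F p] (hn : 2 ≤ n) (d : Outer)
    {K : Type*} [Group K] (j : K →* GL (Fin n) F) (hfix : ∀ k, twist d (j k) = j k)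
    (hsurj : ∀ g, g⁻¹ * twist d g ∈ Subgroup.center (GL (Fin n) F) →
      ∃ k, g⁻¹ * j k ∈ Subgroup.center (GL (Fin n) F))
    (Z : Subgroup K) [Z.Normal] (hZ : ∀ k, j k ∈ Subgroup.center (GL (Fin n) F) ↔ k ∈ Z) :
    Nonempty (↥(Cfsg.inndiagPSL n F ⊓ Subgroup.centralizer {outerPart (n := n) d}) ≃* K ⧸ Z) := by
  let ψ : K →* ↥(Cfsg.inndiagPSL n F ⊓ Subgroup.centralizer {outerPart (n := n) d}) :=
    (dia.comp j).codRestrict _ fun k => by
      refine ⟨by rw [SetLike.mem_coe, inndiag_eq]; exact ⟨j k, rfl⟩, ?_⟩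
      show dia (j k) ∈ Subgroup.centralizer {outerPart (n := n) d}
      rw [mem_centralizer_outerPart p hn, hfix, inv_mul_cancel]
      exact one_mem _
  have hsur : Function.Surjective ψ := by
    rintro ⟨y, hy, hc⟩
    rw [SetLike.mem_coe, inndiag_eq] at hy
    obtain ⟨g, rfl⟩ := hy
    obtain ⟨k, hk⟩ := hsurj g ((mem_centralizer_outerPart p hn d g).mp hc)
    refine ⟨k, Subtype.ext ?_⟩
    show dia (j k) = dia g
    rw [show j k = g * (g⁻¹ * j k) by group, map_mul, dia_center hk, mul_one]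
  have hker : ψ.ker = Z := by
    ext k
    rw [← hZ, ← ker_dia hn p, MonoidHom.mem_ker, MonoidHom.mem_ker]
    exact ⟨fun h => congrArg Subtype.val h, fun h => Subtype.ext h⟩
  exact ⟨((QuotientGroup.quotientMulEquivOfEq hker.symm).trans
    (QuotientGroup.quotientKerEquivOfSurjective ψ hsur)).symm⟩

end Cfsg.Agent.Lib.Classical.AutPSL
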